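import Cfsg.Agent.Lib.Sym9Three.Count
import Cfsg.Agent.S0659
import Cfsg.Agent.Lib.PComplement

set_option autoImplicit false
set_option linter.style.haveILetI false
set_option synthInstance.maxSize 4000
set_option maxHeartbeats 600000

/-!
The translations are normal when no sign change is realized.
-/

namespace CfsgLib.Sym9Three

open Subgroup

theorem zero_counts : (Finset.univ.filter fun m : Mon => inR 0 m.g = true ∧ m * rot 1 = rot 1 * m).card = 18 ∧
    (Finset.univ.filter fun m : Mon => inR 0 m.g = true ∧ True).card = 162 := by decide +kernel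

theorem rot4_noncomm : rot 4 * tr (1, 0, 0) ≠ tr (1, 0, 0) * rot 4 := by decide +kernel

theorem three_pow_big : ∀ i : ℕ, i ≤ 4 → 27 ≤ 3 ^ i → i = 3 ∨ i = 4 := by
  intro i hi h
  interval_cases i <;> simp_all

universe u

variable {G : Type u} [Group G] [Finite G]

namespace Frame

variable (F : Frame G)

/-- With no sign change the translations are normal. -/
theorem normal_of_zero (hk : F.k = 0) : F.J.Normal := by
  classical
  haveI : Fact (Nat.Prime 2) := ⟨Nat.prime_two⟩
  haveI : Fact (Nat.Prime 3) := ⟨Nat.prime_three⟩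
  have hgood : ∀ v : V3, v ≠ 0 → F.Good v := fun v hv => F.good hv (fun h => absurd (hk.symm.trans h) (by decide))
  have hCs : Nat.card (Subgroup.centralizer ({F.s} : Set G)) = 18 := by
    rw [F.card_cent F.rot_one_mem (fun g hg => F.cent_s (fun v hv _ => hgood v hv) hg), hk]
    exact zero_counts.1
  have hso : orderOf F.s = 2 := orderOf_eq_prime (by rw [pow_two, F.s_sq]) F.s_ne_one
  obtain ⟨Q, hQ⟩ := (IsPGroup.of_card (p := 2) (n := 1) (G := Subgroup.zpowers F.s)
    (by rw [Nat.card_zpowers, hso, pow_one])).exists_le_sylow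
  have hQs : (Q : Subgroup G) = Subgroup.zpowers F.s := by
    by_contra hne
    have hlt : (Subgroup.zpowers F.s).subgroupOf (Q : Subgroup G) < ⊤ :=
      lt_top_iff_ne_top.mpr fun e => hne (le_antisymm (Subgroup.subgroupOf_eq_top.mp e) hQ)
    haveI : Group.IsNilpotent (Q : Subgroup G) := Q.2.isNilpotent
    obtain ⟨⟨q, hqQ⟩, hqn, hqs⟩ := SetLike.exists_of_lt (Group.normalizerCondition_of_isNilpotent _ hlt)
    replace hqs : q ∉ Subgroup.zpowers F.s := hqs
    have hqc : q ∈ Subgroup.centralizer ({F.s} : Set G) := by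
      obtain ⟨i, hi⟩ := Subgroup.mem_zpowers_iff.mp
        ((Subgroup.mem_normalizer_iff.mp hqn ⟨F.s, hQ (Subgroup.mem_zpowers _)⟩).mp (Subgroup.mem_zpowers _))
      rw [← zpow_mod_orderOf, hso] at hi
      have h2 : i % 2 = 0 ∨ i % 2 = 1 := by omega
      rw [Subgroup.mem_centralizer_singleton_iff]
      rcases h2 with e | e <;> rw [Nat.cast_ofNat, e] at hi
      · rw [zpow_zero] at hi
        exact absurd (conj_eq_one_iff.mp hi.symm) F.s_ne_one
      · rw [zpow_one] at hi
        exact (mul_inv_eq_iff_eq_mul.mp hi.symm)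
    set I := (Q : Subgroup G) ⊓ Subgroup.centralizer ({F.s} : Set G) with hI
    obtain ⟨j, hj⟩ := (Q.2.to_le (inf_le_left : I ≤ (Q : Subgroup G))).exists_card_eq
    have hd := Subgroup.card_dvd_of_le (inf_le_right : I ≤ Subgroup.centralizer ({F.s} : Set G))
    rw [hj, hCs] at hd
    have hj1 : j ≤ 1 := by
      by_contra h
      exact absurd ((pow_dvd_pow 2 (by omega : 2 ≤ j)).trans hd) (by norm_num)
    have hle : Subgroup.zpowers F.s ≤ I := Subgroup.zpowers_le.mpr
      ⟨hQ (Subgroup.mem_zpowers _), Subgroup.mem_centralizer_singleton_iff.mpr rfl⟩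
    have e := Subgroup.eq_of_le_of_card_ge hle (by
      rw [hj, Nat.card_zpowers, hso]; exact (Nat.pow_le_pow_right (by norm_num) hj1).trans_eq (pow_one 2))
    exact hqs (e ▸ ⟨hqQ, hqc⟩)
  have hQcard : Nat.card (Q : Subgroup G) = 2 := by rw [hQs, Nat.card_zpowers, hso]
  have hQn : Subgroup.normalizer ((Q : Subgroup G) : Set G) ≤ Subgroup.centralizer ((Q : Subgroup G) : Set G) := by
    intro n hn
    rw [Subgroup.mem_centralizer_iff]
    intro z hz
    have h := (Subgroup.mem_normalizer_iff.mp hn F.s).mp (hQ (Subgroup.mem_zpowers _))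
    rw [hQs] at hz h
    have hlist : ∀ y ∈ Subgroup.zpowers F.s, y = 1 ∨ y = F.s := fun y hy => by
      obtain ⟨i, rfl⟩ := Subgroup.mem_zpowers_iff.mp hy
      rw [← zpow_mod_orderOf, hso]
      have : i % 2 = 0 ∨ i % 2 = 1 := by omega
      rcases this with e | e <;> rw [Nat.cast_ofNat, e] <;> simp
    rcases hlist z hz with rfl | rfl
    · rw [mul_one, one_mul]
    · rcases hlist _ h with e | e
      · exact absurd (conj_eq_one_iff.mp e) F.s_ne_one
      · exact (mul_inv_eq_iff_eq_mul.mp e).symm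
  obtain ⟨Q', O, hO, hOcompl⟩ := CfsgLib.hasNormalPComplement_of_normalizer_le_centralizer Q hQn
  haveI := hO
  have hQ'card : Nat.card (Q' : Subgroup G) = 2 := by rw [Q'.card_eq_multiplicity, ← Q.card_eq_multiplicity, hQcard]
  have hOi : O.index = 2 := by rw [hOcompl.symm.index_eq_card, hQ'card]
  have hOodd : ¬ 2 ∣ Nat.card O := by
    intro h
    apply Q'.not_dvd_index
    have : (Q' : Subgroup G).index = Nat.card O := hOcompl.index_eq_card
    rw [this]; exact h
  have hsO : F.s ∉ O := fun h => hOodd (hso ▸ Subgroup.orderOf_dvd_natCard O h)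
  have hJO : F.J ≤ O := by
    intro z hz
    obtain ⟨v, rfl⟩ := (F.mem_J z).mp hz
    show F.j v ∈ O
    have h := F.j_cube v
    have h2 := Subgroup.mul_self_mem_of_index_two hOi (F.j v)
    rw [show F.j v = (F.j v * F.j v)⁻¹ by rw [eq_inv_iff_mul_eq_one, ← mul_assoc, ← pow_three', h]]
    exact inv_mem h2
  set P := O ⊓ F.N with hPdef
  have hNcard : Nat.card F.N = 162 := by rw [F.card_N, hk]; exact zero_counts.2
  have hPcard : Nat.card P = 81 := by
    have h2 : (O.subgroupOf F.N).index = 2 := by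
      have hd : O.relIndex F.N ∣ 2 := hOi ▸ Subgroup.relIndex_dvd_index_of_normal O F.N
      rcases (Nat.dvd_prime Nat.prime_two).mp hd with h | h
      · exact absurd (Subgroup.relIndex_eq_one.mp h (F.el_mem_N F.rot_one_mem)) hsO
      · exact h
    have h := (O.subgroupOf F.N).card_mul_index
    rw [h2, hNcard] at h
    have e : Nat.card (O.subgroupOf F.N) = Nat.card P := by
      rw [hPdef, ← Subgroup.inf_subgroupOf_right, Nat.card_congr (Subgroup.subgroupOfEquivOfLe inf_le_right).toEquiv]
    omega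
  have hJP : F.J ≤ P := le_inf hJO F.J_le
  have hJuniq : ∀ A : Subgroup G, A ≤ P → (∀ a ∈ A, ∀ b ∈ A, a * b = b * a) → Nat.card A = 27 → A = F.J :=
    fun A hA hc h27 => F.eq_J (hA.trans inf_le_right) hc h27
  -- the subgroup is a Sylow subgroup of the complement
  set P' := P.subgroupOf O with hP'
  have hP'card : Nat.card P' = 81 := by
    rw [hP', Nat.card_congr (Subgroup.subgroupOfEquivOfLe inf_le_left).toEquiv, hPcard]
  obtain ⟨S, hS⟩ := (IsPGroup.of_card (p := 3) (n := 4) (G := P') hP'card).exists_le_sylow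
  have hSP : (S : Subgroup O) = P' := by
    by_contra hne
    have hlt : P'.subgroupOf (S : Subgroup O) < ⊤ :=
      lt_top_iff_ne_top.mpr fun e => hne (le_antisymm (Subgroup.subgroupOf_eq_top.mp e) hS)
    haveI : Group.IsNilpotent (S : Subgroup O) := S.2.isNilpotent
    obtain ⟨⟨g, hgS⟩, hgn, hgP⟩ := SetLike.exists_of_lt (Group.normalizerCondition_of_isNilpotent _ hlt)
    refine hgP ⟨g.2, F.mem_N_of_conj_le fun u => ?_⟩
    have hju : (⟨F.j u, hJO (F.j_mem u)⟩ : O) ∈ P' := hJP (F.j_mem u)
    exact ((Subgroup.mem_normalizer_iff.mp hgn ⟨_, hS hju⟩).mp hju).2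
  set JO := F.J.subgroupOf O with hJOdef
  set JS : Subgroup (S : Subgroup O) := JO.subgroupOf (S : Subgroup O) with hJS
  have hJS' : JO ≤ (S : Subgroup O) := fun z hz => hS (hJP hz)
  have hcardJS : Nat.card JS = 27 := by
    rw [hJS, Nat.card_congr (Subgroup.subgroupOfEquivOfLe hJS').toEquiv,
      Nat.card_congr (Subgroup.subgroupOfEquivOfLe hJO).toEquiv, F.card_J]
  have hcommJS : IsMulCommutative JS :=
    ⟨⟨fun a b => Subtype.ext (Subtype.ext (Subtype.ext (F.J_comm a.2 b.2)))⟩⟩
  have hmax : Cfsg.maxAbelianSubgroups (S : Subgroup O) = {JS} := by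
    have hbig : ∀ B : Subgroup (S : Subgroup O), IsMulCommutative B → 27 ≤ Nat.card B → B = JS := by
      intro B hB hcard
      set B' : Subgroup G := (B.map (S : Subgroup O).subtype).map O.subtype with hB'
      have hcB : Nat.card B' = Nat.card B := by
        rw [hB', Subgroup.card_map_of_injective O.subtype_injective,
          Subgroup.card_map_of_injective (S : Subgroup O).subtype_injective]
      have hBP : B' ≤ P := by
        rintro _ ⟨_, ⟨z, -, rfl⟩, rfl⟩
        exact (hSP ▸ z.2 : (z : O) ∈ P')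
      have hBc : ∀ a ∈ B', ∀ b ∈ B', a * b = b * a := by
        rintro _ ⟨_, ⟨a, ha, rfl⟩, rfl⟩ _ ⟨_, ⟨b, hb, rfl⟩, rfl⟩
        exact congrArg (fun z : (S : Subgroup O) => ((z : O) : G))
          (congrArg Subtype.val (hB.is_comm.comm (⟨a, ha⟩ : B) ⟨b, hb⟩))
      have hd := Subgroup.card_dvd_of_le hBP
      rw [hPcard, show (81 : ℕ) = 3 ^ 4 from rfl] at hd
      obtain ⟨i, hi, he⟩ := (Nat.dvd_prime_pow Nat.prime_three).mp hd
      have h34 : i = 3 ∨ i = 4 := by
        rw [hcB] at he
        rw [he] at hcard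
        exact three_pow_big i hi hcard
      have hB27 : Nat.card B' = 27 := by
        rcases h34 with rfl | rfl
        · exact he
        · exfalso
          have e : B' = P := Subgroup.eq_of_le_of_card_ge hBP (by rw [he, hPcard]; norm_num)
          -- the Sylow subgroup is not abelian
          have hrot : F.el (rot 4) ∈ P := by
            refine ⟨?_, F.el_mem_N (Sub_zero_le _ (by decide +kernel : rot 4 ∈ Sub 0))⟩
            have hmem : rot 4 ∈ Sub F.k := Sub_zero_le _ (by decide +kernel : rot 4 ∈ Sub 0)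
            have h2 := Subgroup.mul_self_mem_of_index_two hOi (F.el (rot 4))
            have h3 : F.el (rot 4) = (F.el (rot 4) * F.el (rot 4))⁻¹ := by
              rw [eq_inv_iff_mul_eq_one, ← mul_assoc, ← F.el_mul _ hmem _ hmem, ← F.el_mul _ (mul_mem hmem hmem) _ hmem,
                show rot 4 * rot 4 * rot 4 = (1 : Mon) by decide +kernel, F.el_one]
            show F.el (rot 4) ∈ O
            rw [h3]; exact Subgroup.inv_mem O h2
          have hc := hBc _ (e ▸ hrot) _ (e ▸ hJP (F.j_mem (1, 0, 0)))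
          have := (F.el_comm_iff (Sub_zero_le _ (by decide +kernel : rot 4 ∈ Sub 0)) (tr_mem_Sub _ _)).mp hc
          exact rot4_noncomm this
      have e : B' = F.J := hJuniq B' hBP hBc hB27
      refine Subgroup.eq_of_le_of_card_ge (fun z hz => ?_) (by rw [hcardJS, ← hB27, hcB])
      show ((z : O) : G) ∈ F.J
      rw [← e]
      exact ⟨_, ⟨z, hz, rfl⟩, rfl⟩
    ext B
    simp only [Cfsg.maxAbelianSubgroups, Set.mem_setOf_eq, Set.mem_singleton_iff]
    constructor
    · rintro ⟨hB, hBmax⟩
      exact hbig B hB (hcardJS ▸ hBmax JS hcommJS)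
    · rintro rfl
      refine ⟨hcommJS, fun D hD => ?_⟩
      by_contra h
      have := hbig D hD (by omega)
      subst this
      omega
  have hcenter : Cfsg.centerThompsonAOf (S : Subgroup O) = JO := by
    have e : Cfsg.thompsonSubgroupAOf (S : Subgroup O) = JO := by
      rw [Cfsg.thompsonSubgroupAOf, Cfsg.thompsonSubgroupA, hmax, sSup_singleton, hJS,
        Subgroup.map_subgroupOf_eq_of_le hJS']
    rw [Cfsg.centerThompsonAOf, e, inf_eq_left]
    exact fun z hz => Subgroup.mem_centralizer_iff.mpr fun w hw => Subtype.ext (F.J_comm hw hz)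
  have hNp : Cfsg.HasNormalPComplement 3
      ↥(Subgroup.normalizer ((Cfsg.centerThompsonAOf (S : Subgroup O) : Subgroup O) : Set O)) := by
    refine CfsgLib.hasNormalPComplement_of_isPGroup
      (IsPGroup.of_injective S.2 (Subgroup.inclusion fun n hn => ?_) (Subgroup.inclusion_injective _))
    rw [hcenter] at hn
    rw [hSP]
    refine ⟨n.2, F.mem_N_of_subset fun u => ?_⟩
    exact (Subgroup.mem_normalizer_iff.mp hn ⟨F.j u, hJO (F.j_mem u)⟩).mp (F.j_mem u)
  obtain ⟨S', U, hU, hcompl⟩ := Cfsg.Agent.S0659.result (by norm_num) S hNp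
  haveI := hU
  have hUcop : (Nat.card U).Coprime 3 := by
    rw [Nat.coprime_comm, Nat.prime_three.coprime_iff_not_dvd]
    intro h
    apply S'.not_dvd_index
    have : (S' : Subgroup O).index = Nat.card U := hcompl.index_eq_card
    rw [this]; exact h
  have hU1 : U = ⊥ := by
    have h := F.sig (U.map O.subtype) (by rw [Subgroup.card_map_of_injective O.subtype_injective]; exact hUcop)
      fun u => by
        refine Subgroup.eq_of_le_of_card_ge ?_ (by
          rw [Subgroup.card_map_of_injective (f := (MulAut.conj (F.j u)).toMonoidHom) (MulAut.conj _).injective])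
        rintro _ ⟨_, ⟨z, hz, rfl⟩, rfl⟩
        exact ⟨⟨F.j u, hJO (F.j_mem u)⟩ * z * ⟨F.j u, hJO (F.j_mem u)⟩⁻¹, hU.conj_mem z hz _, rfl⟩
    rwa [Subgroup.map_eq_bot_iff_of_injective _ O.subtype_injective] at h
  have hStop : (S : Subgroup O) = ⊤ := Subgroup.eq_top_of_card_eq _ (by
    have h := hcompl.card_mul
    rw [hU1, Subgroup.card_bot, one_mul] at h
    rw [S.card_eq_multiplicity, ← S'.card_eq_multiplicity, h])
  have hOP : O ≤ P := fun z hz => by
    have h : (⟨z, hz⟩ : O) ∈ P' := hSP ▸ hStop ▸ Subgroup.mem_top _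
    exact h
  exact F.J_normal fun g u => (hOP (hO.conj_mem _ (hJO (F.j_mem u)) g)).2

end Frame

end CfsgLib.Sym9Three
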