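import Cfsg.Agent.Lib.Sym9Three.Case2
import Cfsg.Agent.Lib.Sym9Three.Case0

set_option autoImplicit false
set_option linter.style.haveILetI false
set_option synthInstance.maxSize 4000
set_option maxHeartbeats 1000000

/-!
The translations are normal when the change of all three signs is realized.
-/

namespace CfsgLib.Sym9Three

open Subgroup

/-- The involutions exchanging two blocks without signs. -/
def swapsOne : Finset Mon :=
  Finset.univ.filter fun m => inR 1 m.g = true ∧ m * m = 1 ∧ (m.g = 1 ∨ m.g = 2 ∨ m.g = 3)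

/-- The union of the two classes. -/
def swapsInv : Finset Mon :=
  Finset.univ.filter fun m => inR 1 m.g = true ∧ m * m = 1 ∧ (m.g = 1 ∨ m.g = 2 ∨ m.g = 3 ∨ m.g = 42)

/-- The elements fused to the translation by all blocks. -/
def centClass : Finset Mon :=
  Finset.univ.filter fun m =>
    (m.g = 0 ∧ (m.v = xv ∨ m.v = -xv)) ∨ ((m.g = 4 ∨ m.g = 5) ∧ vsum m.v = 0)

theorem one_mem_swaps : ∀ m ∈ swapsOne, ∃ n : Mon, inR 1 n.g = true ∧ n * rot 1 = m * n := by decide +kernel

theorem inv_mem_swaps : ∀ m ∈ swapsInv, (∃ n : Mon, inR 1 n.g = true ∧ n * rot 1 = m * n) ∨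
    ∃ n : Mon, inR 1 n.g = true ∧ n * rot 42 = m * n := by decide +kernel

theorem one_classes : ∀ m : Mon, inR 1 m.g = true → m * m = 1 → m ≠ 1 →
    m ∈ swapsOne ∨ (∃ n : Mon, inR 1 n.g = true ∧ n * m = rot 43 * n) ∨
      ∃ n : Mon, inR 1 n.g = true ∧ n * m = rot 42 * n := by decide +kernel

theorem swapsInv_iff : ∀ m : Mon, inR 1 m.g = true → m * m = 1 → m ≠ 1 →
    (m ∈ swapsInv ↔ ¬ (m.g = 43 ∨ m.g = 44 ∨ m.g = 45)) := by decide +kernel

theorem us_class : ∀ m : Mon, inR 1 m.g = true → m * m = 1 → (m.g = 43 ∨ m.g = 44 ∨ m.g = 45) →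
    ∃ n : Mon, inR 1 n.g = true ∧ n * m = rot 43 * n := by decide +kernel

theorem one_counts : (Finset.univ.filter fun m : Mon => inR 1 m.g = true ∧ m * rot 1 = rot 1 * m).card = 36 ∧
    (Finset.univ.filter fun m : Mon => inR 1 m.g = true ∧ True).card = 324 ∧ centClass.card = 20 := by decide +kernel

theorem one_traces : ∑ a ∈ swapsOne, ∑ b ∈ swapsOne, fP (a * b) = (0, 0) ∧
    ∑ a ∈ swapsInv, ∑ b ∈ swapsInv, fP (a * b) = (729, 0) := by decide +kernel

theorem one_norm :
    ∑ m ∈ Finset.univ.filter (fun m : Mon => inR 0 m.g = true), zmul (fP m) (zconj (FP 1 m)) = (486, 0) := by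
  decide +kernel

theorem FP_one_tr : ∀ v : V3, vsum v ≠ 0 → fP (tr v) ≠ (0, 0) ∧ FP 1 (tr v) = (3, 0) := by decide +kernel

theorem cent_s_three : ∀ m : Mon, inR 1 m.g = true → m * rot 1 = rot 1 * m → m * m * m = 1 →
    m.g = 0 ∧ m.v.1 = m.v.2.1 := by decide +kernel

theorem cent_line_three : ∀ v : V3, v.1 = v.2.1 → v ≠ 0 → v ≠ xv → v ≠ -xv → ∀ m : Mon, inR 1 m.g = true →
    m * m * m = 1 → m * tr v = tr v * m → m.g = 0 := by decide +kernel

theorem s_us_sep : ∀ m : Mon, inR 1 m.g = true → m * rot 1 ≠ rot 43 * m := by decide +kernel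

theorem commutator_sum : ∀ r : Fin 48, inR 1 r = true → vsum (act r (1, 0, 0) - (1, 0, 0)) = 0 → r.val < 6 := by
  decide +kernel

theorem order_three_cases : ∀ m : Mon, inR 1 m.g = true → m * m * m = 1 → m ≠ 1 →
    m ∈ centClass ∨ (m.g = 0 ∧ m.v ≠ 0 ∧ m.v ≠ xv ∧ m.v ≠ -xv) := by decide +kernel

theorem centClass_facts : ∀ m ∈ centClass, inR 1 m.g = true ∧ m.g.val < 6 ∧
    ((m = tr xv ∨ ∃ n : Mon, inR 1 n.g = true ∧ n * tr xv = m * n) ∨
      ∃ n : Mon, inR 1 n.g = true ∧ n * rot 4 = m * n) := by decide +kernel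

theorem xv_line : ∀ r : Fin 48, act r xv = xv ∨ act r xv = -xv ∨ inR 1 r = false := by decide +kernel

theorem central_three : ∀ m : Mon, inR 1 m.g = true → m * m * m = 1 → m ≠ 1 →
    (m * tr (1, 2, 0) = tr (1, 2, 0) * m) → (m * rot 4 = rot 4 * m ∨ m * rot 5 = rot 5 * m) →
      m.g = 0 ∧ (m.v = xv ∨ m.v = -xv) := by decide +kernel

theorem one_arith (a α κ : ℤ) (ha : a ≠ 0) (ha' : a ≠ -1) (hb : 1 + α ^ 2 + (1 + α) ^ 2 ≤ 36)
    (h : κ * (α - a) ^ 2 = 18 * (a * (1 + a))) (hκ : 1 ≤ κ) (hm : κ % 27 = 10) : κ = 10 := by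
  have hα1 : -4 ≤ α := by nlinarith
  have hα2 : α ≤ 3 := by nlinarith
  by_contra hne
  have h37 : 37 ≤ κ := by omega
  have hh : 37 * (α - a) ^ 2 ≤ 18 * (a * (1 + a)) := by nlinarith [sq_nonneg (α - a)]
  have ha1 : -20 ≤ a := by nlinarith
  have ha2 : a ≤ 20 := by nlinarith
  interval_cases α <;> interval_cases a <;> simp at hh h <;> omega

universe u

variable {G : Type u} [Group G]

namespace Frame

variable (F : Frame G)

theorem el_cube_one {m : Mon} (hm : m ∈ Sub F.k) : F.el m ^ 3 = 1 ↔ m * m * m = 1 := by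
  rw [pow_three', ← F.el_mul _ hm _ hm, ← F.el_mul _ (mul_mem hm hm) _ hm]
  exact ⟨fun h => F.el_inj _ (mul_mem (mul_mem hm hm) hm) 1 (one_mem _) (h.trans F.el_one.symm),
    fun h => by rw [h, F.el_one]⟩

theorem conj_cube {g z : G} (h : z ^ 3 = 1) : (g⁻¹ * z * g) ^ 3 = 1 := by
  have := conj_pow (i := 3) (a := g⁻¹) (b := z)
  rw [inv_inv] at this
  rw [this, h]; group

variable [Finite G]

/-- An element normalizing the translations if it maps the translation by all blocks to a translation by all blocks. -/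
theorem mem_N_of_xv (hk : F.k = 1) {g : G} (h : g * F.j xv * g⁻¹ = F.j xv ∨ g * F.j xv * g⁻¹ = F.j (-xv)) :
    g ∈ F.N := by
  have hx : xv ≠ (0 : V3) := by decide +kernel
  have hgood : ∀ v : V3, v ≠ 0 → F.Good v := fun v hv => F.good hv (fun h => absurd (hk.symm.trans h) (by decide))
  rcases h with h | h <;> exact F.ctrl_source (hgood _ hx) h

/-- The swap and its product with the change of all signs are not conjugate. -/
theorem s_not_us (hk : F.k = 1) : ¬ IsConj F.s (F.el (rot 43)) := by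
  intro h
  have hgood : ∀ v : V3, v ≠ 0 → F.Good v := fun v hv => F.good hv (fun h => absurd (hk.symm.trans h) (by decide))
  have hmem : ∀ m : Mon, m ∈ Sub F.k ↔ inR 1 m.g = true := fun m => by rw [hk]; rfl
  have h43 : rot 43 ∈ Sub F.k := (hmem _).mpr (by decide +kernel)
  obtain ⟨g, hg⟩ := isConj_iff.mp h
  have hy0 : ((1, 2, 0) : V3) ≠ 0 := by decide +kernel
  set y := g⁻¹ * F.j (1, 2, 0) * g with hy
  have hys : y * F.s = F.s * y := by
    have hc : F.j (1, 2, 0) * F.el (rot 43) = F.el (rot 43) * F.j (1, 2, 0) :=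
      (F.el_comm_iff (tr_mem_Sub _ _) h43).mpr (by decide +kernel)
    rw [← hg] at hc
    calc y * F.s = g⁻¹ * (F.j (1, 2, 0) * (g * F.s * g⁻¹)) * g := by rw [hy]; group
      _ = F.s * y := by rw [hc, hy]; group
  obtain ⟨m, hm, e⟩ := (F.mem_N y).mp (F.cent_s (fun v hv _ => hgood v hv) hys)
  have h3 : F.el m ^ 3 = 1 := by rw [e]; exact conj_cube (F.j_cube _)
  have hms : m * rot 1 = rot 1 * m := (F.el_comm_iff hm F.rot_one_mem).mp (by rw [e]; exact hys)
  obtain ⟨hg0, -⟩ := cent_s_three m ((hmem m).mp hm) hms ((F.el_cube_one hm).mp h3)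
  have hgN : g ∈ F.N := F.ctrl_target (v := m.v) (v' := (1, 2, 0)) (hgood _ hy0) (by
    rw [j, show tr m.v = m by conv_rhs => rw [mon_split m, hg0, show rot 0 = (1 : Mon) from rfl, mul_one], e, hy]
    group)
  obtain ⟨n, hn, rfl⟩ := (F.mem_N g).mp hgN
  refine s_us_sep n ((hmem n).mp hn) (F.el_inj _ (mul_mem hn F.rot_one_mem) _ (mul_mem h43 hn) ?_)
  rw [F.el_mul _ hn _ F.rot_one_mem, F.el_mul _ h43 _ hn, ← hg]
  group

/-- The subgroup obtained when the exceptional character does not separate the swaps. -/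
theorem normal_of_kernel (hk : F.k = 1) [Fintype G] {K : Subgroup G} (hK : K.Normal) (hsK : F.s ∈ K)
    (h0 : ∀ g ∈ K, F.bigF g = 0) : F.J.Normal := by
  classical
  have hgood : ∀ v : V3, v ≠ 0 → F.Good v := fun v hv => F.good hv (fun h => absurd (hk.symm.trans h) (by decide))
  have hmem : ∀ m : Mon, m ∈ Sub F.k ↔ inR 1 m.g = true := fun m => by rw [hk]; rfl
  have hv0 : ∀ v : V3, F.j v ∈ K → vsum v = 0 := by
    intro v hv
    by_contra hne
    obtain ⟨h1, h2⟩ := FP_one_tr v hne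
    have h := h0 _ hv
    rw [j, F.bigF_el hgood (tr_mem_Sub 0 v) h1, hk, h2] at h
    norm_num [zval] at h
  have hcomm : ∀ m ∈ Sub F.k, F.el m ∈ K → ∀ v, F.j (act m.g v - v) ∈ K := by
    intro m hm hmK v
    rw [sub_eq_add_neg, F.j_add, F.j_neg, ← F.el_conj hm, mul_assoc, mul_assoc, ← mul_assoc (F.j v)]
    exact mul_mem hmK (hK.conj_mem _ (inv_mem hmK) _)
  have hKN : ∀ z ∈ K, z ∈ F.N → ∃ m ∈ Sub 0, F.el m = z := by
    intro z hz hzN
    obtain ⟨m, hm, rfl⟩ := (F.mem_N z).mp hzN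
    exact ⟨m, (pt_facts.2.2.2.2 _).mpr (commutator_sum _ ((hmem m).mp hm) (hv0 _ (hcomm m hm hz _))), rfl⟩
  -- the subgroup without sign changes
  set G1 := K ⊔ F.C with hG1
  haveI := hK
  have hC : ∀ m ∈ Sub 0, F.el m ∈ G1 := fun m hm => le_sup_right (a := K) ((F.mem_C_iff _).mpr ⟨m, hm, rfl⟩)
  have hG1N : ∀ z ∈ G1, z ∈ F.N → ∃ m ∈ Sub 0, F.el m = z := by
    intro z hz hzN
    obtain ⟨k, hkK, c, hc, rfl⟩ := Subgroup.mem_sup_of_normal_left.mp hz
    obtain ⟨q, hq, rfl⟩ := (F.mem_C_iff c).mp hc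
    have hkN : k ∈ F.N := by
      have := mul_mem hzN (inv_mem (F.el_mem_N (Sub_zero_le _ hq)))
      rwa [mul_inv_cancel_right] at this
    obtain ⟨p, hp, rfl⟩ := hKN k hkK hkN
    exact ⟨p * q, mul_mem hp hq, F.el_mul _ (Sub_zero_le _ hp) _ (Sub_zero_le _ hq)⟩
  let F1 : Frame G1 :=
    { k := 0
      el := fun m => if h : F.el m ∈ G1 then ⟨F.el m, h⟩ else 1
      el_mul := fun a ha b hb => by
        rw [dif_pos (hC _ (mul_mem ha hb)), dif_pos (hC _ ha), dif_pos (hC _ hb)]
        exact Subtype.ext (F.el_mul _ (Sub_zero_le _ ha) _ (Sub_zero_le _ hb))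
      el_inj := fun a ha b hb e => by
        rw [dif_pos (hC _ ha), dif_pos (hC _ hb)] at e
        exact F.el_inj _ (Sub_zero_le _ ha) _ (Sub_zero_le _ hb) (congrArg Subtype.val e)
      J := F.J.subgroupOf G1
      mem_J := fun g => by
        rw [Subgroup.mem_subgroupOf, F.mem_J]
        refine exists_congr fun v => ?_
        rw [dif_pos (hC _ (tr_mem_Sub 0 v))]
        exact ⟨fun e => Subtype.ext e, fun e => congrArg Subtype.val e⟩
      mem_N := fun g => by
        constructor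
        · intro hg
          have hgN : (g : G) ∈ F.N := F.mem_N_of_subset fun u =>
            (Subgroup.mem_normalizer_iff.mp hg ⟨F.j u, hC _ (tr_mem_Sub 0 u)⟩).mp (F.j_mem u)
          obtain ⟨m, hm, e⟩ := hG1N g g.2 hgN
          exact ⟨m, hm, by rw [dif_pos (hC _ hm)]; exact Subtype.ext e⟩
        · rintro ⟨m, hm, rfl⟩
          rw [dif_pos (hC _ hm)]
          rw [Subgroup.mem_normalizer_iff]
          intro z
          rw [Subgroup.mem_subgroupOf, Subgroup.mem_subgroupOf]
          exact Subgroup.mem_normalizer_iff.mp (F.el_mem_N (Sub_zero_le _ hm)) _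
      cent := fun g hg => by
        rw [dif_pos (hC _ (tr_mem_Sub 0 xv))] at hg
        obtain ⟨m, hm, e⟩ := F.cent g (congrArg Subtype.val hg)
        exact ⟨m, hm, by rw [dif_pos (hC _ hm)]; exact Subtype.ext e⟩
      sig := fun U hU hfix => by
        have h := F.sig (U.map G1.subtype) (by rwa [Subgroup.card_map_of_injective G1.subtype_injective]) fun v => by
          conv_rhs => rw [← hfix v]
          rw [dif_pos (hC _ (tr_mem_Sub 0 v)), Subgroup.map_map, Subgroup.map_map]
          rfl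
        rwa [Subgroup.map_eq_bot_iff_of_injective _ G1.subtype_injective] at h }
  have hn : (F.J.subgroupOf G1).Normal := F1.normal_of_zero rfl
  have hKle : ∀ z ∈ K, ∃ m ∈ Sub 0, F.el m = z := by
    intro z hz
    refine hKN z hz (F.mem_N_of_subset fun u => ?_)
    exact hn.conj_mem (⟨F.j u, hC _ (tr_mem_Sub 0 u)⟩ : G1) (F.j_mem u) ⟨z, le_sup_left (b := F.C) hz⟩
  -- the conjugates of the central translation
  have h1 : F.j (1, 2, 0) ∈ K := by
    have := hcomm (rot 1) F.rot_one_mem hsK (0, 1, 0)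
    rwa [show act (rot 1).g (0, 1, 0) - (0, 1, 0) = ((1, 2, 0) : V3) by decide +kernel] at this
  have hs2 : F.el (rot 2) ∈ K := by
    have hr : rot 3 ∈ Sub F.k := (hmem _).mpr (by decide +kernel)
    have h2 : rot 2 ∈ Sub F.k := (hmem _).mpr (by decide +kernel)
    rw [← F.el_conj_of hr F.rot_one_mem h2 (by decide +kernel)]
    exact hK.conj_mem _ hsK _
  have h12 : ∀ v : V3, vsum v = 0 → F.j v ∈ K := by
    intro v hv
    have h01 : F.j (0, 1, 2) ∈ K := by
      have := hcomm (rot 2) ((hmem _).mpr (by decide +kernel)) hs2 (0, 0, 1)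
      rwa [show act (rot 2).g (0, 0, 1) - (0, 0, 1) = ((0, 1, 2) : V3) by decide +kernel] at this
    obtain ⟨a, b, e⟩ := (by decide +kernel : ∀ v : V3, vsum v = 0 → ∃ a b : Fin 3,
      v = a.val • ((1, 2, 0) : V3) + b.val • ((0, 1, 2) : V3)) v hv
    have hp : ∀ (n : ℕ) (u : V3), F.j u ∈ K → F.j (n • u) ∈ K := by
      intro n u hu
      induction n with
      | zero => rw [zero_smul, F.j_zero]; exact one_mem K
      | succ n ih => rw [succ_nsmul, F.j_add]; exact mul_mem ih hu
    rw [e, F.j_add]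
    exact mul_mem (hp _ _ h1) (hp _ _ h01)
  have hxK : F.j xv ∈ K := h12 _ (by decide +kernel)
  have hρK : F.el (rot 1 * rot 2) ∈ K := by
    rw [F.el_mul _ F.rot_one_mem _ ((hmem _).mpr (by decide +kernel))]
    exact mul_mem hsK hs2
  have hρ : rot 1 * rot 2 = rot 4 ∨ rot 1 * rot 2 = rot 5 := by decide +kernel
  refine F.normal_of_top fun g => F.mem_N_of_xv hk ?_
  obtain ⟨m, hm, e⟩ := hKle _ (hK.conj_mem _ hxK g)
  have km := Sub_zero_le F.k hm
  have hkey : ∀ q ∈ Sub 0, q * q * q = 1 → F.el q ∈ K → m * q = q * m := by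
    intro q hq hq3 hqK
    obtain ⟨p, hp, ep⟩ := hKle _ (hK.conj_mem _ hqK g⁻¹)
    have hc := (F.el_comm_iff (Sub_zero_le _ hp) (tr_mem_Sub _ _)).mpr (sub0_comm_xv hp)
    rw [ep, inv_inv] at hc
    refine (F.el_comm_iff km (Sub_zero_le _ hq)).mp ?_
    rw [e]
    calc g * F.j xv * g⁻¹ * F.el q = g * (F.j xv * (g⁻¹ * F.el q * g)) * g⁻¹ := by group
      _ = g * (g⁻¹ * F.el q * g * F.j xv) * g⁻¹ := by rw [hc]
      _ = F.el q * (g * F.j xv * g⁻¹) := by group
  have hm3 : m * m * m = 1 := (F.el_cube_one km).mp (by rw [e, conj_pow, F.j_cube]; group)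
  have hm1 : m ≠ 1 := fun h => by
    rw [h, F.el_one, eq_comm, conj_eq_one_iff] at e
    exact F.j_ne_one (by decide +kernel) e
  have c1 := hkey (tr (1, 2, 0)) (tr_mem_Sub _ _) (by decide +kernel) h1
  have c2 : m * rot 4 = rot 4 * m ∨ m * rot 5 = rot 5 * m := by
    rcases hρ with h | h <;> rw [h] at hρK
    · exact Or.inl (hkey _ (by decide +kernel) (by decide +kernel) hρK)
    · exact Or.inr (hkey _ (by decide +kernel) (by decide +kernel) hρK)
  obtain ⟨hg0, hv⟩ := central_three m ((hmem m).mp km) hm3 hm1 c1 c2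
  have hmv : m = tr m.v := by conv_lhs => rw [mon_split m, hg0, show rot 0 = (1 : Mon) from rfl, mul_one]
  rw [← e, hmv]
  rcases hv with h | h
  · exact Or.inl (by rw [h])
  · exact Or.inr (by rw [h])

/-- The change of all signs conjugate to the swap forces the central translation to fuse with a cycle of blocks. -/
theorem cycle_conj_xv (hk : F.k = 1) (h : IsConj F.s (F.el (rot 42))) : IsConj (F.j xv) (F.el (rot 4)) := by
  have hgood : ∀ v : V3, v ≠ 0 → F.Good v := fun v hv => F.good hv (fun h => absurd (hk.symm.trans h) (by decide))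
  have hmem : ∀ m : Mon, m ∈ Sub F.k ↔ inR 1 m.g = true := fun m => by rw [hk]; rfl
  have h42 : rot 42 ∈ Sub F.k := (hmem _).mpr (by decide +kernel)
  have h4 : rot 4 ∈ Sub F.k := (hmem _).mpr (by decide +kernel)
  obtain ⟨g, hg⟩ := isConj_iff.mp h
  set a := g⁻¹ * F.el (rot 4) * g with ha
  have has : a * F.s = F.s * a := by
    have hc : F.el (rot 4) * F.el (rot 42) = F.el (rot 42) * F.el (rot 4) :=
      (F.el_comm_iff h4 h42).mpr (by decide +kernel)
    rw [← hg] at hc
    calc a * F.s = g⁻¹ * (F.el (rot 4) * (g * F.s * g⁻¹)) * g := by rw [ha]; group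
      _ = F.s * a := by rw [hc, ha]; group
  obtain ⟨m, hm, e⟩ := (F.mem_N a).mp (F.cent_s (fun v hv _ => hgood v hv) has)
  have hm3 : m * m * m = 1 := (F.el_cube_one hm).mp (by
    rw [e]; exact conj_cube ((F.el_cube_one h4).mpr (by decide +kernel)))
  obtain ⟨hg0, hv⟩ := cent_s_three m ((hmem m).mp hm) ((F.el_comm_iff hm F.rot_one_mem).mp (by rw [e]; exact has)) hm3
  have hmv : m = tr m.v := by conv_lhs => rw [mon_split m, hg0, show rot 0 = (1 : Mon) from rfl, mul_one]
  have hv0 : m.v ≠ 0 := fun h0 => by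
    rw [hmv, h0, tr_zero, F.el_one] at e
    have e' : F.el (rot 4) = 1 := by
      have := congrArg (fun z => g * z * g⁻¹) e
      simp only [ha, mul_one, mul_inv_cancel] at this
      rw [this]; group
    exact absurd (congrArg Mon.g (F.el_inj _ h4 1 (one_mem _) (e'.trans F.el_one.symm))) (by decide)
  have hxmem : (F.j xv) * F.el (rot 4) = F.el (rot 4) * F.j xv :=
    (F.el_comm_iff (tr_mem_Sub _ _) h4).mpr (by decide +kernel)
  have hgconj : IsConj (F.el (rot 4)) (F.j m.v) :=
    isConj_iff.mpr ⟨g⁻¹, by rw [inv_inv, j, ← hmv, e, ha]⟩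
  by_cases hx : m.v = xv
  · exact (hx ▸ hgconj).symm
  by_cases hx' : m.v = -xv
  · refine IsConj.trans (F.isConj_el (n := rot 42) h42 (tr_mem_Sub _ xv) (tr_mem_Sub _ (-xv)) (by decide +kernel)) ?_
    exact (hx' ▸ hgconj).symm
  exfalso
  have hyc : g⁻¹ * F.j xv * g * F.j m.v = F.j m.v * (g⁻¹ * F.j xv * g) := by
    rw [j, j, ← hmv, e, ha]
    calc g⁻¹ * F.el (tr xv) * g * (g⁻¹ * F.el (rot 4) * g) = g⁻¹ * (F.el (tr xv) * F.el (rot 4)) * g := by group
      _ = g⁻¹ * (F.el (rot 4) * F.el (tr xv)) * g := by rw [show F.el (tr xv) * F.el (rot 4) = _ from hxmem]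
      _ = g⁻¹ * F.el (rot 4) * g * (g⁻¹ * F.el (tr xv) * g) := by group
  obtain ⟨p, hp, ep⟩ := (F.mem_N _).mp (hgood _ hv0 _ hyc)
  have hp3 : p * p * p = 1 := (F.el_cube_one hp).mp (by rw [ep]; exact conj_cube (F.j_cube _))
  have hp0 := cent_line_three m.v hv hv0 hx hx' p ((hmem p).mp hp) hp3
    ((F.el_comm_iff hp (tr_mem_Sub _ _)).mp (by rw [ep]; exact hyc))
  have hgN : g⁻¹ ∈ F.N := F.ctrl_source (v := xv) (v' := p.v) (hgood _ (by decide +kernel)) (by
    rw [inv_inv, ← ep]
    congr 1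
    conv_lhs => rw [mon_split p, hp0, show rot 0 = (1 : Mon) from rfl, mul_one])
  have haJ : F.el (rot 4) ∈ F.J := by
    have hj : g⁻¹ * F.el (rot 4) * g ∈ F.J := by
      rw [← ha, ← e, hmv]
      exact F.j_mem _
    refine (Subgroup.mem_normalizer_iff.mp hgN (F.el (rot 4))).mpr ?_
    rw [inv_inv]
    exact hj
  obtain ⟨w, hw⟩ := (F.mem_J _).mp haJ
  have h04 : (0 : Fin 48) = 4 := congrArg Mon.g (F.el_inj _ (tr_mem_Sub _ _) _ h4 hw)
  exact absurd h04 (by decide)

/-- The translations are normal when the change of all signs is realized. -/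
theorem normal_of_one (hk : F.k = 1) : F.J.Normal := by
  classical
  haveI := Fintype.ofFinite G
  have hgood : ∀ v : V3, v ≠ 0 → F.Good v := fun v hv => F.good hv (fun h => absurd (hk.symm.trans h) (by decide))
  have hmem : ∀ m : Mon, m ∈ Sub F.k ↔ inR 1 m.g = true := fun m => by rw [hk]; rfl
  have hC : Nat.card (Subgroup.centralizer ({F.s} : Set G)) = 36 := by
    rw [F.card_cent F.rot_one_mem (fun g hg => F.cent_s (fun v hv _ => hgood v hv) hg), hk]
    exact one_counts.1
  have h42 : rot 42 ∈ Sub F.k := (hmem _).mpr (by decide +kernel)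
  have h43 : rot 43 ∈ Sub F.k := (hmem _).mpr (by decide +kernel)
  have h4 : rot 4 ∈ Sub F.k := (hmem _).mpr (by decide +kernel)
  have hnorm := one_norm
  rw [← hk] at hnorm
  by_cases hu : IsConj F.s (F.el (rot 42))
  swap
  · have hS : ∀ m, m ∈ swapsOne ↔ m ∈ Sub F.k ∧ IsConj F.s (F.el m) := by
      intro m
      constructor
      · intro h
        obtain ⟨n, hn, e⟩ := one_mem_swaps m h
        have hm := (hmem _).mpr (Finset.mem_filter.mp h).2.1
        exact ⟨hm, F.isConj_el ((hmem _).mpr hn) F.rot_one_mem hm e⟩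
      · rintro ⟨hm, hc⟩
        obtain ⟨h2, h1⟩ := F.invol_of_isConj F.s_sq F.s_ne_one hm hc
        rcases one_classes m ((hmem _).mp hm) h2 h1 with h | ⟨n, hn, e⟩ | ⟨n, hn, e⟩
        · exact h
        · exact absurd (hc.trans (F.isConj_el ((hmem _).mpr hn) hm h43 e)) (F.s_not_us hk)
        · exact absurd (hc.trans (F.isConj_el ((hmem _).mpr hn) hm h42 e)) hu
    obtain ⟨a, α, -, -, -, heq, hker⟩ := F.char_step hgood hnorm F.s_sq swapsOne hS 0 one_traces.1
    have hαa : α = a := by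
      rw [zero_mul, zero_mul, mul_eq_zero] at heq
      rcases heq with h | h
      · have : (0 : ℤ) < Nat.card G := by exact_mod_cast Nat.card_pos
        linarith
      · have := pow_eq_zero_iff (n := 2) (by norm_num) |>.mp h
        linarith
    obtain ⟨K, hK, hsK, h0⟩ := hker hαa
    exact F.normal_of_kernel hk hK hsK h0
  have hS : ∀ m, m ∈ swapsInv ↔ m ∈ Sub F.k ∧ IsConj F.s (F.el m) := by
    intro m
    constructor
    · intro h
      have hm := (hmem _).mpr (Finset.mem_filter.mp h).2.1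
      rcases inv_mem_swaps m h with ⟨n, hn, e⟩ | ⟨n, hn, e⟩
      · exact ⟨hm, F.isConj_el ((hmem _).mpr hn) F.rot_one_mem hm e⟩
      · exact ⟨hm, hu.trans (F.isConj_el ((hmem _).mpr hn) h42 hm e)⟩
    · rintro ⟨hm, hc⟩
      obtain ⟨h2, h1⟩ := F.invol_of_isConj F.s_sq F.s_ne_one hm hc
      refine (swapsInv_iff m ((hmem _).mp hm) h2 h1).mpr fun hus => ?_
      obtain ⟨n, hn, e⟩ := us_class m ((hmem _).mp hm) h2 hus
      exact F.s_not_us hk (hc.trans (F.isConj_el ((hmem _).mpr hn) hm h43 e))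
  obtain ⟨a, α, ha, ha', hb, heq, -⟩ := F.char_step hgood hnorm F.s_sq swapsInv hS 729 one_traces.2
  rw [hC] at hb heq
  have hN : Nat.card F.N = 324 := by rw [F.card_N, hk]; exact one_counts.2.1
  have hG : Nat.card G = F.N.index * 324 := by rw [← hN, Subgroup.index_mul_card]
  rw [hG] at heq
  push_cast at hb heq
  have hσ := F.cycle_conj_xv hk hu
  -- the conjugates of the central translation in the normalizer
  have hcl : ∀ z ∈ F.N, IsConj (F.j xv) z ↔ ∃ m ∈ centClass, F.el m = z := by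
    intro z hz
    obtain ⟨m, hm, rfl⟩ := (F.mem_N z).mp hz
    constructor
    · intro hc
      obtain ⟨g, hg⟩ := isConj_iff.mp hc
      have hm3 : m * m * m = 1 := (F.el_cube_one hm).mp (by rw [← hg, conj_pow, F.j_cube]; group)
      have hm1 : m ≠ 1 := fun h => by
        rw [h, F.el_one, conj_eq_one_iff] at hg
        exact F.j_ne_one (by decide +kernel) hg
      rcases order_three_cases m ((hmem m).mp hm) hm3 hm1 with h | ⟨h0, h1, h2, h3⟩
      · exact ⟨m, h, rfl⟩
      · exfalso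
        have hmv : m = tr m.v := by conv_lhs => rw [mon_split m, h0, show rot 0 = (1 : Mon) from rfl, mul_one]
        rw [hmv] at hg
        obtain ⟨n, hn, rfl⟩ := (F.mem_N g).mp (F.ctrl_source (v := xv) (v' := m.v) (hgood _ (by decide +kernel)) hg)
        rw [F.el_conj hn] at hg
        rcases xv_line n.g with e | e | e
        · exact h2 ((F.j_inj hg).symm.trans e)
        · exact h3 ((F.j_inj hg).symm.trans e)
        · exact absurd ((hmem n).mp hn) (by rw [e]; simp)
    · rintro ⟨p, hp, e⟩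
      rw [← e]
      obtain ⟨hp1, -, (rfl | ⟨n, hn, en⟩) | ⟨n, hn, en⟩⟩ := centClass_facts p hp
      · exact IsConj.refl _
      · exact F.isConj_el ((hmem n).mpr hn) (tr_mem_Sub _ _) ((hmem p).mpr hp1) en
      · exact hσ.trans (F.isConj_el ((hmem n).mpr hn) h4 ((hmem p).mpr hp1) en)
  -- the fixed cosets
  set xJ : F.J := ⟨F.j xv, F.j_mem xv⟩
  have hfix : Nat.card {q : G ⧸ F.N // xJ • q = q} = 10 := by
    have hpre : Nat.card {g : G // g⁻¹ * F.j xv * g ∈ F.N} = 324 * Nat.card {q : G ⧸ F.N // xJ • q = q} := by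
      rw [← hN, ← Nat.card_prod]
      refine (Nat.card_congr (Equiv.subtypeEquivRight fun g => ?_)).trans
        (Nat.card_congr (QuotientGroup.preimageMkEquivSubgroupProdSet F.N {q | xJ • q = q}))
      exact (F.fix_iff xJ g).symm
    have hcount : Nat.card {g : G // g⁻¹ * F.j xv * g ∈ F.N} = 3240 := by
      rw [Nat.card_eq_fintype_card, Fintype.card_subtype,
        Finset.card_eq_sum_card_fiberwise (f := fun g => g⁻¹ * F.j xv * g) (t := centClass.image F.el) (fun g hg => by
          obtain ⟨m, hm, e⟩ := (hcl _ (Finset.mem_filter.mp (Finset.mem_coe.mp hg)).2).mp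
            (isConj_iff.mpr ⟨g⁻¹, by rw [inv_inv]⟩)
          exact Finset.mem_coe.mpr (Finset.mem_image.mpr ⟨m, hm, e⟩))]
      rw [Finset.sum_congr rfl (g := fun _ => 162) fun z hz => ?_, Finset.sum_const,
        Finset.card_image_of_injOn fun p hp q hq e => F.el_inj _
          ((hmem p).mpr (centClass_facts p (Finset.mem_coe.mp hp)).1) _
          ((hmem q).mpr (centClass_facts q (Finset.mem_coe.mp hq)).1) e, one_counts.2.2]
      · rfl
      obtain ⟨m, hm, rfl⟩ := Finset.mem_image.mp hz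
      have hzN := F.el_mem_N ((hmem m).mpr (centClass_facts m hm).1)
      obtain ⟨c, hc⟩ := isConj_iff.mp ((hcl _ hzN).mpr ⟨m, hm, rfl⟩)
      rw [← F.card_C, ← Nat.card_eq_finsetCard]
      refine Nat.card_congr ⟨fun g => ⟨(g : G) * c, ?_⟩, fun d => ⟨(d : G) * c⁻¹, ?_⟩, ?_, ?_⟩
      · obtain ⟨g, hg⟩ := g
        rw [Finset.mem_filter] at hg
        rw [Subgroup.mem_centralizer_singleton_iff]
        have h := hg.2
        rw [← hc] at h
        calc g * c * F.j xv = g * (c * F.j xv * c⁻¹) * c := by group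
          _ = F.j xv * (g * c) := by rw [← h]; group
      · have hd := Subgroup.mem_centralizer_singleton_iff.mp d.2
        have e : ((d : G) * c⁻¹)⁻¹ * F.j xv * ((d : G) * c⁻¹) = F.el m := by
          rw [← hc]
          calc ((d : G) * c⁻¹)⁻¹ * F.j xv * ((d : G) * c⁻¹) = c * ((d : G)⁻¹ * (F.j xv * d)) * c⁻¹ := by group
            _ = c * F.j xv * c⁻¹ := by rw [← hd]; group
        exact Finset.mem_filter.mpr ⟨Finset.mem_filter.mpr ⟨Finset.mem_univ _, e ▸ hzN⟩, e⟩
      · exact fun g => Subtype.ext (by simp)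
      · exact fun d => Subtype.ext (by simp)
    omega
  -- the other cosets lie in regular orbits
  have hfree : 27 ∣ Nat.card {q : G ⧸ F.N // xJ • q ≠ q} := by
    refine dvd_card_of_orbits (H := F.J) (fun q : G ⧸ F.N => xJ • q ≠ q) (fun a q hq e => hq ?_) 27 fun q hq => ?_
    · have hc : xJ * a = a * xJ := Subtype.ext (F.J_comm xJ.2 a.2)
      rw [← mul_smul, hc, mul_smul] at e
      exact MulAction.injective a e
    · obtain ⟨g, rfl⟩ := QuotientGroup.mk_surjective q
      have hg : g ∉ F.N := fun h => hq ((F.fix_iff xJ g).mpr (mul_mem (mul_mem (inv_mem h) (F.J_le xJ.2)) h))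
      have hbot : MulAction.stabilizer F.J (g : G ⧸ F.N) = ⊥ := by
        rw [Subgroup.eq_bot_iff_forall]
        intro a ha
        obtain ⟨u, hu⟩ := (F.mem_J _).mp a.2
        have hN' := (F.fix_iff a g).mp (MulAction.mem_stabilizer_iff.mp ha)
        by_contra hne
        have hu0 : u ≠ 0 := fun e => hne (Subtype.ext (by rw [← hu, e, tr_zero, F.el_one]; rfl))
        obtain ⟨p, hp, ep⟩ := (F.mem_N _).mp hN'
        have hp3 : p * p * p = 1 := (F.el_cube_one hp).mp (by rw [ep, ← hu]; exact conj_cube (F.j_cube u))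
        have hp1 : p ≠ 1 := fun h => by
          rw [h, F.el_one, eq_comm] at ep
          have := congrArg (fun z => g * z * g⁻¹) ep
          simp only [mul_one, mul_inv_cancel] at this
          exact hne (Subtype.ext (by rw [show (a : G) = g * (g⁻¹ * a * g) * g⁻¹ by group, this]; rfl))
        rcases order_three_cases p ((hmem p).mp hp) hp3 hp1 with h | ⟨h0, -⟩
        · have hxa : IsConj (F.j xv) (F.j u) := by
            refine ((hcl _ (F.el_mem_N hp)).mpr ⟨p, h, rfl⟩).trans (isConj_iff.mpr ⟨g, ?_⟩)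
            rw [ep, ← hu]; group
          obtain ⟨c, hc⟩ := isConj_iff.mp hxa
          obtain ⟨n, hn, rfl⟩ := (F.mem_N c).mp (F.ctrl_source (hgood _ (by decide +kernel)) hc)
          rw [F.el_conj hn] at hc
          apply hq
          rcases xv_line n.g with e | e | e
          · rwa [show a = xJ from Subtype.ext (by rw [← hu, ← F.j_inj hc, e])] at ha
          · have ha' : a⁻¹ = xJ := Subtype.ext (by
              show ((a : G))⁻¹ = F.j xv
              rw [← hu, show F.el (tr u) = F.j (-xv) by rw [← e, F.j_inj hc], F.j_neg, inv_inv])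
            rw [← ha']
            exact inv_mem ha
          · exact absurd ((hmem n).mp hn) (by rw [e]; simp)
        · refine hg ?_
          have hpv : p = tr p.v := by conv_lhs => rw [mon_split p, h0, show rot 0 = (1 : Mon) from rfl, mul_one]
          have := F.ctrl_source (g := g⁻¹) (v := u) (v' := p.v) (hgood u hu0) (by
            rw [inv_inv, show F.j u = _ from hu, j, ← hpv, ep])
          simpa using inv_mem this
      have h := Nat.card_congr (MulAction.orbitProdStabilizerEquivGroup F.J (g : G ⧸ F.N))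
      rw [Nat.card_prod, hbot, Subgroup.card_bot, mul_one, F.card_J] at h
      rw [h]
  have hκ : F.N.index % 27 = 10 := by
    haveI := Fintype.ofFinite (G ⧸ F.N)
    rw [Nat.card_eq_fintype_card, Fintype.card_subtype_compl, ← Nat.card_eq_fintype_card, ← Nat.card_eq_fintype_card,
      hfix, ← Subgroup.index_eq_card] at hfree
    have hle : 10 ≤ F.N.index := by
      rw [← hfix, Subgroup.index_eq_card]
      exact Nat.card_le_card_of_injective _ Subtype.val_injective
    omega
  have hten := one_arith a α (F.N.index : ℤ) ha ha' hb (by linarith) (by omega) (by omega)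
  have hall : ∀ q : G ⧸ F.N, xJ • q = q := by
    intro q
    by_contra hne
    haveI : Nonempty {q : G ⧸ F.N // xJ • q ≠ q} := ⟨⟨q, hne⟩⟩
    have h1 : 0 < Nat.card {q : G ⧸ F.N // xJ • q ≠ q} := Nat.card_pos
    haveI := Fintype.ofFinite (G ⧸ F.N)
    rw [Nat.card_eq_fintype_card, Fintype.card_subtype_compl, ← Nat.card_eq_fintype_card, ← Nat.card_eq_fintype_card,
      hfix, ← Subgroup.index_eq_card] at h1
    omega
  refine F.normal_of_top fun g => F.mem_N_of_xv hk ?_
  have hconj : ∀ h : G, ∃ m ∈ centClass, F.el m = h * F.j xv * h⁻¹ := by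
    intro h
    have hN' := (F.fix_iff xJ h⁻¹).mp (hall _)
    rw [inv_inv] at hN'
    exact (hcl _ hN').mp (isConj_iff.mpr ⟨h, rfl⟩)
  obtain ⟨m, hm, e⟩ := hconj g
  have km := (hmem m).mpr (centClass_facts m hm).1
  have hkey : ∀ q ∈ centClass, m * q = q * m := by
    intro q hq
    have kq := (hmem q).mpr (centClass_facts q hq).1
    obtain ⟨c, hc⟩ := isConj_iff.mp ((hcl _ (F.el_mem_N kq)).mpr ⟨q, hq, rfl⟩)
    obtain ⟨p, hp, ep⟩ := hconj (g⁻¹ * c)
    have hsub : p ∈ Sub 0 := (pt_facts.2.2.2.2 _).mpr (centClass_facts p hp).2.1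
    have hx := (F.el_comm_iff (Sub_zero_le _ hsub) (tr_mem_Sub _ _)).mpr (sub0_comm_xv hsub)
    rw [ep] at hx
    refine (F.el_comm_iff km kq).mp ?_
    rw [e, ← hc]
    calc g * F.j xv * g⁻¹ * (c * F.j xv * c⁻¹)
        = g * (F.j xv * (g⁻¹ * c * F.j xv * (g⁻¹ * c)⁻¹)) * g⁻¹ := by group
      _ = g * (g⁻¹ * c * F.j xv * (g⁻¹ * c)⁻¹ * F.j xv) * g⁻¹ := by rw [hx]
      _ = c * F.j xv * c⁻¹ * (g * F.j xv * g⁻¹) := by group
  have hm3 : m * m * m = 1 := (F.el_cube_one km).mp (by rw [e, conj_pow, F.j_cube]; group)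
  have hm1 : m ≠ 1 := fun h => by
    rw [h, F.el_one, eq_comm, conj_eq_one_iff] at e
    exact F.j_ne_one (by decide +kernel) e
  have c1 : m * tr (1, 2, 0) = tr (1, 2, 0) * m := by
    have h1 := hkey (rot 4) (by decide +kernel)
    have h2 := hkey (tr (1, 2, 0) * rot 4) (by decide +kernel)
    have h3 : m * tr (1, 2, 0) * rot 4 = tr (1, 2, 0) * m * rot 4 := by
      rw [mul_assoc, h2, mul_assoc, ← h1, ← mul_assoc]
    exact mul_right_cancel h3
  obtain ⟨hg0, hv⟩ := central_three m ((hmem m).mp km) hm3 hm1 c1 (Or.inl (hkey (rot 4) (by decide +kernel)))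
  have hmv : m = tr m.v := by conv_lhs => rw [mon_split m, hg0, show rot 0 = (1 : Mon) from rfl, mul_one]
  rw [← e, hmv]
  rcases hv with h | h
  · exact Or.inl (by rw [h])
  · exact Or.inr (by rw [h])

end Frame

end CfsgLib.Sym9Three
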