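import Cfsg.Agent.Lib.Sym9Three.Count
import Mathlib.GroupTheory.GroupAction.Quotient

set_option autoImplicit false
set_option linter.style.haveILetI false
set_option synthInstance.maxSize 4000

/-!
The orbits of the translations on the cosets of their normalizer.
-/

namespace CfsgLib.Sym9Three

open Subgroup

theorem rot_three_cent : ∀ r : Fin 48, r ≠ 0 → rMul r (rMul r r) = 0 → ∀ r' : Fin 48, rMul r' (rMul r' r') = 0 →
    rMul r r' = rMul r' r → r' = 0 ∨ r' = r ∨ r' = rInv r := by decide +kernel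

/-- An invariant set all of whose orbits have size divisible by a number has such size. -/
theorem dvd_card_of_orbits {H X : Type*} [Group H] [MulAction H X] [Finite X] (P : X → Prop)
    (hP : ∀ (h : H) x, P x → P (h • x)) (n : ℕ) (hn : ∀ x, P x → n ∣ Nat.card (MulAction.orbit H x)) :
    n ∣ Nat.card {x // P x} := by
  classical
  haveI := Fintype.ofFinite X
  haveI : Fintype (MulAction.orbitRel.Quotient H X) := Fintype.ofFinite _
  rw [Nat.card_eq_fintype_card, Fintype.card_subtype,
    Finset.card_eq_sum_card_fiberwise (f := fun x => (Quotient.mk'' x : MulAction.orbitRel.Quotient H X))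
      (t := Finset.univ) (fun x _ => Finset.mem_coe.mpr (Finset.mem_univ _))]
  refine Finset.dvd_sum fun o _ => ?_
  by_cases h : ∃ x, P x ∧ (Quotient.mk'' x : MulAction.orbitRel.Quotient H X) = o
  · obtain ⟨x, hx, rfl⟩ := h
    refine dvd_trans (hn x hx) (Eq.dvd ?_)
    rw [← Nat.card_eq_finsetCard]
    refine Nat.card_congr (Equiv.subtypeEquivRight fun y => ?_)
    rw [Finset.mem_filter, Finset.mem_filter, Quotient.eq'', MulAction.orbitRel_apply]
    refine ⟨fun hy => ⟨⟨Finset.mem_univ _, ?_⟩, hy⟩, fun hy => hy.2⟩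
    obtain ⟨g, rfl⟩ := hy
    exact hP g x hx
  · rw [Finset.card_eq_zero.mpr (Finset.eq_empty_of_forall_notMem fun x hx =>
      h ⟨x, (Finset.mem_filter.mp (Finset.mem_filter.mp hx).1).2, (Finset.mem_filter.mp hx).2⟩)]
    exact dvd_zero n

universe u

variable {G : Type u} [Group G]

namespace Frame

variable (F : Frame G)

theorem fix_iff (a : F.J) (g : G) :
    a • (g : G ⧸ F.N) = (g : G ⧸ F.N) ↔ g⁻¹ * (a : G) * g ∈ F.N := by
  show ((((a : G) * g : G)) : G ⧸ F.N) = (g : G ⧸ F.N) ↔ _
  rw [eq_comm, QuotientGroup.eq, mul_assoc]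

theorem normal_of_top [Finite G] (h : ∀ g, g ∈ F.N) : F.J.Normal := by
  rw [← Subgroup.normalizer_eq_top_iff, eq_top_iff]
  exact fun g _ => h g

variable [Finite G]

/-- Off the base point the stabilizers in the translations have order at most three. -/
theorem stab_small (hgood : ∀ v : V3, v ≠ 0 → F.Good v) {g : G} (hg : g ∉ F.N) :
    Nat.card (MulAction.stabilizer F.J (g : G ⧸ F.N)) ≤ 3 := by
  classical
  set S := MulAction.stabilizer F.J (g : G ⧸ F.N)
  have hmem : ∀ a : S, ∃ m ∈ Sub F.k, F.el m = g⁻¹ * ((a : F.J) : G) * g := fun a =>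
    (F.mem_N _).mp ((F.fix_iff _ _).mp (MulAction.mem_stabilizer_iff.mp a.2))
  choose f hf1 hf2 using hmem
  have hfm : ∀ a b : S, f (a * b) = f a * f b := fun a b => F.el_inj _ (hf1 _) _ (mul_mem (hf1 a) (hf1 b)) (by
    rw [F.el_mul _ (hf1 a) _ (hf1 b), hf2, hf2, hf2]
    show g⁻¹ * (((a : F.J) : G) * ((b : F.J) : G)) * g = _
    group)
  let ψ : S → Fin 48 := fun a => (f a).g
  have hψm : ∀ a b, ψ (a * b) = rMul (ψ a) (ψ b) := fun a b => congrArg Mon.g (hfm a b)
  have hψ0 : ∀ a, ψ a = 0 → a = 1 := by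
    intro a ha
    obtain ⟨u, hu⟩ := (F.mem_J _).mp (a : F.J).2
    by_contra hne
    refine hg ?_
    have hu0 : u ≠ 0 := fun e => hne (Subtype.ext (Subtype.ext (by
      rw [← hu, e, tr_zero, F.el_one]; rfl)))
    have h : f a = tr (f a).v := by
      conv_lhs => rw [mon_split (f a), show (f a).g = 0 from ha]
      rw [show rot 0 = (1 : Mon) from rfl, mul_one]
    have := F.ctrl_source (g := g⁻¹) (v := u) (v' := (f a).v) (hgood u hu0) (by
      rw [inv_inv, show F.j u = _ from hu, j, ← h, hf2])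
    simpa using inv_mem this
  have hψ1 : ψ 1 = 0 := by
    have : f 1 = 1 := F.el_inj _ (hf1 1) _ (one_mem _) (by rw [hf2, F.el_one]; show g⁻¹ * 1 * g = 1; group)
    show (f 1).g = 0
    rw [this]; rfl
  have hinj : Function.Injective ψ := fun a b e => by
    have h2 : ψ (a * b⁻¹) = 0 := by
      rw [hψm, e, ← hψm, mul_inv_cancel, hψ1]
    exact mul_inv_eq_one.mp (hψ0 _ h2)
  have hcube : ∀ a, rMul (ψ a) (rMul (ψ a) (ψ a)) = 0 := by
    intro a
    rw [← hψm, ← hψm]
    obtain ⟨u, hu⟩ := (F.mem_J _).mp (a : F.J).2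
    have : a * (a * a) = 1 := Subtype.ext (Subtype.ext (by
      show ((a : F.J) : G) * (((a : F.J) : G) * ((a : F.J) : G)) = 1
      rw [← pow_three, ← hu]
      exact F.j_cube u))
    rw [this, hψ1]
  have hcomm : ∀ a b, rMul (ψ a) (ψ b) = rMul (ψ b) (ψ a) := by
    intro a b
    rw [← hψm, ← hψm, show a * b = b * a from Subtype.ext (Subtype.ext (F.J_comm (a : F.J).2 (b : F.J).2))]
  by_cases hall : ∀ a, ψ a = 0
  · haveI : Subsingleton S := ⟨fun a b => hinj ((hall a).trans (hall b).symm)⟩
    rw [Nat.card_of_subsingleton (1 : S)]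
    norm_num
  · push Not at hall
    obtain ⟨a, ha⟩ := hall
    haveI := Fintype.ofFinite S
    have hle : (Finset.univ.image ψ).card ≤ ({0, ψ a, rInv (ψ a)} : Finset (Fin 48)).card := by
      refine Finset.card_le_card fun r hr => ?_
      obtain ⟨b, -, rfl⟩ := Finset.mem_image.mp hr
      rcases rot_three_cent _ ha (hcube a) _ (hcube b) (hcomm a b) with e | e | e <;> simp [e]
    rw [Nat.card_eq_fintype_card, ← Finset.card_univ, ← Finset.card_image_of_injective _ hinj]
    exact hle.trans Finset.card_le_three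

/-- The orbit of a coset off the base point has size divisible by nine. -/
theorem nine_dvd_orbit (hgood : ∀ v : V3, v ≠ 0 → F.Good v) {g : G} (hg : g ∉ F.N) :
    9 ∣ Nat.card (MulAction.orbit F.J (g : G ⧸ F.N)) := by
  have h := Nat.card_congr (MulAction.orbitProdStabilizerEquivGroup F.J (g : G ⧸ F.N))
  rw [Nat.card_prod, F.card_J] at h
  have hs := F.stab_small hgood hg
  have hs0 : 0 < Nat.card (MulAction.stabilizer F.J (g : G ⧸ F.N)) := Nat.card_pos
  generalize Nat.card (MulAction.stabilizer F.J (g : G ⧸ F.N)) = c at *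
  generalize Nat.card (MulAction.orbit F.J (g : G ⧸ F.N)) = o at *
  interval_cases c <;> omega

theorem base_fixed (a : F.J) : a • ((1 : G) : G ⧸ F.N) = ((1 : G) : G ⧸ F.N) := by
  rw [F.fix_iff]
  simpa using F.J_le a.2

/-- The index of the normalizer is one modulo nine. -/
theorem index_mod_nine (hgood : ∀ v : V3, v ≠ 0 → F.Good v) : F.N.index % 9 = 1 := by
  classical
  have h9 : 9 ∣ Nat.card {q : G ⧸ F.N // q ≠ ((1 : G) : G ⧸ F.N)} := by
    refine dvd_card_of_orbits (H := F.J) (fun q : G ⧸ F.N => q ≠ ((1 : G) : G ⧸ F.N)) (fun a q hq e => hq ?_) 9 fun q hq => ?_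
    · rw [← inv_smul_smul a q, e]
      exact F.base_fixed a⁻¹
    · obtain ⟨g, rfl⟩ := QuotientGroup.mk_surjective q
      refine F.nine_dvd_orbit hgood fun h => hq ?_
      rw [QuotientGroup.eq]
      simpa using h
  haveI := Fintype.ofFinite (G ⧸ F.N)
  rw [Nat.card_eq_fintype_card, Fintype.card_subtype_compl, Fintype.card_subtype_eq, ← Nat.card_eq_fintype_card,
    ← Subgroup.index_eq_card] at h9
  have : 0 < F.N.index := Nat.pos_of_ne_zero Subgroup.index_ne_zero_of_finite
  omega

end Frame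

end CfsgLib.Sym9Three
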