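import Cfsg.Agent.Lib.Sym9Three.CharF
import Cfsg.Agent.Lib.Sym9Three.Orbits

set_option autoImplicit false
set_option linter.style.haveILetI false
set_option synthInstance.maxSize 4000
set_option maxHeartbeats 1000000

/-!
The translations are normal when the even sign changes are realized.
-/

namespace CfsgLib.Sym9Three

open Subgroup

/-- The involutions exchanging two blocks in the second subgroup. -/
def swapsTwo : Finset Mon :=
  Finset.univ.filter fun m => inR 2 m.g = true ∧ m * m = 1 ∧ (m.g.val % 6 = 1 ∨ m.g.val % 6 = 2 ∨ m.g.val % 6 = 3)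

theorem two_mem : ∀ m ∈ swapsTwo, ∃ n : Mon, inR 2 n.g = true ∧ n * rot 1 = m * n := by decide +kernel

theorem two_classes : ∀ m : Mon, inR 2 m.g = true → m * m = 1 → m ≠ 1 →
    m ∈ swapsTwo ∨ ∃ n : Mon, inR 2 n.g = true ∧ n * m = rot 18 * n := by decide +kernel

theorem two_counts : (Finset.univ.filter fun m : Mon => inR 2 m.g = true ∧ m * rot 1 = rot 1 * m).card = 36 ∧
    (Finset.univ.filter fun m : Mon => inR 2 m.g = true ∧ m * rot 18 = rot 18 * m).card = 24 ∧
    (Finset.univ.filter fun m : Mon => inR 2 m.g = true ∧ True).card = 648 := by decide +kernel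

theorem two_trace : ∑ a ∈ swapsTwo, ∑ b ∈ swapsTwo, fP (a * b) = (27, 0) := by decide +kernel

theorem two_norm :
    ∑ m ∈ Finset.univ.filter (fun m : Mon => inR 0 m.g = true), zmul (fP m) (zconj (FP 2 m)) = (486, 0) := by
  decide +kernel

theorem two_arith (a α κ : ℤ) (ha : a ≠ 0) (ha' : a ≠ -1) (hb : 1 + α ^ 2 + (1 + α) ^ 2 ≤ 36)
    (h : 3 * κ * (α - a) ^ 2 = a * (1 + a)) (hκ : 1 ≤ κ) (hm : κ % 9 = 1) : κ = 1 := by
  have hα1 : -4 ≤ α := by nlinarith
  have hα2 : α ≤ 3 := by nlinarith
  by_contra hne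
  have h10 : 10 ≤ κ := by omega
  have hh : 30 * (α - a) ^ 2 ≤ a * (1 + a) := by nlinarith [sq_nonneg (α - a)]
  have ha1 : -9 ≤ a := by nlinarith
  have ha2 : a ≤ 9 := by nlinarith
  interval_cases α <;> interval_cases a <;> simp at hh h <;> omega

universe u

variable {G : Type u} [Group G]

namespace Frame

variable (F : Frame G)

theorem el_conj_of {n a b : Mon} (hn : n ∈ Sub F.k) (ha : a ∈ Sub F.k) (hb : b ∈ Sub F.k) (h : n * a = b * n) :
    F.el n * F.el a * (F.el n)⁻¹ = F.el b := by
  rw [← F.el_mul _ hn _ ha, h, F.el_mul _ hb _ hn, mul_inv_cancel_right]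

theorem isConj_el {n a b : Mon} (hn : n ∈ Sub F.k) (ha : a ∈ Sub F.k) (hb : b ∈ Sub F.k) (h : n * a = b * n) :
    IsConj (F.el a) (F.el b) := isConj_iff.mpr ⟨_, F.el_conj_of hn ha hb h⟩

theorem el_sq_one {m : Mon} (hm : m ∈ Sub F.k) (h : m * m = 1) : F.el m * F.el m = 1 := by
  rw [← F.el_mul _ hm _ hm, h, F.el_one]

/-- An element conjugate to an involution of the normalizer is an involution of the model. -/
theorem invol_of_isConj {t : G} (ht : t * t = 1) (ht1 : t ≠ 1) {m : Mon} (hm : m ∈ Sub F.k)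
    (h : IsConj t (F.el m)) : m * m = 1 ∧ m ≠ 1 := by
  obtain ⟨g, hg⟩ := isConj_iff.mp h
  refine ⟨F.el_inj _ (mul_mem hm hm) 1 (one_mem _) ?_, fun e => ht1 ?_⟩
  · rw [F.el_mul _ hm _ hm, ← hg, conj_mul, ht, mul_one, mul_inv_cancel, F.el_one]
  · rw [e, F.el_one, conj_eq_one_iff] at hg
    exact hg

variable [Finite G]

/-- Conjugate elements have centralizers of the same order. -/
theorem card_cent_congr {a b : G} (h : IsConj a b) :
    Nat.card (Subgroup.centralizer ({a} : Set G)) = Nat.card (Subgroup.centralizer ({b} : Set G)) := by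
  have ha := CfsgLib.CharTheory.card_isConj_mul_card_centralizer a
  have hb := CfsgLib.CharTheory.card_isConj_mul_card_centralizer b
  have e : Nat.card {x : G // IsConj a x} = Nat.card {x : G // IsConj b x} :=
    Nat.card_congr (Equiv.subtypeEquivRight fun x => ⟨fun hx => h.symm.trans hx, fun hx => h.trans hx⟩)
  haveI : Nonempty {x : G // IsConj b x} := ⟨⟨b, IsConj.refl b⟩⟩
  rw [e, ← hb] at ha
  exact Nat.eq_of_mul_eq_mul_left Nat.card_pos ha

/-- The translations are normal when the even sign changes are realized. -/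
theorem normal_of_two (hk : F.k = 2) : F.J.Normal := by
  classical
  haveI := Fintype.ofFinite G
  have hgood : ∀ v : V3, v ≠ 0 → F.Good v := fun v hv => F.good hv (fun h => absurd (hk.symm.trans h) (by decide))
  have hmem : ∀ m : Mon, m ∈ Sub F.k ↔ inR 2 m.g = true := fun m => by rw [hk]; rfl
  have hC : Nat.card (Subgroup.centralizer ({F.s} : Set G)) = 36 := by
    rw [F.card_cent F.rot_one_mem (fun g hg => F.cent_s (fun v hv _ => hgood v hv) hg), hk]
    exact two_counts.1
  have h18 : rot 18 ∈ Sub F.k := (hmem _).mpr (by decide +kernel)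
  have hnot : ¬ IsConj F.s (F.el (rot 18)) := by
    intro h
    have h1 := card_cent_congr h
    have h2 := Subgroup.card_dvd_of_le (inf_le_left : Subgroup.centralizer ({F.el (rot 18)} : Set G) ⊓ F.N ≤
      Subgroup.centralizer ({F.el (rot 18)} : Set G))
    have h3 : Nat.card ↥(Subgroup.centralizer ({F.el (rot 18)} : Set G) ⊓ F.N) = 24 := by
      rw [← two_counts.2.1]
      refine (Nat.card_congr (Equiv.subtypeEquivRight
        (q := fun g => g * F.el (rot 18) = F.el (rot 18) * g ∧ g ∈ F.N) fun g => ?_)).trans ?_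
      · rw [Subgroup.mem_inf, Subgroup.mem_centralizer_singleton_iff]
      · rw [F.card_filter (fun m => m * rot 18 = rot 18 * m) _ (fun _ h => h.2) fun m hm =>
          ⟨fun h => (F.el_comm_iff hm h18).mp h.1, fun h => ⟨(F.el_comm_iff hm h18).mpr h, F.el_mem_N hm⟩⟩, hk]
    rw [h3, ← h1, hC] at h2
    exact absurd h2 (by norm_num)
  have hS : ∀ m, m ∈ swapsTwo ↔ m ∈ Sub F.k ∧ IsConj F.s (F.el m) := by
    intro m
    constructor
    · intro h
      obtain ⟨n, hn, e⟩ := two_mem m h
      have hm := (hmem _).mpr (Finset.mem_filter.mp h).2.1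
      exact ⟨hm, F.isConj_el ((hmem _).mpr hn) F.rot_one_mem hm e⟩
    · rintro ⟨hm, hc⟩
      obtain ⟨h2, h1⟩ := F.invol_of_isConj F.s_sq F.s_ne_one hm hc
      rcases two_classes m ((hmem _).mp hm) h2 h1 with h | ⟨n, hn, e⟩
      · exact h
      · exact absurd (hc.trans (F.isConj_el ((hmem _).mpr hn) hm h18 e)) hnot
  obtain ⟨a, α, ha, ha', hb, heq, -⟩ :=
    F.char_step hgood (by rw [hk]; exact two_norm) F.s_sq swapsTwo hS 27 two_trace
  rw [hC] at hb heq
  have hN : Nat.card F.N = 648 := by rw [F.card_N, hk]; exact two_counts.2.2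
  have hG : Nat.card G = F.N.index * 648 := by rw [← hN, Subgroup.index_mul_card]
  rw [hG] at heq
  push_cast at hb heq
  have hmod := F.index_mod_nine hgood
  have hκ := two_arith a α (F.N.index : ℤ) ha ha' hb (by linarith) (by omega) (by omega)
  have htop : F.N = ⊤ := Subgroup.index_eq_one.mp (by omega)
  exact F.normal_of_top fun g => htop ▸ Subgroup.mem_top g

end Frame

end CfsgLib.Sym9Three
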