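import Cfsg.Agent.Lib.InvCentS6.Basic

set_option autoImplicit false

/-!
The transfer criterion, with an element outside the subgroup of index two.
-/

namespace CfsgLib.Sym9Three

open CfsgLib.InvCentS6 CfsgLib.TransferOrbit

variable {G : Type*} [Group G]

/-- The transfer criterion. -/
theorem exists_index_two_not_mem [Finite G] (t : G) (ht : t * t = 1) (K : Subgroup G) (f : K →* Z2) (m : ℕ)
    (hm : Odd m)
    (hcount : Nat.card {x : K // IsConj t (x : G) ∧ f x ≠ 1} * Nat.card (Subgroup.centralizer ({t} : Set G))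
      = m * Nat.card K) :
    ∃ H : Subgroup G, H.index = 2 ∧ t ∉ H := by
  classical
  haveI : Fintype (G ⧸ K) := Fintype.ofFinite _
  suffices hne : MonoidHom.transfer f t ≠ 1 by
    refine ⟨(MonoidHom.transfer f).ker, ?_, fun h => hne (MonoidHom.mem_ker.mp h)⟩
    rw [Subgroup.index_ker]
    have h1 := Subgroup.card_subgroup_dvd_card (MonoidHom.transfer f).range
    rw [show Nat.card Z2 = 2 by simp] at h1
    rcases (Nat.dvd_prime Nat.prime_two).mp h1 with h | h
    · rw [Subgroup.card_eq_one] at h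
      exact absurd (Subgroup.mem_bot.mp (h ▸ ⟨t, rfl⟩)) hne
    · exact h
  rw [transfer_eq_prod]
  rw [← Finset.prod_filter_mul_prod_filter_not Finset.univ (fun q : G ⧸ K => t • q = q)]
  have h2 : ∏ q ∈ Finset.univ.filter (fun q : G ⧸ K => ¬ t • q = q), cval f t q = 1 := by
    refine Finset.prod_involution (fun q _ => t • q) (fun q _ => ?_) (fun q hq _ => (Finset.mem_filter.mp hq).2)
      (fun q hq => ?_) (fun q _ => by rw [smul_smul, ht, one_smul])
    · rw [mul_comm, ← cval_mul, ht]
      exact c_one (cval_mul f) q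
    · refine Finset.mem_filter.mpr ⟨Finset.mem_univ _, fun e => (Finset.mem_filter.mp hq).2 ?_⟩
      have e' := congrArg (fun r => t • r) e
      simpa only [smul_smul, ht, one_smul, ← mul_assoc, one_mul] using e'
  rw [h2, mul_one]
  let S : Set G := {g | ∃ h : g⁻¹ * t * g ∈ K, f ⟨_, h⟩ ≠ 1}
  let Q : Set (G ⧸ K) := {q | t • q = q ∧ cval f t q ≠ 1}
  have hfix : ∀ g : G, t • (g : G ⧸ K) = g ↔ g⁻¹ * t * g ∈ K := fun g => by
    rw [show t • (g : G ⧸ K) = ((t * g : G) : G ⧸ K) from rfl, eq_comm, QuotientGroup.eq, ← mul_assoc]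
  have hS : S = QuotientGroup.mk ⁻¹' Q := by
    ext g
    constructor
    · rintro ⟨h, hf⟩
      exact ⟨(hfix g).mpr h, by rw [cval_eq f ((hfix g).mpr h) h]; exact hf⟩
    · rintro ⟨hq, hv⟩
      exact ⟨(hfix g).mp hq, by rwa [cval_eq f hq ((hfix g).mp hq)] at hv⟩
  have hcS : Nat.card S = Nat.card K * Nat.card Q := by
    rw [hS, Nat.card_congr (QuotientGroup.preimageMkEquivSubgroupProdSet K Q), Nat.card_prod]
  let X := {x : K // IsConj t (x : G) ∧ f x ≠ 1}
  let F : S → X := fun g => ⟨⟨(g : G)⁻¹ * t * g, g.2.choose⟩,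
    ⟨isConj_iff.mpr ⟨(g : G)⁻¹, by rw [inv_inv]⟩, g.2.choose_spec⟩⟩
  have hF : ∀ x : X, Nat.card {g : S // F g = x} = Nat.card (Subgroup.centralizer ({t} : Set G)) := by
    intro x
    obtain ⟨c, hc⟩ := isConj_iff.mp x.2.1
    have hg0 : c⁻¹ ∈ S := by
      refine ⟨by rw [inv_inv, hc]; exact x.1.2, ?_⟩
      convert x.2.2 using 3
      simpa using hc
    have key : ∀ g : S, F g = x ↔ (g : G) * c ∈ Subgroup.centralizer ({t} : Set G) := by
      intro g
      rw [Subgroup.mem_centralizer_singleton_iff, Subtype.ext_iff, Subtype.ext_iff]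
      change (g : G)⁻¹ * t * g = (x : G) ↔ _
      rw [← hc]
      constructor
      · intro e
        calc (g : G) * c * t = g * (c * t * c⁻¹) * c := by group
          _ = g * ((g : G)⁻¹ * t * g) * c := by rw [e]
          _ = t * (g * c) := by group
      · intro e
        calc (g : G)⁻¹ * t * g = (g : G)⁻¹ * (t * (g * c)) * c⁻¹ := by group
          _ = (g : G)⁻¹ * (g * c * t) * c⁻¹ := by rw [e]
          _ = c * t * c⁻¹ := by group
    refine Nat.card_congr
      { toFun := fun g => ⟨(g.1 : G) * c, (key g.1).mp g.2⟩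
        invFun := fun d => ⟨⟨(d : G) * c⁻¹, ?_⟩, (key _).mpr (by simp)⟩
        left_inv := fun g => by ext; simp
        right_inv := fun d => by ext; simp }
    have hd : t * (d : G) = d * t := (Subgroup.mem_centralizer_singleton_iff.mp d.2).symm
    have e : ((d : G) * c⁻¹)⁻¹ * t * ((d : G) * c⁻¹) = c⁻¹⁻¹ * t * c⁻¹ := by
      calc _ = c * (d : G)⁻¹ * (t * d) * c⁻¹ := by group
        _ = _ := by rw [hd]; group
    exact ⟨e ▸ hg0.choose, by convert hg0.choose_spec using 3⟩
  have hcX : Nat.card S = Nat.card X * Nat.card (Subgroup.centralizer ({t} : Set G)) := by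
    haveI : Fintype X := Fintype.ofFinite _
    rw [← Nat.card_congr (Equiv.sigmaFiberEquiv F), Nat.card_sigma, Finset.sum_congr rfl (fun x _ => hF x),
      Finset.sum_const, Finset.card_univ, smul_eq_mul, Nat.card_eq_fintype_card (α := X)]
  have hQ : Nat.card Q = m :=
    Nat.eq_of_mul_eq_mul_left Nat.card_pos (by rw [← hcS, hcX, hcount, mul_comm])
  have hodd : Odd ((Finset.univ.filter fun q : G ⧸ K => t • q = q).filter fun q => cval f t q ≠ 1).card := by
    rw [Finset.filter_filter]
    rwa [← hQ, Nat.card_eq_fintype_card, Fintype.card_subtype] at hm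
  rw [← Finset.prod_filter_ne_one]
  obtain ⟨e, he⟩ : ∃ e : Z2, e ≠ 1 := ⟨Multiplicative.ofAdd 1, by decide⟩
  rw [Finset.prod_eq_pow_card (b := e) (fun q hq => z2_eq_of_ne _ _ (Finset.mem_filter.mp hq).2 he)]
  exact z2_pow_odd he hodd

end CfsgLib.Sym9Three
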