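import Cfsg.Agent.Lib.Sym9Three.SixCentE
import Cfsg.Agent.Lib.Sym9Three.Transfer

set_option autoImplicit false
set_option linter.style.haveILetI false
set_option synthInstance.maxSize 4000

/-!
A subgroup of index two when the centralizer of a translation moving one block involves the symmetric group of
degree six.
-/

namespace CfsgLib.Sym9Three

open Subgroup Equiv Equiv.Perm CfsgLib.InvCentS6

theorem z2_exists : ∃ i : Z2, i ≠ 1 := ⟨Multiplicative.ofAdd 1, by decide⟩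

universe u

variable {G : Type u} [Group G] [Finite G]

namespace Frame

variable {F : Frame G}

/-- The subgroup of index two in the case of the symmetric group of degree six. -/
theorem SixData.exists_half (hk : F.k = 3) (D : SixData F) :
    ∃ H : Subgroup G, H.index = 2 ∧ F.el (rot 6) ∉ H := by
  classical
  haveI : Fact (Nat.Prime 2) := ⟨Nat.prime_two⟩
  have hall : ∀ m, m ∈ Sub F.k := F.mem_all hk
  set t3 := F.el rt3 with ht3
  have h33 : t3 * t3 = 1 := F.el_sq_one (hall _) (by decide +kernel)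
  have h13 : IsConj (F.el (rot 6)) t3 := by
    obtain ⟨n, hn⟩ := block_conj
    exact F.isConj_el (hall _) (hall _) (hall _) hn
  have hp2 := D.invol_of_el hk D.hp (by decide +kernel) (by decide +kernel)
  obtain ⟨⟨hπp, hπq, -⟩, -, -, ⟨cpq, cpr, cqr⟩, ⟨nqp, nrp, nrq⟩, -, hpqr, -, ⟨hwp, hww, hwr⟩, hcoset⟩ := D.pack
  have hwq : D.w * D.q = D.p * D.w := by
    calc D.w * D.q = D.w * (D.w * D.p * D.w⁻¹) := by rw [hwp, mul_inv_cancel_right]
      _ = D.p * D.w := by rw [← mul_assoc, ← mul_assoc, hww, one_mul, inv_eq_of_mul_eq_one_right hww]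
  set VS := Subgroup.centralizer ({D.p, D.q, D.r} : Set (Perm (Fin 6))) with hVS
  have hmemVS : ∀ z, z ∈ VS ↔ z * D.p = D.p * z ∧ z * D.q = D.q * z ∧ z * D.r = D.r * z := fun z => by
    rw [hVS, Subgroup.mem_centralizer_iff]
    simp [eq_comm]
  have hwn : ∀ h ∈ VS, D.w * h * D.w⁻¹ ∈ VS := by
    intro h hh
    obtain ⟨a, b, c⟩ := (hmemVS h).mp hh
    have key : ∀ {s t : Perm (Fin 6)}, D.w * s = t * D.w → h * s = s * h →
        D.w * h * D.w⁻¹ * t = t * (D.w * h * D.w⁻¹) := by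
      intro s t ht hs
      rw [show t = D.w * s * D.w⁻¹ by rw [ht, mul_inv_cancel_right], conj_mul, conj_mul, hs]
    exact (hmemVS _).mpr ⟨key hwq b, key hwp a, key hwr c⟩
  have hgg : D.w * D.w ∈ VS := by rw [hww]; exact one_mem VS
  set TS := extend VS D.w hwn hgg with hTS
  have hwT : D.w ∈ TS := self_mem_extend
  have hlist : ∀ h ∈ VS, h = 1 ∨ h = D.p ∨ h = D.q ∨ h = D.r ∨ h = D.p * D.q ∨ h = D.p * D.r ∨ h = D.q * D.r ∨
      h = D.p * D.q * D.r := fun h hh => by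
    obtain ⟨a, b, c⟩ := (hmemVS h).mp hh
    exact D.pqr_list a b c
  have hsq : ∀ h ∈ VS, h * h = 1 := fun h hh => by
    obtain ⟨a, b, c⟩ := (hmemVS h).mp hh
    exact D.list_sq hk a b c
  -- the conjugates in the subgroup
  have hfixT : ∀ y ∈ TS, y * y = 1 → y ≠ 1 → fixCount y = fixCount D.p → y = D.p ∨ y = D.q ∨ y = D.r := by
    intro y hy hy2 hy1 hf
    have fp : fixCount D.p ≠ 2 := fun e => by
      have h1 := (six_invol_fix _ hp2.1 hp2.2).2.1 e
      rw [D.sign_odd hk D.hp (by decide +kernel) (by decide +kernel) (v := (0, 1, 0)) rfl axis_facts.1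
        axis_facts.2.2.2.1] at h1
      exact absurd h1 (by decide)
    have sq : sign D.q = sign D.p := by
      have := congrArg sign hπp
      rw [map_mul, map_mul, mul_comm] at this
      exact (mul_right_cancel this).symm
    have sr : sign D.r = sign D.p := by
      have := congrArg sign hπq
      rw [map_mul, map_mul, mul_comm] at this
      rw [← sq]
      exact (mul_right_cancel this).symm
    have heven : sign y = 1 → False := fun e => fp (hf ▸ (six_invol_fix y hy2 hy1).2.2 e)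
    rcases mem_extend.mp hy with h | h
    · rcases hlist y h with e | e | e | e | e | e | e | e
      · exact absurd e hy1
      · exact Or.inl e
      · exact Or.inr (Or.inl e)
      · exact Or.inr (Or.inr e)
      · exact (heven (by rw [e, map_mul, sq, Int.units_mul_self])).elim
      · exact (heven (by rw [e, map_mul, sr, Int.units_mul_self])).elim
      · exact (heven (by rw [e, map_mul, sq, sr, Int.units_mul_self])).elim
      · exact absurd (e ▸ hf) hpqr
    · exfalso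
      obtain ⟨a, b, c⟩ := (hmemVS _).mp h
      have hl : y * D.w⁻¹ ∈ [1, D.p, D.q, D.r, D.p * D.q, D.p * D.r, D.q * D.r, D.p * D.q * D.r] := by
        simpa only [List.mem_cons, List.not_mem_nil, or_false] using hlist _ h
      exact hcoset _ hl (by rw [inv_mul_cancel_right]; exact hy2) (by rw [inv_mul_cancel_right]; exact hf)
  -- the Sylow subgroup
  let ei : Z2 → G := fun i => if i = 1 then 1 else t3
  have hei : ∀ i j : Z2, ei (i * j) = ei i * ei j := by
    intro i j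
    by_cases hi : i = 1
    · simp [ei, hi]
    · by_cases hj : j = 1
      · simp [ei, hj]
      · have : i * j = 1 := by rw [z2_eq_of_ne i j hi hj]; exact z2_mul_self j
        simp [ei, hi, hj, this, h33]
  have heiΦ : ∀ i y, ei i * D.Φ y = D.Φ y * ei i := by
    intro i y
    by_cases hi : i = 1
    · simp [ei, hi]
    · simp only [ei, hi, if_false]
      exact (D.comm_t3 y).symm
  let Ψ : Z2 × TS →* G := MonoidHom.mk' (fun p => ei p.1 * D.Φ p.2) fun p q => by
    simp only [Prod.fst_mul, Prod.snd_mul, Subgroup.coe_mul, map_mul, hei]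
    calc ei p.1 * ei q.1 * (D.Φ p.2 * D.Φ q.2) = ei p.1 * (ei q.1 * D.Φ p.2) * D.Φ q.2 := by group
      _ = ei p.1 * D.Φ p.2 * (ei q.1 * D.Φ q.2) := by rw [heiΦ]; group
  have ht3ev : ¬ t3 * F.j ev = F.j ev * t3 := fun h => by
    have := (F.el_comm_iff (hall _) (tr_mem_Sub _ _)).mp h
    exact absurd this (by decide +kernel)
  have hnotM : ∀ y, D.Φ y ≠ t3 := fun y e => ht3ev (e ▸ D.comm_ev y)
  have hΨ : Function.Injective Ψ := by
    rw [injective_iff_map_eq_one]
    rintro ⟨i, y⟩ h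
    replace h : ei i * D.Φ y = 1 := h
    by_cases hi : i = 1
    · subst hi
      simp only [ei, if_true, one_mul] at h
      exact Prod.ext rfl (Subtype.ext (D.inj (show D.Φ (y : Perm (Fin 6)) = D.Φ 1 by rw [h, map_one])))
    · simp only [ei, hi, if_false] at h
      refine absurd ?_ (hnotM (y : Perm (Fin 6))⁻¹)
      rw [map_inv]
      exact inv_eq_of_mul_eq_one_left h
  set T := Ψ.range with hT
  set C3 := Subgroup.centralizer ({t3} : Set G) with hC3
  have hmemC : ∀ z, z ∈ C3 ↔ z * t3 = t3 * z := fun z => Subgroup.mem_centralizer_singleton_iff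
  have hei3 : ∀ i, ei i * t3 = t3 * ei i := fun i => by by_cases hi : i = 1 <;> simp [ei, hi]
  have hTC : T ≤ C3 := by
    rintro _ ⟨⟨i, y⟩, rfl⟩
    refine (hmemC _).mpr ?_
    show ei i * D.Φ y * t3 = t3 * (ei i * D.Φ y)
    rw [mul_assoc, D.comm_t3, ← mul_assoc, ← mul_assoc, hei3]
  have hTpow : ∀ x ∈ T, x ^ 4 = 1 := by
    rintro _ ⟨⟨i, y⟩, rfl⟩
    rw [← map_pow, show ((i, y) : Z2 × TS) ^ 4 = 1 from ?_, map_one]
    refine Prod.ext ?_ (Subtype.ext ?_)
    · show i ^ 4 = 1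
      rw [show i ^ 4 = (i * i) * (i * i) by simp [pow_succ, mul_assoc], z2_mul_self]
    · show (y : Perm (Fin 6)) ^ 4 = 1
      rw [show (y : Perm (Fin 6)) ^ 4 = ((y : Perm (Fin 6)) * y) * (y * y) by simp [pow_succ, mul_assoc]]
      refine hsq _ ?_
      rcases mem_extend.mp y.2 with h | h
      · rw [hsq _ h]; exact one_mem VS
      · set a := (y : Perm (Fin 6)) * D.w⁻¹
        rw [show (y : Perm (Fin 6)) = a * D.w by simp [a], show a * D.w * (a * D.w) = a * (D.w * a * D.w⁻¹) * (D.w * D.w) by group]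
        exact mul_mem (mul_mem h (hwn a h)) hgg
  -- the four conjugates
  have hclass : ∀ x ∈ T, IsConj (F.el (rot 6)) x → x = D.Φ D.p ∨ x = D.Φ D.q ∨ x = D.Φ D.r ∨ x = t3 := by
    rintro _ ⟨⟨i, y⟩, rfl⟩ hc
    show ei i * D.Φ y = _ ∨ ei i * D.Φ y = _ ∨ ei i * D.Φ y = _ ∨ ei i * D.Φ y = _
    replace hc : IsConj (F.el (rot 6)) (ei i * D.Φ y) := hc
    by_cases hi : i = 1
    · simp only [ei, hi, if_true, one_mul] at hc ⊢
      obtain ⟨h2, h1⟩ := D.invol_of_conj hk hc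
      rcases hfixT y y.2 h2 h1 (D.fix_of_conj hk hc) with e | e | e <;> simp [e]
    · simp only [ei, hi, if_false] at hc ⊢
      rw [D.eq_one_of_conj_coset hk hc, map_one, mul_one]
      simp
  have hmemT : ∀ i y, (hy : y ∈ TS) → ei i * D.Φ y ∈ T := fun i y hy => ⟨(i, ⟨y, hy⟩), rfl⟩
  have hphiT : ∀ y ∈ TS, D.Φ y ∈ T := fun y hy => by simpa [ei] using hmemT 1 y hy
  have hpVS : D.p ∈ VS ∧ D.q ∈ VS ∧ D.r ∈ VS :=
    ⟨(hmemVS _).mpr ⟨rfl, cpq, cpr⟩, (hmemVS _).mpr ⟨cpq.symm, rfl, cqr⟩, (hmemVS _).mpr ⟨cpr.symm, cqr.symm, rfl⟩⟩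
  have hconjP : IsConj (F.el (rot 6)) (D.Φ D.p) ∧ IsConj (F.el (rot 6)) (D.Φ D.q) ∧ IsConj (F.el (rot 6)) (D.Φ D.r) := by
    rw [← D.hp]
    exact ⟨IsConj.refl _, (D.r_conj hk).2, (D.r_conj hk).1⟩
  have hodd : ¬ 2 ∣ (T.subgroupOf C3).index := by
    obtain ⟨S, hS⟩ := (show IsPGroup 2 (T.subgroupOf C3) from fun z => ⟨2, Subtype.ext (Subtype.ext (by
      show (((z : C3) : G)) ^ 2 ^ 2 = 1
      exact hTpow _ z.2))⟩).exists_le_sylow
    suffices hST : (S : Subgroup C3) ≤ T.subgroupOf C3 by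
      rw [le_antisymm hS hST]
      exact S.not_dvd_index
    by_contra hne
    have hlt : (T.subgroupOf C3).subgroupOf (S : Subgroup C3) < ⊤ :=
      lt_top_iff_ne_top.mpr fun e => hne (Subgroup.subgroupOf_eq_top.mp e)
    haveI : Group.IsNilpotent (S : Subgroup C3) := S.2.isNilpotent
    obtain ⟨⟨g, hgS⟩, hgn, hgT⟩ := SetLike.exists_of_lt (Group.normalizerCondition_of_isNilpotent _ hlt)
    replace hgT : (g : G) ∉ T := hgT
    have hmap : ∀ x ∈ T, (g : G) * x * (g : G)⁻¹ ∈ T := fun x hx =>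
      (Subgroup.mem_normalizer_iff.mp hgn ⟨⟨x, hTC hx⟩, hS (hx : (⟨x, hTC hx⟩ : C3) ∈ T.subgroupOf C3)⟩).mp hx
    have hg3 : (g : G) * t3 * (g : G)⁻¹ = t3 := by rw [(hmemC _).mp g.2, mul_inv_cancel_right]
    set P := D.Φ D.p with hPdef
    set Q := D.Φ D.q with hQdef
    set R := D.Φ D.r with hRdef
    have hperm : ∀ s ∈ ([D.p, D.q, D.r] : List (Perm (Fin 6))),
        (g : G) * D.Φ s * (g : G)⁻¹ = P ∨ (g : G) * D.Φ s * (g : G)⁻¹ = Q ∨ (g : G) * D.Φ s * (g : G)⁻¹ = R := by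
      intro s hs
      have hs' : s ∈ VS ∧ IsConj (F.el (rot 6)) (D.Φ s) := by
        simp only [List.mem_cons, List.not_mem_nil, or_false] at hs
        rcases hs with rfl | rfl | rfl
        exacts [⟨hpVS.1, hconjP.1⟩, ⟨hpVS.2.1, hconjP.2.1⟩, ⟨hpVS.2.2, hconjP.2.2⟩]
      rcases hclass _ (hmap _ (hphiT s (le_extend hs'.1))) (hs'.2.trans (isConj_iff.mpr ⟨g, rfl⟩)) with h | h | h | h
      · exact Or.inl h
      · exact Or.inr (Or.inl h)
      · exact Or.inr (Or.inr h)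
      · exact absurd (mul_left_cancel (mul_right_cancel (h.trans hg3.symm))) (hnotM s)
    have hinj : ∀ {a b : G}, (g : G) * a * (g : G)⁻¹ = (g : G) * b * (g : G)⁻¹ → a = b :=
      fun h => mul_left_cancel (mul_right_cancel h)
    have hPQ : P ≠ Q := fun e => nqp (D.inj e).symm
    have hPR : P ≠ R := fun e => nrp (D.inj e).symm
    have hQR : Q ≠ R := fun e => nrq (D.inj e).symm
    set W := D.Φ D.w with hWdef
    have hWP : W * P * W⁻¹ = Q := by rw [hWdef, hPdef, hQdef, ← map_inv, ← map_mul, ← map_mul, hwp, mul_inv_cancel_right]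
    have hWQ : W * Q * W⁻¹ = P := by rw [hWdef, hPdef, hQdef, ← map_inv, ← map_mul, ← map_mul, hwq, mul_inv_cancel_right]
    have hWR : W * R * W⁻¹ = R := by rw [hWdef, hRdef, ← map_inv, ← map_mul, ← map_mul, hwr, mul_inv_cancel_right]
    have hWC : W ∈ C3 := hTC (hphiT _ hwT)
    have hgW : (g : G) * W ∉ T := fun h => hgT (by
      have := mul_mem h (inv_mem (hphiT _ hwT))
      rwa [mul_inv_cancel_right] at this)
    have hgWS : g * ⟨W, hWC⟩ ∈ (S : Subgroup C3) :=
      mul_mem hgS (hS (hphiT _ hwT : (⟨W, hWC⟩ : C3) ∈ T.subgroupOf C3))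
    have hcomp : ∀ {a b c : G}, W * a * W⁻¹ = b → (g : G) * b * (g : G)⁻¹ = c → (g : G) * W * a * ((g : G) * W)⁻¹ = c := by
      intro a b c h1 h2
      rw [← h2, ← h1]; group
    have hfixed : ∀ x : C3, (x : G) * P * (x : G)⁻¹ = P → (x : G) * Q * (x : G)⁻¹ = Q → (x : G) * R * (x : G)⁻¹ = R →
        (x : G) ∈ T := by
      intro x h1 h2 h3
      obtain ⟨y, ⟨a, b, c⟩, h | h⟩ := D.cent_four hk (g := (x : G)) (mul_inv_eq_iff_eq_mul.mp h1)
        (mul_inv_eq_iff_eq_mul.mp h2) (mul_inv_eq_iff_eq_mul.mp h3) ((hmemC _).mp x.2)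
      · rw [h]; exact hphiT y (le_extend ((hmemVS y).mpr ⟨a, b, c⟩))
      · rw [h]
        obtain ⟨i, hi⟩ : ∃ i : Z2, i ≠ 1 := z2_exists
        simpa [ei, hi] using hmemT i y (le_extend ((hmemVS y).mpr ⟨a, b, c⟩))
    have hnocyc : ∀ x ∈ (S : Subgroup C3),
        ¬ (((x : G) * P * (x : G)⁻¹ = Q ∧ (x : G) * Q * (x : G)⁻¹ = R ∧ (x : G) * R * (x : G)⁻¹ = P) ∨
          ((x : G) * P * (x : G)⁻¹ = R ∧ (x : G) * R * (x : G)⁻¹ = Q ∧ (x : G) * Q * (x : G)⁻¹ = P)) := by
      intro x hx hcyc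
      obtain ⟨n, hn⟩ := S.2 ⟨x, hx⟩
      have hn' : (x : G) ^ 2 ^ n = 1 := congrArg (fun z : (S : Subgroup C3) => ((z : C3) : G)) hn
      have key : ∀ n : ℕ, ((x : G) ^ 2 ^ n * P * ((x : G) ^ 2 ^ n)⁻¹ = Q ∧ (x : G) ^ 2 ^ n * Q * ((x : G) ^ 2 ^ n)⁻¹ = R ∧
          (x : G) ^ 2 ^ n * R * ((x : G) ^ 2 ^ n)⁻¹ = P) ∨
          ((x : G) ^ 2 ^ n * P * ((x : G) ^ 2 ^ n)⁻¹ = R ∧ (x : G) ^ 2 ^ n * R * ((x : G) ^ 2 ^ n)⁻¹ = Q ∧
          (x : G) ^ 2 ^ n * Q * ((x : G) ^ 2 ^ n)⁻¹ = P) := by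
        intro n
        induction n with
        | zero => simpa using hcyc
        | succ n ih =>
          set z := (x : G) ^ 2 ^ n with hz
          rw [show (x : G) ^ 2 ^ (n + 1) = z * z by rw [hz, ← pow_add, ← two_mul, ← pow_succ']]
          have hh : ∀ {a b c : G}, z * a * z⁻¹ = b → z * b * z⁻¹ = c → z * z * a * (z * z)⁻¹ = c := by
            intro a b c h1 h2
            rw [← h2, ← h1]; group
          rcases ih with ⟨a, b, c⟩ | ⟨a, b, c⟩
          · exact Or.inr ⟨hh a b, hh c a, hh b c⟩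
          · exact Or.inl ⟨hh a b, hh c a, hh b c⟩
      have h := key n
      rw [hn'] at h
      simp only [one_mul, inv_one, mul_one] at h
      rcases h with ⟨a, -⟩ | ⟨a, -⟩
      · exact hPQ a
      · exact hPR a
    obtain hP1 := hperm D.p (by simp)
    obtain hQ1 := hperm D.q (by simp)
    obtain hR1 := hperm D.r (by simp)
    rw [← hPdef] at hP1
    rw [← hQdef] at hQ1
    rw [← hRdef] at hR1
    rcases hR1 with hR1 | hR1 | hR1
    · rcases hP1 with hP1 | hP1 | hP1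
      · exact hPR (hinj (hP1.trans hR1.symm))
      · rcases hQ1 with hQ1 | hQ1 | hQ1
        · exact hQR (hinj (hQ1.trans hR1.symm))
        · exact hPQ (hinj (hP1.trans hQ1.symm))
        · exact hnocyc g hgS (Or.inl ⟨hP1, hQ1, hR1⟩)
      · rcases hQ1 with hQ1 | hQ1 | hQ1
        · exact hQR (hinj (hQ1.trans hR1.symm))
        · exact hnocyc _ hgWS (Or.inl ⟨hcomp hWP hQ1, hcomp hWQ hP1, hcomp hWR hR1⟩)
        · exact hPQ (hinj (hP1.trans hQ1.symm))
    · rcases hP1 with hP1 | hP1 | hP1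
      · rcases hQ1 with hQ1 | hQ1 | hQ1
        · exact hPQ (hinj (hP1.trans hQ1.symm))
        · exact hQR (hinj (hQ1.trans hR1.symm))
        · exact hnocyc _ hgWS (Or.inr ⟨hcomp hWP hQ1, hcomp hWR hR1, hcomp hWQ hP1⟩)
      · exact hPR (hinj (hP1.trans hR1.symm))
      · rcases hQ1 with hQ1 | hQ1 | hQ1
        · exact hnocyc g hgS (Or.inr ⟨hP1, hR1, hQ1⟩)
        · exact hQR (hinj (hQ1.trans hR1.symm))
        · exact hPQ (hinj (hP1.trans hQ1.symm))
    · rcases hP1 with hP1 | hP1 | hP1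
      · rcases hQ1 with hQ1 | hQ1 | hQ1
        · exact hPQ (hinj (hP1.trans hQ1.symm))
        · exact hgT (hfixed g hP1 hQ1 hR1)
        · exact hQR (hinj (hQ1.trans hR1.symm))
      · rcases hQ1 with hQ1 | hQ1 | hQ1
        · exact hgW (hfixed (g * ⟨W, hWC⟩) (hcomp hWP hQ1) (hcomp hWQ hP1) (hcomp hWR hR1))
        · exact hPQ (hinj (hP1.trans hQ1.symm))
        · exact hQR (hinj (hQ1.trans hR1.symm))
      · exact hPR (hinj (hP1.trans hR1.symm))
  -- the transfer
  let e := MonoidHom.ofInjective hΨ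
  let f : T →* Z2 := (MonoidHom.fst Z2 TS).comp e.symm.toMonoidHom
  obtain ⟨i0, hi0⟩ : ∃ i : Z2, i ≠ 1 := z2_exists
  have hX : Nat.card {x : T // IsConj t3 (x : G) ∧ f x ≠ 1} = 1 := by
    have hval : ∀ p, f (e p) = p.1 := fun p => by
      show (e.symm (e p)).1 = p.1
      rw [MulEquiv.symm_apply_apply]
    have hone' : ((e (i0, 1) : T) : G) = t3 := by
      show ei i0 * D.Φ ((1 : TS) : Perm (Fin 6)) = t3
      simp [ei, hi0]
    rw [Nat.card_eq_one_iff_unique]
    refine ⟨⟨fun a b => ?_⟩, ⟨⟨e (i0, 1), by rw [hone'], by rw [hval]; exact hi0⟩⟩⟩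
    have key : ∀ x : {x : T // IsConj t3 (x : G) ∧ f x ≠ 1}, x.1 = e (i0, 1) := by
      rintro ⟨x, hx, hf⟩
      obtain ⟨⟨i, y⟩, rfl⟩ := e.surjective x
      rw [hval] at hf
      obtain rfl : i = i0 := z2_eq_of_ne _ _ hf hi0
      have hx' : IsConj (F.el (rot 6)) (t3 * D.Φ y) := by
        have h := h13.trans hx
        rwa [show ((e (i, y) : T) : G) = t3 * D.Φ y by show ei i * D.Φ y = _; simp [ei, hi0]] at h
      have : y = 1 := Subtype.ext (D.eq_one_of_conj_coset hk hx')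
      subst this
      rfl
    exact Subtype.ext ((key a).trans (key b).symm)
  obtain ⟨H, hH, h3⟩ := exists_index_two_not_mem t3 h33 T f (T.subgroupOf C3).index
    (Nat.not_even_iff_odd.mp fun h => hodd (even_iff_two_dvd.mp h)) (by
      rw [hX, one_mul, ← hC3, ← (T.subgroupOf C3).card_mul_index,
        Nat.card_congr (Subgroup.subgroupOfEquivOfLe hTC).toEquiv, mul_comm])
  refine ⟨H, hH, fun h => h3 ?_⟩
  obtain ⟨c, hc⟩ := isConj_iff.mp h13
  rw [← hc]
  exact (Subgroup.normal_of_index_eq_two hH).conj_mem _ h c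

end Frame

end CfsgLib.Sym9Three
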