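import Cfsg.Agent.Lib.Sym9Three.ThreeQuot
import Cfsg.Agent.Lib.Sym9Three.Transfer

set_option autoImplicit false
set_option linter.style.haveILetI false
set_option synthInstance.maxSize 4000

/-!
A subgroup of index two when all translations have small centralizers.
-/

namespace CfsgLib.Sym9Three

open Subgroup CfsgLib.InvCentS6

/-- The rotations fixing the first block. -/
def inT16 (r : Fin 48) : Bool := r.val % 6 == 0 || r.val % 6 == 2

theorem inT16_group : inT16 0 = true ∧ ∀ a : Fin 48, inT16 a = true → inT16 (rInv a) = true ∧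
    ∀ b : Fin 48, inT16 b = true → inT16 (rMul a b) = true := by decide +kernel

/-- The Sylow 2-subgroup of the centralizer in the model. -/
def T16 : Subgroup Mon where
  carrier := {m | m.v = 0 ∧ inT16 m.g = true}
  mul_mem' {a b} ha hb := ⟨by show a.v + act a.g b.v = 0; rw [ha.1, hb.1, act_zero, add_zero],
    (inT16_group.2 _ ha.2).2 _ hb.2⟩
  one_mem' := ⟨rfl, inT16_group.1⟩
  inv_mem' {a} ha := ⟨by show -act (rInv a.g) a.v = 0; rw [ha.1, act_zero, neg_zero], (inT16_group.2 _ ha.2).1⟩

instance : DecidablePred (· ∈ T16) := fun m => decidable_of_iff (m.v = 0 ∧ inT16 m.g = true) Iff.rfl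

/-- The parity of the number of signs. -/
def parS (r : Fin 48) : Z2 := if inS 2 (r.val / 6) then 1 else Multiplicative.ofAdd 1

theorem parS_mul : ∀ a b : Fin 48, parS (rMul a b) = parS a * parS b := by decide +kernel

theorem parS_one : parS 0 = 1 := by decide +kernel

/-- The character of order two. -/
def chi16 : T16 →* Z2 where
  toFun m := parS m.1.g
  map_one' := parS_one
  map_mul' a b := parS_mul a.1.g b.1.g

theorem T16_cases : ∀ m : Mon, m ∈ T16 → parS m.g ≠ 1 → m * m = 1 →
    (m = rot 6 ∨ m = rot 12 ∨ m = rot 24) ∨ m = rot 42 ∨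
      ∃ n : Fin 48, rot n * rot 25 = m * rot n := by decide +kernel

theorem T16_three : ∀ m : Mon, m = rot 6 ∨ m = rot 12 ∨ m = rot 24 →
    m ∈ T16 ∧ parS m.g ≠ 1 ∧ ∃ n : Fin 48, rot n * rot 6 = m * rot n := by decide +kernel

theorem T16_counts : (Finset.univ.filter fun m : Mon => m ∈ T16 ∧ (m = rot 6 ∨ m = rot 12 ∨ m = rot 24)).card = 3 ∧
    Fintype.card T16 = 16 := by decide +kernel

universe u

variable {G : Type u} [Group G] [Finite G]

namespace Frame

variable (F : Frame G)

/-- The subgroup of index two in the small case. -/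
theorem exists_half_of_good (hk : F.k = 3) (hev : F.Good ev) :
    ∃ H : Subgroup G, H.index = 2 ∧ F.el (rot 6) ∉ H := by
  classical
  have hall : ∀ m, m ∈ Sub F.k := F.mem_all hk
  have hgood := F.good_all hk hev
  set t := F.el (rot 6) with ht
  have htsq : t * t = 1 := F.el_sq_one (hall _) (by decide +kernel)
  have ht1 : t ≠ 1 := fun e =>
    absurd (congrArg Mon.g (F.el_inj _ (hall _) 1 (one_mem _) (e.trans F.el_one.symm))) (by decide)
  have hC : Nat.card (Subgroup.centralizer ({t} : Set G)) = 144 := by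
    rw [F.card_cent (hall _) (fun g hg => F.cent_eps_le hk hgood (Subgroup.mem_centralizer_singleton_iff.mpr hg)), hk]
    exact ev_counts.2.1
  let ι : T16 →* G := MonoidHom.mk' (fun m => F.el m.1) fun a b => F.el_mul _ (hall _) _ (hall _)
  have hι : Function.Injective ι := fun a b h => Subtype.ext (F.el_inj _ (hall _) _ (hall _) h)
  let e := MonoidHom.ofInjective hι
  refine exists_index_two_not_mem t htsq ι.range (chi16.comp e.symm.toMonoidHom) 27 (by decide) ?_
  have hX : Nat.card {x : ι.range // IsConj t (x : G) ∧ (chi16.comp e.symm.toMonoidHom) x ≠ 1} =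
      (Finset.univ.filter fun m : Mon => m ∈ T16 ∧ (m = rot 6 ∨ m = rot 12 ∨ m = rot 24)).card := by
    rw [← Nat.card_congr (Equiv.subtypeEquiv e.toEquiv
      (p := fun m : T16 => m.1 = rot 6 ∨ m.1 = rot 12 ∨ m.1 = rot 24) fun m => ?_)]
    · rw [← Fintype.card_subtype, ← Nat.card_eq_fintype_card]
      exact Nat.card_congr (Equiv.subtypeSubtypeEquivSubtypeInter (fun m : Mon => m ∈ T16)
        (fun m : Mon => m = rot 6 ∨ m = rot 12 ∨ m = rot 24))
    · show _ ↔ IsConj t (F.el m.1) ∧ chi16 (e.symm (e m)) ≠ 1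
      rw [MulEquiv.symm_apply_apply]
      constructor
      · intro h
        obtain ⟨-, hp, n, hn⟩ := T16_three m.1 h
        exact ⟨F.isConj_el (hall _) (hall _) (hall _) hn, hp⟩
      · rintro ⟨hc, hp⟩
        rcases T16_cases m.1 m.2 hp (F.invol_of_isConj htsq ht1 (hall _) hc).1 with h | h | ⟨n, hn⟩
        · exact h
        · exact absurd (h ▸ hc) (F.eps_not_conj hk).2.2
        · exact absurd (hc.trans (F.isConj_el (hall _) (hall _) (hall _) hn).symm) (F.eps_not_conj hk).2.1
  rw [hX, T16_counts.1, hC, show Nat.card ι.range = 16 by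
    rw [← Nat.card_congr e.toEquiv, Nat.card_eq_fintype_card, T16_counts.2]]

end Frame

end CfsgLib.Sym9Three
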