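import Cfsg.Agent.Lib.Sym9Three.Case2
import Cfsg.Agent.Lib.A9Three.CentS
import Cfsg.Agent.Lib.Perm.AutAltGen

set_option autoImplicit false
set_option linter.style.haveILetI false
set_option synthInstance.maxSize 4000

/-!
A subgroup of index two avoiding the sign change of one block.
-/

namespace CfsgLib.Sym9Three

open Subgroup CfsgLib.A9Local CfsgLib.A9Three

/-- The rotations of the model of degree nine among the signed permutations. -/
def gamma (r : Fin 24) : Fin 48 :=
  ([0, 36, 30, 18, 26, 14, 8, 44, 25, 13, 7, 43, 5, 41, 35, 23, 4, 40, 34, 22, 27, 15, 9, 45] : List (Fin 48)).getD r.val 0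

theorem gamma_facts : (∀ a b : Fin 24, gamma (A9Local.rMul a b) = rMul (gamma a) (gamma b)) ∧
    (∀ a : Fin 24, ∀ v : V3, act (gamma a) v = A9Local.act a v) ∧ (∀ a b : Fin 24, gamma a = gamma b → a = b) ∧
    gamma 0 = 0 := by decide +kernel

/-- The embedding of the model of degree nine. -/
def delta : HM →* Mon where
  toFun h := ⟨h.v, gamma h.g⟩
  map_one' := by show (⟨0, gamma 0⟩ : Mon) = ⟨0, 0⟩; rw [gamma_facts.2.2.2]
  map_mul' a b := by
    show (⟨a.v + A9Local.act a.g b.v, gamma (A9Local.rMul a.g b.g)⟩ : Mon) = ⟨a.v + act (gamma a.g) b.v, rMul (gamma a.g) (gamma b.g)⟩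
    rw [gamma_facts.1, gamma_facts.2.1]

theorem delta_injective : Function.Injective delta := fun a b h => by
  obtain ⟨av, ag⟩ := a
  obtain ⟨bv, bg⟩ := b
  obtain rfl : av = bv := congrArg (fun m : Mon => m.v) h
  obtain rfl : ag = bg := gamma_facts.2.2.1 ag bg (congrArg (fun m : Mon => m.g) h)
  rfl

/-- A rotation as a word. -/
def wordR (a b c : Bool) (d : Fin 3) (e : Bool) : Fin 48 :=
  rMul (rMul (rMul (rMul (if a then 6 else 0) (if b then 12 else 0)) (if c then 24 else 0))
    (([0, 4, 5] : List (Fin 48)).getD d.val 0)) (if e then 1 else 0)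

/-- A character of order two of the rotations. -/
def chiB (β : Bool) (r : Fin 48) : Bool :=
  inS 2 (r.val / 6) == (β || (r.val % 6 == 0 || r.val % 6 == 4 || r.val % 6 == 5))

theorem wordR_facts : (∀ r : Fin 48, ∃ a b c : Bool, ∃ d : Fin 3, ∃ e : Bool, r = wordR a b c d e) ∧
    (∀ a b c : Bool, ∀ d : Fin 3, ∀ e β : Bool,
      chiB β (wordR a b c d e) = ((((!a) == (!b)) == (!c)) == (!e || β))) := by decide +kernel

theorem chiB_facts : (∀ r : Fin 48, chiB true r = inR 2 r) ∧ (∀ a : Fin 24, chiB false (gamma a) = true) ∧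
    (∀ r : Fin 48, chiB false r = true → ∃ a : Fin 24, gamma a = r) := by decide +kernel

theorem delta_centre : ∀ v : V3, (∀ a : Fin 24, act (gamma a) v = v) → v = 0 := by decide +kernel

universe u

variable {G : Type u} [Group G] [Finite G]

namespace Frame

variable (F : Frame G)

/-- A subgroup of index two avoiding the sign change of one block leaves the two possibilities. -/
theorem normal_or_sym9 (hk : F.k = 3) (H : Subgroup G) (hH : H.index = 2) (h6 : F.el (rot 6) ∉ H) :
    F.J.Normal ∨ Nonempty (G ≃* Equiv.Perm (Fin 9)) := by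
  classical
  have hall : ∀ m, m ∈ Sub F.k := fun m => by rw [hk]; rfl
  haveI hHn : H.Normal := Subgroup.normal_of_index_eq_two hH
  have hJH : ∀ v, F.j v ∈ H := by
    intro v
    have h2 := Subgroup.mul_self_mem_of_index_two hH (F.j v)
    rw [show F.j v = (F.j v * F.j v)⁻¹ by rw [eq_inv_iff_mul_eq_one, ← mul_assoc, ← pow_three', F.j_cube]]
    exact inv_mem h2
  set f : Fin 48 → Bool := fun r => decide (F.el (rot r) ∈ H) with hf
  have fmul : ∀ a b, f (rMul a b) = (f a == f b) := by
    intro a b
    have h := Subgroup.mul_mem_iff_of_index_two hH (a := F.el (rot a)) (b := F.el (rot b))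
    rw [← F.el_mul _ (hall _) _ (hall _), rot_mul] at h
    simp only [hf]
    by_cases ha : F.el (rot a) ∈ H <;> by_cases hb : F.el (rot b) ∈ H <;> simp [ha, hb, h]
  have f0 : f 0 = true := decide_eq_true (by rw [show rot 0 = (1 : Mon) from rfl, F.el_one]; exact one_mem H)
  have f6 : f 6 = false := decide_eq_false h6
  have fconj : ∀ n r : Fin 48, f (rMul (rMul n r) (rInv n)) = f r := by
    intro n r
    have h : f (rMul n (rInv n)) = true := by rw [(rMul_one n).2.2.2, f0]
    rw [fmul] at h
    rw [fmul, fmul]
    revert h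
    cases f n <;> cases f (rInv n) <;> cases f r <;> simp
  have f12 : f 12 = false := by
    rw [show (12 : Fin 48) = rMul (rMul 1 6) (rInv 1) by decide +kernel, fconj, f6]
  have f24 : f 24 = false := by
    rw [show (24 : Fin 48) = rMul (rMul 3 6) (rInv 3) by decide +kernel, fconj, f6]
  have f4 : f 4 = true ∧ f 5 = true := by
    have h4 : f (rMul (rMul 4 4) 4) = true := by
      rw [show rMul (rMul 4 4) 4 = 0 by decide +kernel, f0]
    have h5 : f (rMul 4 4) = f 5 := congrArg f (by decide +kernel)
    rw [fmul] at h5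
    rw [fmul, fmul] at h4
    revert h4 h5
    cases f 4 <;> cases f 5 <;> simp
  have hfr : ∀ r, f r = chiB (f 1) r := by
    intro r
    obtain ⟨a, b, c, d, e, rfl⟩ := wordR_facts.1 r
    rw [wordR_facts.2, wordR, fmul, fmul, fmul, fmul]
    have hd : f (([0, 4, 5] : List (Fin 48)).getD d.val 0) = true := by
      fin_cases d
      exacts [f0, f4.1, f4.2]
    rw [hd]
    cases a <;> cases b <;> cases c <;> cases e <;> simp [f0, f6, f12, f24]
  have hmem : ∀ m : Mon, F.el m ∈ H ↔ chiB (f 1) m.g = true := by
    intro m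
    conv_lhs => rw [mon_split m]
    rw [F.el_mul _ (tr_mem_Sub _ _) _ (hall _), Subgroup.mul_mem_cancel_left H (hJH _), ← hfr, hf, decide_eq_true_iff]
  have hHN : (∀ h ∈ H, h ∈ F.N) → F.J.Normal := by
    intro h
    refine F.normal_of_top fun g => ?_
    by_cases hg : g ∈ H
    · exact h g hg
    · have hgt : g * F.el (rot 6) ∈ H := (Subgroup.mul_mem_iff_of_index_two hH).mpr
        ⟨fun e => absurd e hg, fun e => absurd e h6⟩
      have := mul_mem (h _ hgt) (inv_mem (F.el_mem_N (hall (rot 6))))
      rwa [mul_inv_cancel_right] at this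
  have hnormal : (F.J.subgroupOf H).Normal → F.J.Normal := fun hn => hHN fun h hh =>
    F.mem_N_of_subset fun u => hn.conj_mem (⟨F.j u, hJH u⟩ : H) (F.j_mem u) ⟨h, hh⟩
  have hNH : ∀ g : H, g ∈ Subgroup.normalizer ((F.J.subgroupOf H : Subgroup H) : Set H) ↔ (g : G) ∈ F.N := by
    intro g
    constructor
    · intro hg
      exact F.mem_N_of_subset fun u => (Subgroup.mem_normalizer_iff.mp hg ⟨F.j u, hJH u⟩).mp (F.j_mem u)
    · intro hg
      rw [Subgroup.mem_normalizer_iff]
      intro z
      exact Subgroup.mem_normalizer_iff.mp hg (z : G)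
  have hsigH : ∀ U : Subgroup H, (Nat.card U).Coprime 3 →
      (∀ v, ∀ z ∈ U, (⟨F.j v, hJH v⟩ : H) * z * (⟨F.j v, hJH v⟩ : H)⁻¹ ∈ U) → U = ⊥ := by
    intro U hU hv
    have h := F.sig (U.map H.subtype) (by rwa [Subgroup.card_map_of_injective H.subtype_injective]) fun v => by
      refine Subgroup.eq_of_le_of_card_ge ?_ (by
        rw [Subgroup.card_map_of_injective (f := (MulAut.conj (F.j v)).toMonoidHom) (MulAut.conj _).injective])
      rintro _ ⟨_, ⟨z, hz, rfl⟩, rfl⟩
      exact ⟨_, hv v z hz, rfl⟩
    rwa [Subgroup.map_eq_bot_iff_of_injective _ H.subtype_injective] at h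
  cases hβ : f 1
  · -- the alternating group
    simp only [hβ] at hmem
    have hin : ∀ h : HM, F.el (delta h) ∈ H := fun h => (hmem _).mpr (chiB_facts.2.1 h.g)
    let ι : HM →* H :=
      { toFun := fun h => ⟨F.el (delta h), hin h⟩
        map_one' := Subtype.ext (by show F.el (delta 1) = 1; rw [map_one, F.el_one])
        map_mul' := fun a b => Subtype.ext (by
          show F.el (delta (a * b)) = F.el (delta a) * F.el (delta b)
          rw [map_mul, F.el_mul _ (hall _) _ (hall _)]) }
    have hιt : A9Local.transl.map ι = F.J.subgroupOf H := by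
      ext z
      rw [Subgroup.mem_subgroupOf, F.mem_J]
      constructor
      · rintro ⟨⟨v, g⟩, hg, rfl⟩
        obtain rfl : g = 0 := hg
        exact ⟨v, by show F.el (tr v) = F.el ⟨v, gamma 0⟩; rw [gamma_facts.2.2.2]⟩
      · rintro ⟨v, hv⟩
        exact ⟨⟨v, 0⟩, rfl, Subtype.ext (by show F.el ⟨v, gamma 0⟩ = z.1; rw [gamma_facts.2.2.2]; exact hv)⟩
    let L : Loc H :=
      { ι := ι
        inj := fun a b h => delta_injective (F.el_inj _ (hall _) _ (hall _) (congrArg Subtype.val h))
        norm := by
          ext z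
          rw [hιt, hNH, F.mem_N]
          constructor
          · rintro ⟨m, -, e⟩
            obtain ⟨a, ha⟩ := chiB_facts.2.2 _ ((hmem m).mp (e ▸ z.2))
            exact ⟨⟨m.v, a⟩, Subtype.ext (by show F.el ⟨m.v, gamma a⟩ = z.1; rw [ha]; exact e)⟩
          · rintro ⟨h, rfl⟩
            exact ⟨delta h, hall _, rfl⟩
        cores := fun k hk0 _ => by
          have hjC : ∀ v, (⟨F.j v, hJH v⟩ : H) ∈ Subgroup.centralizer ({ι k} : Set H) := fun v => by
            rw [Subgroup.mem_centralizer_singleton_iff]
            refine Subtype.ext (F.J_comm (F.j_mem v) ?_)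
            show F.el ⟨k.v, gamma k.g⟩ ∈ F.J
            rw [hk0, gamma_facts.2.2.2]
            exact F.j_mem k.v
          have h := hsigH ((Cfsg.pPrimeCore 3 (Subgroup.centralizer ({ι k} : Set H))).map (Subgroup.subtype _))
            (by rw [Subgroup.card_map_of_injective (Subgroup.subtype_injective _)]
                exact CfsgLib.card_pPrimeCore_coprime 3)
            (by
              rintro v _ ⟨z, hz, rfl⟩
              exact ⟨_, (inferInstance : (Cfsg.pPrimeCore 3 (Subgroup.centralizer ({ι k} : Set H))).Normal).conj_mem z hz ⟨_, hjC v⟩, rfl⟩)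
          rwa [Subgroup.map_eq_bot_iff_of_injective _ (Subgroup.subtype_injective _)] at h }
    rcases L.top_or_alt with htop | ⟨⟨e⟩⟩
    · left
      refine hnormal ⟨fun z hz g => ?_⟩
      have hg : g ∈ Subgroup.normalizer ((F.J.subgroupOf H : Subgroup H) : Set H) := by
        rw [← hιt, L.norm, htop]
        exact Subgroup.mem_top g
      exact (Subgroup.mem_normalizer_iff.mp hg z).mp hz
    · right
      let Ψ : G →* MulAut (alternatingGroup (Fin 9)) := (MulAut.congr e).toMonoidHom.comp MulAut.conjNormal
      have hΨ : Function.Injective Ψ := by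
        rw [injective_iff_map_eq_one]
        intro g hg
        have hg' : (MulAut.conjNormal g : MulAut H) = 1 := (MulAut.congr e).map_eq_one_iff.mp hg
        have hc : ∀ h ∈ H, g * h = h * g := fun h hh => by
          have := congrArg (fun a : MulAut H => ((a ⟨h, hh⟩ : H) : G)) hg'
          simp only [MulAut.conjNormal_apply, MulAut.one_apply] at this
          exact mul_inv_eq_iff_eq_mul.mp this
        obtain ⟨m, hm0, rfl⟩ := F.cent g (hc _ (hJH xv))
        have hfix : ∀ v, act m.g v = v := fun v => F.j_inj (by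
          rw [← F.el_conj (hall m), hc _ (hJH v), mul_inv_cancel_right])
        have hv : m.v = 0 := delta_centre m.v fun a => by
          have hg0 : m.g = 0 := by
            obtain ⟨p, hp⟩ := sub0_repr hm0
            have := perm_kernel p fun v => by
              have := hfix v
              rwa [hp] at this
            rw [hp, this]; rfl
          have hmv : m = tr m.v := by conv_lhs => rw [mon_split m, hg0, show rot 0 = (1 : Mon) from rfl, mul_one]
          refine F.j_inj ?_
          have hr := hin ⟨0, a⟩
          rw [show gamma a = (delta ⟨0, a⟩).g from rfl, ← F.el_conj (hall (delta ⟨0, a⟩)) m.v, mul_inv_eq_iff_eq_mul]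
          have := hc _ hr
          rw [hmv] at this
          exact this.symm
        have hg0 : m.g = 0 := by
          obtain ⟨p, hp⟩ := sub0_repr hm0
          have := perm_kernel p fun v => by
            have := hfix v
            rwa [hp] at this
          rw [hp, this]; rfl
        rw [show m = 1 by rw [mon_split m, hv, hg0]; rfl, F.el_one]
      let Φ : Equiv.Perm (Fin 9) ≃* MulAut (alternatingGroup (Fin 9)) :=
        MulEquiv.ofBijective MulAut.conjNormal
          ⟨CfsgLib.AutAltGen.conjNormal_injective 9 (by norm_num), fun φ =>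
            CfsgLib.AutAltGen.exists_conjNormal 9 (by norm_num) φ fun x hx =>
              CfsgLib.AutAlt.image_isThreeCycle (by simp) (by simp) φ x hx⟩
      let Θ : G →* Equiv.Perm (Fin 9) := Φ.symm.toMonoidHom.comp Ψ
      have hΘ : Function.Injective Θ := Φ.symm.injective.comp hΨ
      refine ⟨MulEquiv.ofBijective Θ ((Nat.bijective_iff_injective_and_card Θ).mpr ⟨hΘ, ?_⟩)⟩
      rw [← H.card_mul_index, hH, Nat.card_congr e.toEquiv, mul_comm, two_mul_nat_card_alternatingGroup]
  · -- the even sign changes
    left
    simp only [hβ] at hmem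
    simp only [chiB_facts.1] at hmem
    have hC : ∀ m, inR 2 m.g = true → F.el m ∈ H := fun m hm => (hmem m).mpr hm
    have h0 : ∀ m ∈ Sub 0, F.el m ∈ H := fun m hm => hC m (Sub_zero_le 2 hm)
    let F2 : Frame H :=
      { k := 2
        el := fun m => if h : F.el m ∈ H then ⟨F.el m, h⟩ else 1
        el_mul := fun a ha b hb => by
          rw [dif_pos (hC _ (mul_mem ha hb)), dif_pos (hC _ ha), dif_pos (hC _ hb)]
          exact Subtype.ext (F.el_mul _ (hall _) _ (hall _))
        el_inj := fun a ha b hb e => by
          rw [dif_pos (hC _ ha), dif_pos (hC _ hb)] at e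
          exact F.el_inj _ (hall _) _ (hall _) (congrArg Subtype.val e)
        J := F.J.subgroupOf H
        mem_J := fun g => by
          rw [Subgroup.mem_subgroupOf, F.mem_J]
          refine exists_congr fun v => ?_
          rw [dif_pos (hJH v)]
          exact ⟨fun e => Subtype.ext e, fun e => congrArg Subtype.val e⟩
        mem_N := fun g => by
          rw [hNH, F.mem_N]
          constructor
          · rintro ⟨m, -, e⟩
            have hm : inR 2 m.g = true := (hmem m).mp (e ▸ g.2)
            exact ⟨m, hm, by rw [dif_pos (hC _ hm)]; exact Subtype.ext e⟩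
          · rintro ⟨m, hm, rfl⟩
            exact ⟨m, hall _, by rw [dif_pos (hC _ hm)]⟩
        cent := fun g hg => by
          rw [dif_pos (hJH xv)] at hg
          obtain ⟨m, hm, e⟩ := F.cent g (congrArg Subtype.val hg)
          exact ⟨m, hm, by rw [dif_pos (h0 _ hm)]; exact Subtype.ext e⟩
        sig := fun U hU hfix => hsigH U hU fun v z hz => by
          have := hfix v
          rw [dif_pos (hJH v)] at this
          rw [← this]
          exact ⟨z, hz, rfl⟩ }
    exact hnormal (F2.normal_of_two rfl)

end Frame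

end CfsgLib.Sym9Three
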