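import Mathlib.GroupTheory.Perm.Cycle.Type
import Mathlib.Data.Fintype.Perm
import Mathlib.GroupTheory.SpecificGroups.Alternating
import Mathlib.Tactic.FinCases

set_option autoImplicit false
set_option maxRecDepth 8000
set_option synthInstance.maxSize 4000

/-!
Finite facts about the symmetric group of degree six.
-/

namespace CfsgLib.Sym9Three

open Equiv Equiv.Perm

/-- The elements of the standard Sylow 3-subgroup. -/
def stdList : List (Perm (Fin 6)) :=
  let a : Perm (Fin 6) := swap 0 1 * swap 1 2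
  let b : Perm (Fin 6) := swap 3 4 * swap 4 5
  [1, a, a * a, b, a * b, a * a * b, b * b, a * (b * b), a * a * (b * b)]

/-- Normalizing the standard Sylow 3-subgroup. -/
def normStd (y : Perm (Fin 6)) : Prop :=
  y * (swap 0 1 * swap 1 2) * y⁻¹ ∈ stdList ∧ y * (swap 3 4 * swap 4 5) * y⁻¹ ∈ stdList

instance (y : Perm (Fin 6)) : Decidable (normStd y) := by unfold normStd; infer_instance

theorem six_invol_classes : ∀ u : Perm (Fin 6), u * u = 1 → u ≠ 1 → ∃ k : Perm (Fin 6),
    k * u = swap 0 1 * k ∨ k * u = swap 0 1 * swap 2 3 * k ∨ k * u = swap 0 1 * swap 2 3 * swap 4 5 * k := by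
  decide +kernel

theorem six_odd_of_cent_three : ∀ u : Perm (Fin 6), u * u = 1 → u ≠ 1 →
    (∃ y : Perm (Fin 6), y * y * y = 1 ∧ y ≠ 1 ∧ y * u = u * y) → sign u = -1 := by decide +kernel

/-- The number of fixed points. -/
def fixCount (u : Perm (Fin 6)) : ℕ := (Finset.univ.filter fun i => u i = i).card

/-- The involutions normalizing the standard Sylow 3-subgroup and centralizing one of its nontrivial elements. -/
def twelve : List (Perm (Fin 6)) :=
  [swap 4 5, swap 3 4, swap 3 5, swap 1 2, swap 0 1, swap 0 2, swap 0 3 * swap 1 4 * swap 2 5,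
    swap 0 3 * swap 1 5 * swap 2 4, swap 0 4 * swap 1 3 * swap 2 5, swap 0 4 * swap 1 5 * swap 2 3,
    swap 0 5 * swap 1 3 * swap 2 4, swap 0 5 * swap 1 4 * swap 2 3]

theorem fixCount_conj {a b k : Perm (Fin 6)} (h : k * a = b * k) : fixCount a = fixCount b := by
  have hk : ∀ i, k (a i) = b (k i) := fun i => Equiv.congr_fun h i
  refine Finset.card_equiv k fun i => ?_
  simp only [Finset.mem_filter, Finset.mem_univ, true_and, ← hk, k.injective.eq_iff]

theorem six_three_classes : ∀ u : Perm (Fin 6), u * u * u = 1 → u ≠ 1 → ∃ k : Perm (Fin 6),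
    (k * u = swap 0 1 * swap 1 2 * k ∧ fixCount u = 3) ∨
      (k * u = swap 0 1 * swap 1 2 * (swap 3 4 * swap 4 5) * k ∧ fixCount u = 0) := by decide +kernel

theorem six_twelve : ∀ p : Perm (Fin 6), p * p = 1 → p ≠ 1 → normStd p → (∃ y ∈ stdList, y ≠ 1 ∧ y * p = p * y) →
    p ∈ twelve := by decide +kernel

/-- Three commuting conjugate involutions with a permutation of them of order three and an exchange of two. -/
def SixPack (p q r π w : Perm (Fin 6)) : Prop :=
  (π * p = q * π ∧ π * q = r * π ∧ π * r = p * π) ∧ π * π * π = 1 ∧ π ≠ 1 ∧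
    (p * q = q * p ∧ p * r = r * p ∧ q * r = r * q) ∧ (q ≠ p ∧ r ≠ p ∧ r ≠ q) ∧
    (∀ c ∈ stdList, c * p ≠ p * c → c * q ≠ q * c → fixCount c = fixCount π) ∧
    fixCount (p * q * r) ≠ fixCount p ∧
    (∀ h : Perm (Fin 6), h * p = p * h → h * q = q * h → h * r = r * h →
      h ∈ [1, p, q, r, p * q, p * r, q * r, p * q * r]) ∧
    (w * p = q * w ∧ w * w = 1 ∧ w * r = r * w) ∧
    ∀ h ∈ [1, p, q, r, p * q, p * r, q * r, p * q * r], h * w * (h * w) = 1 → fixCount (h * w) ≠ fixCount p

instance (p q r π w : Perm (Fin 6)) : Decidable (SixPack p q r π w) := by unfold SixPack; infer_instance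

theorem six_single : SixPack (swap 0 1) (swap 3 4) (swap 2 5) (swap 0 2 * swap 0 3 * (swap 1 5 * swap 1 4))
    (swap 0 3 * swap 1 4) := by decide +kernel

theorem six_triple : SixPack (swap 0 3 * swap 1 4 * swap 2 5) (swap 0 3 * swap 1 5 * swap 2 4)
    (swap 0 3 * swap 1 2 * swap 4 5) (swap 2 5 * swap 2 4) (swap 4 5) := by decide +kernel

theorem six_reduce : ∀ p ∈ twelve, ∀ q ∈ twelve, q ≠ p → p * q = q * p → fixCount p = fixCount q →
    ∃ k : Perm (Fin 6), normStd k ∧ ((k * p = swap 0 1 * k ∧ k * q = swap 3 4 * k) ∨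
      (k * p = swap 0 3 * swap 1 4 * swap 2 5 * k ∧ k * q = swap 0 3 * swap 1 5 * swap 2 4 * k)) := by
  decide +kernel

theorem normStd_maps : ∀ k : Perm (Fin 6), normStd k → ∀ y ∈ stdList, k * y * k⁻¹ ∈ stdList := by decide +kernel

theorem six_adjacent : normStd (swap 0 1) ∧ normStd (swap 1 2) ∧ normStd (swap 3 4) ∧ normStd (swap 4 5) := by
  decide +kernel

theorem six_middle : ∀ a b : Fin 6, a ≠ b → swap a b * swap 0 1 = swap 0 1 * swap a b →
    swap a b * swap 4 5 = swap 4 5 * swap a b → swap a b ≠ swap 0 1 → swap a b ≠ swap 4 5 →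
      swap a b = swap 2 3 := by decide +kernel

end CfsgLib.Sym9Three
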