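import Cfsg.Agent.Lib.Sym9Three.ThreeQuot
import Cfsg.Agent.Lib.Sym9Three.SixFacts

set_option autoImplicit false
set_option linter.style.haveILetI false
set_option synthInstance.maxSize 4000

/-!
Coordinates on the centralizer of a translation moving one block when it involves the symmetric group of
degree six.
-/

namespace CfsgLib.Sym9Three

open Subgroup Equiv Equiv.Perm
open scoped Pointwise

theorem std_group : (1 : Perm (Fin 6)) ∈ stdList ∧
    ∀ a ∈ stdList, a⁻¹ ∈ stdList ∧ ∀ b ∈ stdList, a * b ∈ stdList ∧ a * b = b * a := by decide +kernel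

theorem std_length : stdList.Nodup ∧ stdList.length = 9 := by decide +kernel

/-- The standard Sylow 3-subgroup. -/
def stdSub : Subgroup (Perm (Fin 6)) where
  carrier := {y | y ∈ stdList}
  mul_mem' {a b} ha hb := ((std_group.2 a ha).2 b hb).1
  one_mem' := std_group.1
  inv_mem' {a} ha := (std_group.2 a ha).1

theorem card_stdSub : Nat.card stdSub = 9 := by
  rw [show Nat.card stdSub = Nat.card {y // y ∈ stdList.toFinset} from
      Nat.card_congr (Equiv.subtypeEquivRight fun y => List.mem_toFinset.symm),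
    Nat.card_eq_finsetCard, List.toFinset_card_of_nodup std_length.1, std_length.2]

/-- The sign change of the last block. -/
abbrev rt3 : Mon := rot 24

theorem ev_sign : act 24 ev = -ev ∧ (24 : Fin 48) ≠ 0 := by decide +kernel

theorem ev_commutator : ∀ m : Mon, m * tr ev = tr ev * m →
    rt3 * m * rt3 * m⁻¹ ∈ ([1, tr ev, tr (-ev)] : List Mon) := by decide +kernel

theorem flat_facts : ∀ v : V3, v.2.2 = 0 → tr v * rt3 = rt3 * tr v ∧ tr v * tr ev = tr ev * tr v := by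
  decide +kernel

theorem sign_flat : ∀ r ∈ ([6, 12, 1] : List (Fin 48)), rot r * rt3 = rt3 * rot r ∧ rot r * tr ev = tr ev * rot r := by
  decide +kernel

theorem axis_facts : ((0, 1, 0) : V3) ≠ 0 ∧ ((1, 0, 0) : V3) ≠ 0 ∧ ((1, 1, 0) : V3) ≠ 0 ∧
    tr (0, 1, 0) * rot 6 = rot 6 * tr (0, 1, 0) ∧ tr (1, 0, 0) * rot 12 = rot 12 * tr (1, 0, 0) ∧
    tr (1, 1, 0) * rot 6 ≠ rot 6 * tr (1, 1, 0) ∧ tr (1, 1, 0) * rot 12 ≠ rot 12 * tr (1, 1, 0) ∧
    ev ≠ (0 : V3) := by decide +kernel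

theorem six_closure : ∀ S : Subgroup (Perm (Fin 6)), swap 0 1 ∈ S → swap 1 2 ∈ S → swap 2 3 ∈ S → swap 3 4 ∈ S →
    swap 4 5 ∈ S → S = ⊤ := by
  intro S h0 h1 h2 h3 h4
  rw [eq_top_iff]
  intro y _
  have hle : Submonoid.closure (Set.range fun i : Fin 5 => swap i.castSucc i.succ) ≤ S.toSubmonoid := by
    rw [Submonoid.closure_le]
    rintro _ ⟨i, rfl⟩
    fin_cases i <;> assumption
  rw [Equiv.Perm.mclosure_swap_castSucc_succ] at hle
  exact hle (Submonoid.mem_top y)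

universe u

variable {G : Type u} [Group G] [Finite G]

namespace Frame

/-- The symmetric group of degree six centralizing a translation and a sign change. -/
structure SixData (F : Frame G) where
  /-- the embedding -/
  Φ : Perm (Fin 6) →* G
  inj : Function.Injective Φ
  comm_ev : ∀ y, Φ y * F.j ev = F.j ev * Φ y
  comm_t3 : ∀ y, Φ y * F.el rt3 = F.el rt3 * Φ y
  mem : ∀ g, g * F.j ev = F.j ev * g → g * F.el rt3 = F.el rt3 * g → ∃ y, Φ y = g
  split : ∀ g, g * F.j ev = F.j ev * g → ∃ y, ∃ i : Fin 3, g = Φ y * F.j (i.val • ev)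
  /-- the first transposition -/
  p : Perm (Fin 6)
  /-- the second transposition -/
  q : Perm (Fin 6)
  /-- the third transposition -/
  r : Perm (Fin 6)
  /-- the permutation of the three -/
  π : Perm (Fin 6)
  /-- the exchange of two -/
  w : Perm (Fin 6)
  pack : SixPack p q r π w
  hp : Φ p = F.el (rot 6)
  hq : Φ q = F.el (rot 12)
  hπ : ∃ k, Φ k * F.j (1, 1, 0) * (Φ k)⁻¹ = Φ π

variable (F : Frame G)

theorem exists_sixData (hk : F.k = 3) : ∀ ψ : Subgroup.centralizer ({F.j ev} : Set G) →* Perm (Fin 6),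
    Function.Surjective ψ → (∀ h, ψ h = 1 ↔ (h : G) ∈ Subgroup.zpowers (F.j ev)) →
    Nonempty (SixData F) := by
  classical
  haveI : Fact (Nat.Prime 3) := ⟨Nat.prime_three⟩
  have hall : ∀ m, m ∈ Sub F.k := F.mem_all hk
  set C := Subgroup.centralizer ({F.j ev} : Set G) with hC
  have hmemC : ∀ z, z ∈ C ↔ z * F.j ev = F.j ev * z := fun z => Subgroup.mem_centralizer_singleton_iff
  set Z := Subgroup.zpowers (F.j ev) with hZ
  intro ψ hsurj hker
  have hZJ : Z ≤ F.J := Subgroup.zpowers_le.mpr (F.j_mem ev)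
  have hJC : ∀ v, F.j v ∈ C := fun v => (hmemC _).mpr (F.J_comm (F.j_mem v) (F.j_mem ev))
  -- the image of the translations
  let A' : Subgroup (Perm (Fin 6)) := (F.J.subgroupOf C).map ψ
  have hA'mem : ∀ y, y ∈ A' ↔ ∃ v, ψ ⟨F.j v, hJC v⟩ = y := by
    intro y
    constructor
    · rintro ⟨z, hz, rfl⟩
      obtain ⟨v, hv⟩ := (F.mem_J _).mp hz
      exact ⟨v, congrArg ψ (Subtype.ext hv)⟩
    · rintro ⟨v, rfl⟩
      exact ⟨_, F.j_mem v, rfl⟩
  have hA'card : Nat.card A' = 9 := by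
    have hker' : ψ.ker ≤ F.J.subgroupOf C := fun z hz => hZJ ((hker z).mp (MonoidHom.mem_ker.mp hz))
    have e1 := (F.J.subgroupOf C).card_mul_index
    have e2 := ψ.ker.card_mul_index
    have e3 := A'.card_mul_index
    rw [Subgroup.index_map_eq _ hsurj hker'] at e3
    rw [Subgroup.index_ker, MonoidHom.range_eq_top.mpr hsurj, Subgroup.card_top] at e2
    rw [Nat.card_congr (Subgroup.subgroupOfEquivOfLe (show F.J ≤ C from fun z hz =>
      (hmemC z).mpr (F.J_comm hz (F.j_mem ev)))).toEquiv, F.card_J, ← e2] at e1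
    have hk3 : Nat.card ψ.ker = 3 := by
      have : orderOf (F.j ev) = 3 := orderOf_eq_prime (F.j_cube _) (F.j_ne_one axis_facts.2.2.2.2.2.2.2)
      rw [← this, ← Nat.card_zpowers]
      exact Nat.card_congr ⟨fun z => ⟨((z : C) : G), (hker z).mp (MonoidHom.mem_ker.mp z.2)⟩,
        fun z => ⟨⟨(z : G), (hmemC _).mpr (F.J_comm (hZJ z.2) (F.j_mem ev))⟩, MonoidHom.mem_ker.mpr ((hker _).mpr z.2)⟩,
        fun z => rfl, fun z => rfl⟩
    rw [hk3, ← e3] at e1
    have : 0 < (F.J.subgroupOf C).index := Nat.pos_of_ne_zero Subgroup.index_ne_zero_of_finite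
    nlinarith
  have hnine : ∀ A : Subgroup (Perm (Fin 6)), Nat.card A = 9 → ∃ P : Sylow 3 (Perm (Fin 6)), (P : Subgroup _) = A := by
    intro A hA
    obtain ⟨P, hP⟩ := (IsPGroup.of_card (p := 3) (n := 2) (G := A) hA).exists_le_sylow
    refine ⟨P, (Subgroup.eq_of_le_of_card_ge hP ?_).symm⟩
    rw [hA, P.card_eq_multiplicity, Nat.card_perm, Nat.card_fin, show Nat.factorial 6 = 80 * 3 ^ 2 by rfl,
      Nat.factorization_mul (by norm_num) (by norm_num), Nat.Prime.factorization_pow Nat.prime_three]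
    simp [Nat.factorization_eq_zero_of_not_dvd (show ¬ 3 ∣ 80 by norm_num)]
  obtain ⟨P1, hP1⟩ := hnine A' hA'card
  obtain ⟨P2, hP2⟩ := hnine stdSub card_stdSub
  obtain ⟨σ, hσ⟩ := MulAction.exists_smul_eq (Perm (Fin 6)) P1 P2
  have hσmem : ∀ y, y ∈ A' ↔ σ * y * σ⁻¹ ∈ stdList := by
    intro y
    have e : stdSub = MulAut.conj σ • A' := by rw [← hP2, ← hσ, Sylow.coe_subgroup_smul, hP1]
    show _ ↔ σ * y * σ⁻¹ ∈ stdSub
    rw [e]
    exact (Subgroup.smul_mem_pointwise_smul_iff (a := MulAut.conj σ)).symm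
  -- the involutions to be normalized
  let ψ1 : C →* Perm (Fin 6) := (MulAut.conj σ).toMonoidHom.comp ψ
  have hs1 : Function.Surjective ψ1 := (MulAut.conj σ).surjective.comp hsurj
  have hk1 : ∀ h, ψ1 h = 1 ↔ (h : G) ∈ Z := fun h => by
    show (MulAut.conj σ) (ψ h) = 1 ↔ _
    rw [MulEquiv.map_eq_one_iff, hker]
  have hstd : ∀ v, ψ1 ⟨F.j v, hJC v⟩ ∈ stdList := fun v => (hσmem _).mp ((hA'mem _).mpr ⟨v, rfl⟩)
  have hstd' : ∀ y ∈ stdList, ∃ v, ψ1 ⟨F.j v, hJC v⟩ = y := fun y hy => by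
    obtain ⟨v, hv⟩ := (hA'mem (σ⁻¹ * y * σ)).mp ((hσmem _).mpr (by
      rwa [show σ * (σ⁻¹ * y * σ) * σ⁻¹ = y by group]))
    exact ⟨v, by show σ * ψ _ * σ⁻¹ = y; rw [hv]; group⟩
  have hjinv : ∀ v w, ψ1 ⟨F.j v, hJC v⟩ = ψ1 ⟨F.j w, hJC w⟩ → F.j v * (F.j w)⁻¹ ∈ Z := by
    intro v w e
    have : ψ1 (⟨F.j v, hJC v⟩ * (⟨F.j w, hJC w⟩ : C)⁻¹) = 1 := by rw [map_mul, map_inv, e, mul_inv_cancel]
    exact (hk1 _).mp this
  -- elements normalizing the standard subgroup come from the normalizer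
  have hnormN : ∀ h : C, normStd (ψ1 h) → (h : G) ∈ F.N := by
    intro h hn
    refine F.mem_N_of_subset fun u => ?_
    obtain ⟨v, hv⟩ := hstd' _ (normStd_maps _ hn _ (hstd u))
    rw [← map_inv, ← map_mul, ← map_mul] at hv
    have h1 : ψ1 ((⟨F.j v, hJC v⟩ : C)⁻¹ * (h * ⟨F.j u, hJC u⟩ * h⁻¹)) = 1 := by
      rw [map_mul, map_inv, hv, inv_mul_cancel]
    have h2 := mul_mem (F.j_mem v) (hZJ ((hk1 _).mp h1))
    simpa using h2
  have hnorm' : ∀ m, m * tr ev = tr ev * m → ∀ hm : F.el m ∈ C, normStd (ψ1 ⟨F.el m, hm⟩) := by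
    intro m _ hm
    have key : ∀ y ∈ stdList, ψ1 ⟨F.el m, hm⟩ * y * (ψ1 ⟨F.el m, hm⟩)⁻¹ ∈ stdList := by
      intro y hy
      obtain ⟨v, rfl⟩ := hstd' y hy
      rw [← map_inv, ← map_mul, ← map_mul]
      rw [show (⟨F.el m, hm⟩ : C) * ⟨F.j v, hJC v⟩ * (⟨F.el m, hm⟩ : C)⁻¹ = ⟨F.j (act m.g v), hJC _⟩ from
        Subtype.ext (F.el_conj (hall m) v)]
      exact hstd _
    exact ⟨key _ (by decide +kernel), key _ (by decide +kernel)⟩
  -- the sign change of the last block acts trivially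
  set t3 := F.el rt3 with ht3
  have ht3sq : t3 * t3 = 1 := F.el_sq_one (hall _) (by decide +kernel)
  have ht3inv : t3⁻¹ = t3 := inv_eq_of_mul_eq_one_right ht3sq
  have ht3ev : t3 * F.j ev * t3 = (F.j ev)⁻¹ := by
    have h := F.el_conj (hall rt3) ev
    rw [show (rt3).g = 24 from rfl, ev_sign.1, F.j_neg, ← ht3, ht3inv] at h
    exact h
  have hβmem : ∀ h ∈ C, t3 * h * t3 ∈ C := by
    intro h hh
    rw [hmemC]
    have he : F.j ev = t3 * (F.j ev)⁻¹ * t3 := by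
      rw [← ht3ev]
      calc F.j ev = (t3 * t3) * F.j ev * (t3 * t3) := by rw [ht3sq, one_mul, mul_one]
        _ = t3 * (t3 * F.j ev * t3) * t3 := by group
    have hc : h * (F.j ev)⁻¹ = (F.j ev)⁻¹ * h := (Commute.inv_right ((hmemC h).mp hh)).eq
    calc t3 * h * t3 * F.j ev = t3 * h * t3 * (t3 * (F.j ev)⁻¹ * t3) := by rw [← he]
      _ = t3 * (h * (t3 * t3) * (F.j ev)⁻¹) * t3 := by group
      _ = t3 * ((F.j ev)⁻¹ * (t3 * t3) * h) * t3 := by rw [ht3sq, mul_one, hc, mul_one]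
      _ = t3 * (F.j ev)⁻¹ * t3 * (t3 * h * t3) := by group
      _ = F.j ev * (t3 * h * t3) := by rw [← he]
  let β : C →* C := MonoidHom.mk' (fun h => ⟨t3 * (h : G) * t3, hβmem h h.2⟩) fun a b => Subtype.ext (by
    show t3 * ((a : G) * b) * t3 = t3 * a * t3 * (t3 * b * t3)
    rw [show t3 * (a : G) * t3 * (t3 * b * t3) = t3 * a * (t3 * t3) * b * t3 by group, ht3sq]
    group)
  have hββ : ∀ h, β (β h) = h := fun h => Subtype.ext (by
    show t3 * (t3 * (h : G) * t3) * t3 = h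
    rw [show t3 * (t3 * (h : G) * t3) * t3 = (t3 * t3) * h * (t3 * t3) by group, ht3sq, one_mul, mul_one])
  have hβker : ∀ h, ψ1 h = 1 → ψ1 (β h) = 1 := fun h hh => by
    rw [hk1] at hh ⊢
    obtain ⟨i, hi⟩ := mem_powers_iff_mem_zpowers.mpr hh
    refine mem_powers_iff_mem_zpowers.mp ?_
    rw [mem_powers_iff_mem_zpowers]
    show t3 * (h : G) * t3 ∈ Z
    rw [← show F.j ev ^ i = (h : G) from hi]
    have : t3 * F.j ev ^ i * t3 = ((F.j ev)⁻¹) ^ i := by
      rw [← ht3ev]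
      conv_rhs => rw [show t3 * F.j ev * t3 = t3 * F.j ev * t3⁻¹ by rw [ht3inv]]
      rw [conj_pow, ht3inv]
    rw [this]
    exact Subgroup.pow_mem _ (inv_mem (Subgroup.mem_zpowers _)) _
  let βb : Perm (Fin 6) →* Perm (Fin 6) :=
    MonoidHom.mk' (fun y => ψ1 (β (Function.surjInv hs1 y))) fun a b => by
      rw [← map_mul, ← map_mul]
      refine mul_inv_eq_one.mp ?_
      rw [← map_inv, ← map_mul, ← map_inv, ← map_mul]
      exact hβker _ (by rw [map_mul, map_inv, map_mul, Function.surjInv_eq hs1, Function.surjInv_eq hs1, Function.surjInv_eq hs1, mul_inv_cancel])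
  have hβb : ∀ h, βb (ψ1 h) = ψ1 (β h) := fun h => by
    show ψ1 (β _) = _
    refine mul_inv_eq_one.mp ?_
    rw [← map_inv, ← map_mul, ← map_inv, ← map_mul]
    exact hβker _ (by rw [map_mul, map_inv, Function.surjInv_eq hs1, mul_inv_cancel])
  have hfix : ∀ y, normStd y → βb y = y := by
    intro y hy
    obtain ⟨h, rfl⟩ := hs1 y
    rw [hβb]
    obtain ⟨m, hm, e⟩ := (F.mem_N _).mp (hnormN h hy)
    have hmev : m * tr ev = tr ev * m := (F.el_comm_iff hm (tr_mem_Sub _ _)).mp (by rw [e]; exact (hmemC _).mp h.2)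
    refine mul_inv_eq_one.mp ?_
    rw [← map_inv, ← map_mul, hk1]
    show t3 * (h : G) * t3 * (h : G)⁻¹ ∈ Z
    rw [← e, ht3, ← F.el_inv hm, ← F.el_mul _ (hall _) _ hm, ← F.el_mul _ (hall _) _ (hall _),
      ← F.el_mul _ (hall _) _ (hall _)]
    have hlist := ev_commutator m hmev
    simp only [List.mem_cons, List.not_mem_nil, or_false] at hlist
    rcases hlist with e' | e' | e' <;> rw [e']
    · rw [F.el_one]; exact one_mem Z
    · exact Subgroup.mem_zpowers _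
    · show F.j (-ev) ∈ Z
      rw [F.j_neg]; exact inv_mem (Subgroup.mem_zpowers _)
  have hinvol : ∀ y, βb (βb y) = y := fun y => by
    obtain ⟨h, rfl⟩ := hs1 y
    rw [hβb, hβb, hββ]
  have hmid : βb (swap 2 3) = swap 2 3 := by
    obtain ⟨k, hk⟩ : ∃ k : Perm (Fin 6), swap 2 3 = k * swap 0 1 * k⁻¹ :=
      ⟨swap 0 2 * swap 1 3, by decide +kernel⟩
    have hb : βb (swap 2 3) = swap (βb k 0) (βb k 1) := by
      rw [Equiv.swap_apply_apply, hk, map_mul, map_mul, map_inv, hfix _ six_adjacent.1]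
    have c1 := congrArg βb (show swap (2 : Fin 6) 3 * swap 0 1 = swap 0 1 * swap 2 3 by decide +kernel)
    have c2 := congrArg βb (show swap (2 : Fin 6) 3 * swap 4 5 = swap 4 5 * swap 2 3 by decide +kernel)
    rw [map_mul, map_mul, hfix _ six_adjacent.1] at c1
    rw [map_mul, map_mul, hfix _ six_adjacent.2.2.2] at c2
    have n1 : βb (swap 2 3) ≠ swap 0 1 := fun e => by
      have := congrArg βb e
      rw [hinvol, hfix _ six_adjacent.1] at this
      exact absurd this (by decide)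
    have n2 : βb (swap 2 3) ≠ swap 4 5 := fun e => by
      have := congrArg βb e
      rw [hinvol, hfix _ six_adjacent.2.2.2] at this
      exact absurd this (by decide)
    rw [hb] at c1 c2 n1 n2 ⊢
    exact six_middle _ _ ((βb k).injective.ne (by decide)) c1 c2 n1 n2
  have hβtriv : ∀ h, ψ1 (β h) = ψ1 h := by
    let S : Subgroup (Perm (Fin 6)) := MonoidHom.eqLocus βb (MonoidHom.id _)
    have hS : S = ⊤ := six_closure S (hfix _ six_adjacent.1) (hfix _ six_adjacent.2.1) hmid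
      (hfix _ six_adjacent.2.2.1) (hfix _ six_adjacent.2.2.2)
    intro h
    have : ψ1 h ∈ S := hS ▸ Subgroup.mem_top _
    rw [← hβb]
    exact this
  -- the fixed points
  have hlift : ∀ y, ∃ g, ∃ hg : g ∈ C, g * t3 = t3 * g ∧ ψ1 ⟨g, hg⟩ = y := by
    intro y
    obtain ⟨h, rfl⟩ := hs1 y
    set z : C := h⁻¹ * β h with hz
    have hzZ : (z : G) ∈ Z := (hk1 z).mp (by rw [hz, map_mul, map_inv, hβtriv, inv_mul_cancel])
    have hbz : β z = z⁻¹ := by rw [hz, map_mul, map_inv, hββ, mul_inv_rev, inv_inv]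
    have hzc : (z : G) ^ 3 = 1 := by
      obtain ⟨v, hv⟩ := (F.mem_J _).mp (hZJ hzZ)
      rw [← hv]
      exact F.j_cube v
    have hz3 : z * z * z = 1 := Subtype.ext (by
      show (z : G) * z * z = 1
      rw [← pow_three', hzc])
    have hbh : β h = h * z := by rw [hz, mul_inv_cancel_left]
    refine ⟨(h * z * z : C), (h * z * z).2, ?_, ?_⟩
    · have e : β (h * z * z) = h * z * z := by
        rw [map_mul, map_mul, hbz, hbh]
        have : z⁻¹ = z * z := inv_eq_of_mul_eq_one_right (by rw [← mul_assoc]; exact hz3)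
        rw [mul_inv_cancel_right, this]
        exact (mul_assoc h z z).symm
      have e' : t3 * ((h * z * z : C) : G) * t3 = ((h * z * z : C) : G) := congrArg Subtype.val e
      calc ((h * z * z : C) : G) * t3 = t3 * ((h * z * z : C) : G) * t3 * t3 := by rw [e']
        _ = t3 * ((h * z * z : C) : G) := by rw [mul_assoc, ht3sq, mul_one]
    · show ψ1 (h * z * z) = ψ1 h
      rw [map_mul, map_mul, (hk1 z).mpr hzZ, mul_one, mul_one]
  have hfixZ : ∀ z ∈ Z, z * t3 = t3 * z → z = 1 := by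
    intro z hz hc
    obtain ⟨i, rfl⟩ := mem_powers_iff_mem_zpowers.mpr hz
    have h1 : t3 * F.j ev ^ i * t3 = (F.j ev ^ i)⁻¹ := by
      rw [← inv_pow, ← ht3ev]
      conv_rhs => rw [show t3 * F.j ev * t3 = t3 * F.j ev * t3⁻¹ by rw [ht3inv]]
      rw [conj_pow, ht3inv]
    rw [← hc, mul_assoc, ht3sq, mul_one, eq_inv_iff_mul_eq_one] at h1
    have h3 : (F.j ev ^ i) ^ 3 = 1 := by rw [← pow_mul, mul_comm, pow_mul, F.j_cube, one_pow]
    rwa [pow_three', h1, one_mul] at h3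
  let M : Subgroup G := C ⊓ Subgroup.centralizer ({t3} : Set G)
  have hmemM : ∀ g, g ∈ M ↔ g * F.j ev = F.j ev * g ∧ g * t3 = t3 * g := fun g => by
    rw [Subgroup.mem_inf, hmemC, Subgroup.mem_centralizer_singleton_iff]
  let ρ : M →* Perm (Fin 6) := ψ1.comp (Subgroup.inclusion inf_le_left)
  have hρ : Function.Bijective ρ := by
    refine ⟨(injective_iff_map_eq_one ρ).mpr fun g hg => Subtype.ext (hfixZ _ ((hk1 _).mp hg) ((hmemM _).mp g.2).2), fun y => ?_⟩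
    obtain ⟨g, hgC, hg3, e⟩ := hlift y
    exact ⟨⟨g, hgC, Subgroup.mem_centralizer_singleton_iff.mpr hg3⟩, e⟩
  let ρe := MulEquiv.ofBijective ρ hρ
  let Φ1 : Perm (Fin 6) →* G := M.subtype.comp ρe.symm.toMonoidHom
  have hΦρ : ∀ g (hg : g ∈ M), Φ1 (ρ ⟨g, hg⟩) = g := fun g hg => by
    show ((ρe.symm (ρe ⟨g, hg⟩) : M) : G) = g
    rw [MulEquiv.symm_apply_apply]
  have hρΦ : ∀ y, ∃ hg : Φ1 y ∈ M, ρ ⟨Φ1 y, hg⟩ = y := fun y => ⟨(ρe.symm y).2, ρe.apply_symm_apply y⟩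
  have hM : ∀ r ∈ ([6, 12, 1] : List (Fin 48)), F.el (rot r) ∈ M := fun r hr => (hmemM _).mpr
    ⟨(F.el_comm_iff (hall _) (tr_mem_Sub _ _)).mpr (sign_flat r hr).2, (F.el_comm_iff (hall _) (hall _)).mpr (sign_flat r hr).1⟩
  have hMj : ∀ v : V3, v.2.2 = 0 → F.j v ∈ M := fun v hv => (hmemM _).mpr
    ⟨(F.el_comm_iff (tr_mem_Sub _ _) (tr_mem_Sub _ _)).mpr (flat_facts v hv).2,
      (F.el_comm_iff (tr_mem_Sub _ _) (hall _)).mpr (flat_facts v hv).1⟩
  set p := ρ ⟨_, hM 6 (by simp)⟩ with hp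
  set q := ρ ⟨_, hM 12 (by simp)⟩ with hq
  set c := ρ ⟨_, hMj (1, 1, 0) rfl⟩ with hc
  have hcomm : ∀ {a b : G} (ha : a ∈ M) (hb : b ∈ M), ρ ⟨a, ha⟩ * ρ ⟨b, hb⟩ = ρ ⟨b, hb⟩ * ρ ⟨a, ha⟩ ↔ a * b = b * a := by
    intro a b ha hb
    rw [← map_mul, ← map_mul, hρ.1.eq_iff, Subtype.ext_iff]
    rfl
  have hone : ∀ {a : G} (ha : a ∈ M), a ≠ 1 → ρ ⟨a, ha⟩ ≠ 1 := fun ha h e => h
    (congrArg Subtype.val (hρ.1 (e.trans (map_one ρ).symm)))
  have helne : ∀ {m m' : Mon}, m ≠ m' → F.el m ≠ F.el m' := fun h e => h (F.el_inj _ (hall _) _ (hall _) e)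
  have hin : ∀ r ∈ ([6, 12] : List (Fin 48)), ∀ v : V3, v.2.2 = 0 → v ≠ 0 → tr v * rot r = rot r * tr v →
      rot r * rot r = 1 → rot r ≠ 1 → ∀ hr : F.el (rot r) ∈ M, ρ ⟨_, hr⟩ ∈ twelve := by
    intro r hr' v hv hv0 hvr hrr hr1 hr
    refine six_twelve _ ?_ (hone _ fun e => helne hr1 (e.trans F.el_one.symm)) ?_ ⟨ρ ⟨_, hMj v hv⟩, hstd v, hone _ (F.j_ne_one hv0), ?_⟩
    · rw [← map_mul, show (⟨_, hr⟩ : M) * ⟨_, hr⟩ = 1 from Subtype.ext (F.el_sq_one (hall _) hrr), map_one]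
    · exact hnorm' _ (sign_flat r (by simp only [List.mem_cons, List.not_mem_nil, or_false] at hr' ⊢; rcases hr' with h | h <;> simp [h])).2 _
    · exact (hcomm _ _).mpr ((F.el_comm_iff (hall _) (hall _)).mpr hvr)
  have hp12 : p ∈ twelve := hin 6 (by simp) (0, 1, 0) rfl axis_facts.1 axis_facts.2.2.2.1 (by decide +kernel) (by decide +kernel) _
  have hq12 : q ∈ twelve := hin 12 (by simp) (1, 0, 0) rfl axis_facts.2.1 axis_facts.2.2.2.2.1 (by decide +kernel) (by decide +kernel) _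
  have hpq : q ≠ p := fun e => helne (show rot 12 ≠ rot 6 by decide) (congrArg Subtype.val (hρ.1 e))
  have hpqc : p * q = q * p := (hcomm _ _).mpr ((F.el_comm_iff (hall _) (hall _)).mpr (by decide +kernel))
  have hfc : fixCount p = fixCount q := fixCount_conj (k := ρ ⟨_, hM 1 (by simp)⟩) (by
    rw [← map_mul, ← map_mul]
    exact congrArg ρ (Subtype.ext (by
      show F.el (rot 1) * F.el (rot 6) = F.el (rot 12) * F.el (rot 1)
      rw [← F.el_mul _ (hall _) _ (hall _), ← F.el_mul _ (hall _) _ (hall _), show rot 1 * rot 6 = rot 12 * rot 1 by decide +kernel])))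
  obtain ⟨k, hkn, hk'⟩ := six_reduce p hp12 q hq12 hpq hpqc hfc
  let Φ : Perm (Fin 6) →* G := Φ1.comp (MulAut.conj k⁻¹).toMonoidHom
  have hΦk : ∀ y, Φ (k * y * k⁻¹) = Φ1 y := fun y => congrArg Φ1 (by
    show k⁻¹ * (k * y * k⁻¹) * k⁻¹⁻¹ = y
    group)
  have hmemM' : ∀ y, Φ y ∈ M := fun y => (ρe.symm _).2
  have hcp : ∀ v : V3, v.2.2 = 0 → ∀ r ∈ ([6, 12] : List (Fin 48)), tr v * rot r ≠ rot r * tr v →
      ∀ (hr : F.el (rot r) ∈ M) (hv : F.j v ∈ M),
      k * ρ ⟨_, hv⟩ * k⁻¹ * (k * ρ ⟨_, hr⟩ * k⁻¹) ≠ k * ρ ⟨_, hr⟩ * k⁻¹ * (k * ρ ⟨_, hv⟩ * k⁻¹) := by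
    intro v _ r _ hne hr hv e
    rw [conj_mul, conj_mul, mul_left_inj, mul_right_inj] at e
    exact hne ((F.el_comm_iff (tr_mem_Sub _ _) (hall _)).mp ((hcomm _ _).mp e))
  have finish : ∀ p0 q0 r0 π0 w0 : Perm (Fin 6), SixPack p0 q0 r0 π0 w0 → k * p = p0 * k → k * q = q0 * k →
      Nonempty (SixData F) := by
    intro p0 q0 r0 π0 w0 hpack e1 e2
    have hp0 : p0 = k * p * k⁻¹ := by rw [e1, mul_inv_cancel_right]
    have hq0 : q0 = k * q * k⁻¹ := by rw [e2, mul_inv_cancel_right]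
    set c0 := k * c * k⁻¹ with hc0
    have hc3 : c0 * c0 * c0 = 1 := by
      rw [hc0, conj_mul, conj_mul, hc, ← map_mul, ← map_mul]
      rw [show (⟨_, hMj (1, 1, 0) rfl⟩ : M) * ⟨_, hMj (1, 1, 0) rfl⟩ * ⟨_, hMj (1, 1, 0) rfl⟩ = 1 from
        Subtype.ext (by show F.j _ * F.j _ * F.j _ = 1; rw [← pow_three', F.j_cube]), map_one, mul_one, mul_inv_cancel]
    have hc1 : c0 ≠ 1 := by
      rw [hc0, Ne, conj_eq_one_iff]
      exact hone _ (F.j_ne_one axis_facts.2.2.1)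
    have hfcπ : fixCount c0 = fixCount π0 := hpack.2.2.2.2.2.1 c0 (normStd_maps k hkn c (hstd _))
      (by rw [hp0, hc0]; exact hcp (1, 1, 0) rfl 6 (by simp) axis_facts.2.2.2.2.2.1 _ _)
      (by rw [hq0, hc0]; exact hcp (1, 1, 0) rfl 12 (by simp) axis_facts.2.2.2.2.2.2.1 _ _)
    obtain ⟨a, ha⟩ := six_three_classes c0 hc3 hc1
    obtain ⟨b, hb⟩ := six_three_classes π0 hpack.2.1 hpack.2.2.1
    have hconj : b⁻¹ * a * c0 * (b⁻¹ * a)⁻¹ = π0 := by
      rw [mul_inv_eq_iff_eq_mul, mul_assoc]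
      rcases ha with ⟨ea, na⟩ | ⟨ea, na⟩ <;> rcases hb with ⟨eb, nb⟩ | ⟨eb, nb⟩
      · rw [ea, show π0 = b⁻¹ * (swap 0 1 * swap 1 2) * b by rw [mul_assoc, ← eb, inv_mul_cancel_left]]
        group
      · rw [na, nb] at hfcπ; simp at hfcπ
      · rw [na, nb] at hfcπ; simp at hfcπ
      · rw [ea, show π0 = b⁻¹ * (swap 0 1 * swap 1 2 * (swap 3 4 * swap 4 5)) * b by rw [mul_assoc, ← eb, inv_mul_cancel_left]]
        group
    exact ⟨{
      Φ := Φ
      inj := M.subtype_injective.comp (ρe.symm.injective.comp (MulAut.conj k⁻¹).injective)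
      comm_ev := fun y => ((hmemM _).mp (hmemM' y)).1
      comm_t3 := fun y => ((hmemM _).mp (hmemM' y)).2
      mem := fun g h1 h2 => ⟨k * ρ ⟨g, (hmemM g).mpr ⟨h1, h2⟩⟩ * k⁻¹, by rw [hΦk, hΦρ]⟩
      split := fun g hg => by
        obtain ⟨hyM, hy⟩ := hρΦ (ψ1 ⟨g, (hmemC g).mpr hg⟩)
        have hz : ψ1 ((⟨_, hyM.1⟩ : C)⁻¹ * ⟨g, (hmemC g).mpr hg⟩) = 1 := by
          rw [map_mul, map_inv, inv_mul_eq_one]; exact hy
        obtain ⟨i, hi⟩ := mem_powers_iff_mem_zpowers.mpr ((hk1 _).mp hz)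
        refine ⟨k * ψ1 ⟨g, (hmemC g).mpr hg⟩ * k⁻¹, ⟨i % 3, Nat.mod_lt _ (by norm_num)⟩, ?_⟩
        rw [hΦk, F.j_nsmul]
        show g = _ * F.j ev ^ (i % 3)
        rw [← pow_eq_pow_mod _ (F.j_cube ev), show F.j ev ^ i = _ from hi]
        show g = _ * ((Φ1 (ψ1 ⟨g, (hmemC g).mpr hg⟩))⁻¹ * g)
        rw [mul_inv_cancel_left]
      p := p0
      q := q0
      r := r0
      π := π0
      w := w0
      pack := hpack
      hp := by rw [hp0, hΦk, hp, hΦρ]
      hq := by rw [hq0, hΦk, hq, hΦρ]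
      hπ := ⟨b⁻¹ * a, by
        rw [show F.j (1, 1, 0) = Φ c0 by rw [hc0, hΦk, hc, hΦρ], ← map_inv, ← map_mul, ← map_mul, hconj]⟩ }⟩
  rcases hk' with ⟨e1, e2⟩ | ⟨e1, e2⟩
  · exact finish _ _ _ _ _ six_single e1 e2
  · exact finish _ _ _ _ _ six_triple e1 e2

end Frame

end CfsgLib.Sym9Three
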