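import Mathlib.Algebra.Group.Subgroup.Basic
import Mathlib.Algebra.Group.MinimalAxioms
import Mathlib.Data.Fintype.Prod
import Mathlib.Data.Fintype.Perm
import Mathlib.Data.ZMod.Basic
import Mathlib.Data.List.GetD
import Mathlib.Tactic.Group

set_option autoImplicit false

/-!
The group of translations of three blocks of size three extended by the signed permutations of the blocks.
-/

namespace CfsgLib.Sym9Three

/-- The translations. -/
abbrev V3 := ZMod 3 × ZMod 3 × ZMod 3

/-- The translation by all three blocks. -/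
abbrev xv : V3 := (1, 1, 1)

/-- The product of two block permutations. -/
def pMulN (a b : ℕ) : ℕ :=
  (([[0, 1, 2, 3, 4, 5], [1, 0, 4, 5, 2, 3], [2, 5, 0, 4, 3, 1], [3, 4, 5, 0, 1, 2], [4, 3, 1, 2, 5, 0],
    [5, 2, 3, 1, 0, 4]] : List (List ℕ)).getD a []).getD b 0

/-- The inverse of a block permutation. -/
def pInvN (a : ℕ) : ℕ := ([0, 1, 2, 3, 5, 4] : List ℕ).getD a 0

/-- The action of a block permutation on signs. -/
def pSignN (a s : ℕ) : ℕ :=
  (([[0, 1, 2, 3, 4, 5, 6, 7], [0, 2, 1, 3, 4, 6, 5, 7], [0, 1, 4, 5, 2, 3, 6, 7], [0, 4, 2, 6, 1, 5, 3, 7],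
    [0, 2, 4, 6, 1, 3, 5, 7], [0, 4, 1, 5, 2, 6, 3, 7]] : List (List ℕ)).getD a []).getD s 0

/-- A natural number as a rotation. -/
def toR (n : ℕ) : Fin 48 := ⟨n % 48, Nat.mod_lt _ (by decide)⟩

/-- The product of two rotations. -/
def rMul (a b : Fin 48) : Fin 48 :=
  toR (6 * (Nat.xor (a.val / 6) (pSignN (a.val % 6) (b.val / 6))) + pMulN (a.val % 6) (b.val % 6))

/-- The inverse of a rotation. -/
def rInv (a : Fin 48) : Fin 48 :=
  toR (6 * pSignN (pInvN (a.val % 6)) (a.val / 6) + pInvN (a.val % 6))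

/-- The permutation of coordinates. -/
def permV (p : ℕ) (v : V3) : V3 :=
  match p with
  | 1 => (v.2.1, v.1, v.2.2)
  | 2 => (v.1, v.2.2, v.2.1)
  | 3 => (v.2.2, v.2.1, v.1)
  | 4 => (v.2.2, v.1, v.2.1)
  | 5 => (v.2.1, v.2.2, v.1)
  | _ => v

/-- The sign change of coordinates. -/
def signV (s : ℕ) (v : V3) : V3 :=
  (if s % 2 = 1 then -v.1 else v.1, if s / 2 % 2 = 1 then -v.2.1 else v.2.1,
    if s / 4 % 2 = 1 then -v.2.2 else v.2.2)

/-- The action of a rotation. -/
def act (r : Fin 48) (v : V3) : V3 := signV (r.val / 6) (permV (r.val % 6) v)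

/-- The model. -/
structure Mon where
  /-- The translation part. -/
  v : V3
  /-- The rotation part. -/
  g : Fin 48
deriving DecidableEq

/-- The elements as pairs. -/
def Mon.equivProd : Mon ≃ V3 × Fin 48 where
  toFun h := (h.v, h.g)
  invFun p := ⟨p.1, p.2⟩
  left_inv _ := rfl
  right_inv _ := rfl

instance : Fintype Mon := Fintype.ofEquiv _ Mon.equivProd.symm

theorem act_gens : ∀ r : Fin 48, act r 0 = 0 ∧ (∀ v : V3, ∀ w : V3, w = (1, 0, 0) ∨ w = (0, 1, 0) ∨ w = (0, 0, 1) →
    act r (v + w) = act r v + act r w) := by decide +kernel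

theorem v3_gens : ∀ v : V3, v = v.1.val • ((1, 0, 0) : V3) + v.2.1.val • ((0, 1, 0) : V3) + v.2.2.val • ((0, 0, 1) : V3) := by
  decide +kernel

/-- A function additive on the basis is additive. -/
theorem additive_of_gens (f : V3 → V3) (h0 : f 0 = 0)
    (h : ∀ v w : V3, w = (1, 0, 0) ∨ w = (0, 1, 0) ∨ w = (0, 0, 1) → f (v + w) = f v + f w) (v w : V3) :
    f (v + w) = f v + f w := by
  have hn : ∀ (e : V3), (e = (1, 0, 0) ∨ e = (0, 1, 0) ∨ e = (0, 0, 1)) → ∀ (n : ℕ) (u : V3),
      f (u + n • e) = f u + n • f e := by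
    intro e he n
    induction n with
    | zero => intro u; rw [zero_smul, add_zero, zero_smul, add_zero]
    | succ n ih => intro u; rw [succ_nsmul, ← add_assoc, h _ _ he, ih, succ_nsmul, add_assoc]
  have key : ∀ u : V3, f (u + w) = f u + (w.1.val • f (1, 0, 0) + w.2.1.val • f (0, 1, 0) + w.2.2.val • f (0, 0, 1)) := by
    intro u
    conv_lhs => rw [v3_gens w, ← add_assoc, ← add_assoc, hn _ (Or.inr (Or.inr rfl)), hn _ (Or.inr (Or.inl rfl)),
      hn _ (Or.inl rfl)]
    simp only [add_assoc]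
  have k0 := key 0
  rw [zero_add, h0, zero_add] at k0
  rw [key v, k0]

theorem act_add (r : Fin 48) (v w : V3) : act r (v + w) = act r v + act r w :=
  additive_of_gens (act r) (act_gens r).1 (act_gens r).2 v w

theorem act_zero (r : Fin 48) : act r 0 = 0 := (act_gens r).1

theorem act_neg (r : Fin 48) (v : V3) : act r (-v) = -act r v :=
  eq_neg_of_add_eq_zero_left (by rw [← act_add, neg_add_cancel, act_zero])

theorem act_one : ∀ v : V3, act 0 v = v := by decide +kernel

theorem act_mul_gens : ∀ g h : Fin 48, act (rMul g h) (1, 0, 0) = act g (act h (1, 0, 0)) ∧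
    act (rMul g h) (0, 1, 0) = act g (act h (0, 1, 0)) ∧ act (rMul g h) (0, 0, 1) = act g (act h (0, 0, 1)) := by
  decide +kernel

theorem act_mul (g h : Fin 48) (v : V3) : act (rMul g h) v = act g (act h v) := by
  have hn : ∀ (f : V3 → V3), (∀ v w, f (v + w) = f v + f w) → f 0 = 0 →
      ∀ (n : ℕ) (e : V3), f (n • e) = n • f e := by
    intro f hf h0 n e
    induction n with
    | zero => rw [zero_smul, zero_smul, h0]
    | succ n ih => rw [succ_nsmul, hf, ih, succ_nsmul]
  obtain ⟨e1, e2, e3⟩ := act_mul_gens g h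
  rw [v3_gens v]
  simp only [act_add, hn _ (act_add _) (act_zero _), e1, e2, e3]

theorem rMul_assoc : ∀ a b c : Fin 48, rMul (rMul a b) c = rMul a (rMul b c) := by decide +kernel

theorem rMul_one : ∀ a : Fin 48, rMul 0 a = a ∧ rMul a 0 = a ∧ rMul (rInv a) a = 0 ∧ rMul a (rInv a) = 0 := by
  decide +kernel

instance : Mul Mon := ⟨fun a b => ⟨a.v + act a.g b.v, rMul a.g b.g⟩⟩

instance : One Mon := ⟨⟨0, 0⟩⟩

instance : Inv Mon := ⟨fun a => ⟨-act (rInv a.g) a.v, rInv a.g⟩⟩

theorem Mon.mul_def (a b : Mon) : a * b = ⟨a.v + act a.g b.v, rMul a.g b.g⟩ := rfl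

theorem Mon.one_def : (1 : Mon) = ⟨0, 0⟩ := rfl

theorem Mon.inv_def (a : Mon) : a⁻¹ = ⟨-act (rInv a.g) a.v, rInv a.g⟩ := rfl

instance : Group Mon :=
  Group.ofLeftAxioms
    (fun a b c => by
      simp only [Mon.mul_def, rMul_assoc, act_add, act_mul, add_assoc])
    (fun a => by simp only [Mon.mul_def, Mon.one_def, act_one, zero_add, (rMul_one _).1])
    (fun a => by
      show (⟨_, _⟩ : Mon) = ⟨0, 0⟩
      rw [Mon.mk.injEq]
      exact ⟨neg_add_cancel _, (rMul_one _).2.2.1⟩)

/-- A translation. -/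
abbrev tr (v : V3) : Mon := ⟨v, 0⟩

/-- A rotation. -/
abbrev rot (r : Fin 48) : Mon := ⟨0, r⟩

theorem tr_mul (v w : V3) : tr v * tr w = tr (v + w) := by
  rw [Mon.mul_def, act_one, (rMul_one 0).1]

theorem tr_zero : tr 0 = 1 := rfl

theorem tr_inv (v : V3) : (tr v)⁻¹ = tr (-v) := by
  rw [inv_eq_iff_mul_eq_one, tr_mul, add_neg_cancel, tr_zero]

theorem rot_mul (r s : Fin 48) : rot r * rot s = rot (rMul r s) := by
  rw [Mon.mul_def]
  simp [act_zero]

theorem mon_split (m : Mon) : m = tr m.v * rot m.g := by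
  rw [Mon.mul_def]
  simp [act_one, (rMul_one _).1]

theorem rot_conj_tr (m : Mon) (v : V3) : m * tr v * m⁻¹ = tr (act m.g v) := by
  rw [mul_inv_eq_iff_eq_mul, Mon.mul_def, Mon.mul_def, act_one, (rMul_one _).2.1, (rMul_one _).1, add_comm]

/-- The translations. -/
def transl : Subgroup Mon where
  carrier := {h | h.g = 0}
  mul_mem' {a b} (ha : a.g = 0) (hb : b.g = 0) := show rMul a.g b.g = 0 by rw [ha, hb, (rMul_one 0).1]
  one_mem' := rfl
  inv_mem' {a} (ha : a.g = 0) := show rInv a.g = 0 by rw [ha]; rfl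

theorem mem_transl {h : Mon} : h ∈ transl ↔ h.g = 0 := Iff.rfl

instance : DecidablePred (· ∈ transl) := fun h => decidable_of_iff (h.g = 0) Iff.rfl

theorem tr_mem (v : V3) : tr v ∈ transl := rfl

theorem card_transl : Nat.card transl = 27 := by
  let e : transl ≃ V3 :=
    { toFun := fun h => h.1.v
      invFun := fun v => ⟨tr v, rfl⟩
      left_inv := fun h => Subtype.ext (by
        obtain ⟨⟨v, g⟩, hg⟩ := h
        obtain rfl : g = 0 := hg
        rfl)
      right_inv := fun _ => rfl }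
  rw [Nat.card_congr e, Nat.card_eq_fintype_card]
  rfl

/-- The admissible sets of signs. -/
def inS (k : Fin 4) (s : ℕ) : Bool :=
  k == 3 || s == 0 || (k == 1 && s == 7) || (k == 2 && (s == 3 || s == 5 || s == 6))

/-- The rotations of an admissible set of signs. -/
def inR (k : Fin 4) (r : Fin 48) : Bool := inS k (r.val / 6)

theorem inR_group : ∀ k : Fin 4, inR k 0 = true ∧ (∀ a : Fin 48, inR k a = true → inR k (rInv a) = true ∧
    ∀ b : Fin 48, inR k b = true → inR k (rMul a b) = true) := by decide +kernel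

/-- The subgroup of an admissible set of signs. -/
def Sub (k : Fin 4) : Subgroup Mon where
  carrier := {h | inR k h.g = true}
  mul_mem' {a b} ha hb := ((inR_group k).2 a.g ha).2 b.g hb
  one_mem' := (inR_group k).1
  inv_mem' {a} ha := ((inR_group k).2 a.g ha).1

theorem mem_Sub {k : Fin 4} {h : Mon} : h ∈ Sub k ↔ inR k h.g = true := Iff.rfl

instance (k : Fin 4) : DecidablePred (· ∈ Sub k) := fun h => decidable_of_iff (inR k h.g = true) Iff.rfl

theorem Sub_zero_le (k : Fin 4) : Sub 0 ≤ Sub k := fun h hh => by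
  have : ∀ k : Fin 4, ∀ r : Fin 48, inR 0 r = true → inR k r = true := by decide +kernel
  exact this k h.g hh

theorem tr_mem_Sub (k : Fin 4) (v : V3) : tr v ∈ Sub k := (inR_group k).1

theorem transl_le_Sub (k : Fin 4) : transl ≤ Sub k := fun h hh => by
  rw [mem_Sub, show h.g = 0 from hh]; exact (inR_group k).1

theorem card_Sub : Nat.card (Sub 0) = 162 ∧ Nat.card (Sub 1) = 324 ∧ Nat.card (Sub 2) = 648 ∧
    Nat.card (Sub 3) = 1296 := by
  have h : ∀ k : Fin 4, Nat.card (Sub k) = 27 * Fintype.card {r : Fin 48 // inR k r = true} := by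
    intro k
    let e : Sub k ≃ V3 × {r : Fin 48 // inR k r = true} :=
      { toFun := fun h => (h.1.v, ⟨h.1.g, h.2⟩)
        invFun := fun p => ⟨⟨p.1, p.2.1⟩, p.2.2⟩
        left_inv := fun _ => rfl
        right_inv := fun _ => rfl }
    rw [Nat.card_congr e, Nat.card_prod, Nat.card_eq_fintype_card, Nat.card_eq_fintype_card]
    rfl
  rw [h, h, h, h]
  decide +kernel

/-- The image of the basis. -/
abbrev M3 := V3 × V3 × V3

/-- A linear map from the images of the basis. -/
def mapp (c : M3) (v : V3) : V3 :=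
  (v.1 * c.1.1 + v.2.1 * c.2.1.1 + v.2.2 * c.2.2.1, v.1 * c.1.2.1 + v.2.1 * c.2.1.2.1 + v.2.2 * c.2.2.2.1,
    v.1 * c.1.2.2 + v.2.1 * c.2.1.2.2 + v.2.2 * c.2.2.2.2)

/-- The images of the basis. -/
def cols (f : V3 → V3) : M3 := (f (1, 0, 0), f (0, 1, 0), f (0, 0, 1))

/-- The composition. -/
def mcomp (c d : M3) : M3 := cols fun v => mapp c (mapp d v)

theorem mapp_cols {f : V3 → V3} (hf : ∀ v w, f (v + w) = f v + f w) (v : V3) : mapp (cols f) v = f v := by
  have h0 : f 0 = 0 := by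
    have := hf 0 0
    rw [add_zero] at this
    exact left_eq_add.mp this
  have hn : ∀ (n : ℕ) (e : V3), f (n • e) = n • f e := by
    intro n e
    induction n with
    | zero => rw [zero_smul, zero_smul, h0]
    | succ n ih => rw [succ_nsmul, hf, ih, succ_nsmul]
  conv_rhs => rw [v3_gens v, hf, hf, hn, hn, hn]
  obtain ⟨a, b, c⟩ := v
  simp [mapp, cols, Prod.ext_iff, nsmul_eq_mul]

theorem cols_comp {f h : V3 → V3} (hf : ∀ v w, f (v + w) = f v + f w) (hh : ∀ v w, h (v + w) = h v + h w) :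
    cols (fun v => f (h v)) = mcomp (cols f) (cols h) := by
  show cols _ = cols _
  congr 1
  funext v
  rw [mapp_cols hh, mapp_cols hf]

theorem mapp_add (c : M3) (v w : V3) : mapp c (v + w) = mapp c v + mapp c w := by
  simp [mapp, Prod.ext_iff]
  refine ⟨?_, ?_, ?_⟩ <;> ring

/-- The base change commuting with the permutations and fixing the translation by all blocks. -/
def Lb (b : ZMod 3) (v : V3) : V3 :=
  (v.1 + b * (v.1 + v.2.1 + v.2.2), v.2.1 + b * (v.1 + v.2.1 + v.2.2), v.2.2 + b * (v.1 + v.2.1 + v.2.2))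

theorem Lb_add (b : ZMod 3) (v w : V3) : Lb b (v + w) = Lb b v + Lb b w := by
  simp [Lb, Prod.ext_iff]
  refine ⟨?_, ?_, ?_⟩ <;> ring

theorem Lb_facts : ∀ b : ZMod 3, (∀ v, Lb (-b) (Lb b v) = v) ∧ Lb b xv = xv ∧
    ∀ p : Fin 48, p.val < 6 → ∀ v, Lb b (act p v) = act p (Lb b v) := by decide +kernel

end CfsgLib.Sym9Three
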