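import Cfsg.Agent.Lib.Sym9Three.Small
import Cfsg.Agent.S3333
import Cfsg.Agent.Lib.Sym9Three.Model

set_option autoImplicit false
set_option linter.style.haveILetI false

/-!
A subgroup with a central subgroup modulo which it has a self-centralizing subgroup of order nine with
dihedral automizer.
-/

namespace CfsgLib.Sym9Three

open Subgroup CfsgLib.ThreeCC

universe u

variable {G : Type u} [Group G] [Finite G]

/-- The subgroup normalizes the preimage of the subgroup of order nine or is the symmetric group of degree six modulo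
the central subgroup. -/
theorem le_normalizer_or_six (H Z A : Subgroup G) (hZA : Z ≤ A) (hAH : A ≤ H)
    (hZ : ∀ z ∈ Z, ∀ h ∈ H, h * z = z * h) (hcard : Nat.card A = 9 * Nat.card Z)
    (hexp : ∀ a ∈ A, a ^ 3 ∈ Z) (hab : ∀ a ∈ A, ∀ b ∈ A, a * b * a⁻¹ * b⁻¹ ∈ Z)
    (hself : ∀ h ∈ H, (∀ a ∈ A, h * a * h⁻¹ * a⁻¹ ∈ Z) → h ∈ A)
    (hcent : ∀ h ∈ H, ∀ a ∈ A, a ∉ Z → h * a * h⁻¹ * a⁻¹ ∈ Z → h ∈ Subgroup.normalizer (A : Set G))
    (hN : Nat.card ↥(H ⊓ Subgroup.normalizer (A : Set G)) = 72 * Nat.card Z)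
    (f : DihedralGroup 4 →* H) (hf : ∀ x, (f x : G) ∈ Subgroup.normalizer (A : Set G))
    (hfA : ∀ x, (f x : G) ∈ A → x = 1) :
    H ≤ Subgroup.normalizer (A : Set G) ∨
      ∃ ψ : H →* Equiv.Perm (Fin 6), Function.Surjective ψ ∧ ∀ h : H, ψ h = 1 ↔ (h : G) ∈ Z := by
  classical
  set Z' := Z.subgroupOf H with hZ'
  haveI hZn : Z'.Normal := ⟨fun z hz g => by
    show (g : G) * z * (g : G)⁻¹ ∈ Z
    rw [hZ (z : G) hz g g.2, mul_inv_cancel_right]
    exact hz⟩
  set π := QuotientGroup.mk' Z' with hπ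
  set A' := (A.subgroupOf H).map π with hA'
  have hker : π.ker = Z' := QuotientGroup.ker_mk' Z'
  have hcomap : A'.comap π = A.subgroupOf H := by
    rw [hA', Subgroup.comap_map_eq, hker, sup_eq_left]
    exact fun z hz => hZA hz
  have hmem : ∀ h : H, π h ∈ A' ↔ (h : G) ∈ A := fun h => by
    rw [← Subgroup.mem_comap, hcomap]
    rfl
  have hone : ∀ h : H, π h = 1 ↔ (h : G) ∈ Z := fun h => by
    rw [← MonoidHom.mem_ker, hker]
    rfl
  have hcomm : ∀ h a : H, π h * π a = π a * π h ↔ (h : G) * a * (h : G)⁻¹ * (a : G)⁻¹ ∈ Z := fun h a => by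
    rw [← commutatorElement_eq_one_iff_mul_comm, ← map_commutatorElement, hone]
    rfl
  have hnorm : ∀ h : H, π h ∈ Subgroup.normalizer (A' : Set (H ⧸ Z')) ↔ (h : G) ∈ Subgroup.normalizer (A : Set G) := by
    intro h
    constructor
    · intro hh
      rw [Subgroup.mem_normalizer_iff]
      intro a
      refine ⟨fun ha => ?_, fun ha => ?_⟩
      · have := (Subgroup.mem_normalizer_iff.mp hh _).mp ((hmem ⟨a, hAH ha⟩).mpr ha)
        rw [← map_mul, ← map_inv, ← map_mul, hmem] at this
        exact this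
      · have haH : a ∈ H := by
          have := mul_mem (mul_mem (inv_mem h.2) (hAH ha)) h.2
          simpa [mul_assoc] using this
        have := (Subgroup.mem_normalizer_iff.mp hh (π ⟨a, haH⟩)).mpr (by
          rw [← map_mul, ← map_inv, ← map_mul, hmem]; exact ha)
        rwa [hmem] at this
    · intro hh
      rw [Subgroup.mem_normalizer_iff]
      intro q
      obtain ⟨a, rfl⟩ := QuotientGroup.mk'_surjective Z' q
      show π a ∈ A' ↔ π h * π a * (π h)⁻¹ ∈ A'
      rw [← map_mul, ← map_inv, ← map_mul, hmem, hmem]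
      exact Subgroup.mem_normalizer_iff.mp hh a
  have hcA' : Nat.card A' = 9 := by
    have e1 := (A'.comap π).card_mul_index
    rw [Subgroup.index_comap_of_surjective _ (QuotientGroup.mk'_surjective Z'), hcomap,
      Nat.card_congr (Subgroup.subgroupOfEquivOfLe hAH).toEquiv, hcard,
      Subgroup.card_eq_card_quotient_mul_card_subgroup Z', ← A'.card_mul_index,
      Nat.card_congr (Subgroup.subgroupOfEquivOfLe (hZA.trans hAH)).toEquiv] at e1
    have hi : 0 < A'.index * Nat.card Z := Nat.mul_pos (Nat.pos_of_ne_zero Subgroup.index_ne_zero_of_finite) Nat.card_pos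
    exact (Nat.eq_of_mul_eq_mul_right hi (by linarith)).symm
  set N := Subgroup.normalizer (A' : Set (H ⧸ Z')) with hNdef
  have hcN : Nat.card ↥(H ⊓ Subgroup.normalizer (A : Set G)) = Nat.card N * Nat.card Z := by
    have e : N.comap π = (H ⊓ Subgroup.normalizer (A : Set G)).subgroupOf H := by
      ext h
      rw [Subgroup.mem_comap, hnorm, Subgroup.mem_subgroupOf]
      exact ⟨fun hh => ⟨h.2, hh⟩, fun hh => hh.2⟩
    have e1 := (N.comap π).card_mul_index
    rw [Subgroup.index_comap_of_surjective _ (QuotientGroup.mk'_surjective Z'), e,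
      Nat.card_congr (Subgroup.subgroupOfEquivOfLe (inf_le_left : H ⊓ Subgroup.normalizer (A : Set G) ≤ H)).toEquiv,
      Subgroup.card_eq_card_quotient_mul_card_subgroup Z', ← N.card_mul_index,
      Nat.card_congr (Subgroup.subgroupOfEquivOfLe (hZA.trans hAH)).toEquiv] at e1
    exact Nat.eq_of_mul_eq_mul_right (Nat.pos_of_ne_zero Subgroup.index_ne_zero_of_finite)
      (e1.trans (by ring))
  rw [hcN] at hN
  have hNc : Nat.card N = 72 := Nat.eq_of_mul_eq_mul_right Nat.card_pos hN
  obtain ⟨d, hd⟩ := exists_setting A' hcA'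
    (fun p hp q hq => by
      obtain ⟨a, rfl⟩ := QuotientGroup.mk'_surjective Z' p
      obtain ⟨b, rfl⟩ := QuotientGroup.mk'_surjective Z' q
      exact (hcomm a b).mpr (hab _ ((hmem a).mp hp) _ ((hmem b).mp hq)))
    (fun p hp => by
      obtain ⟨a, rfl⟩ := QuotientGroup.mk'_surjective Z' p
      rw [← map_pow, hone]
      exact hexp _ ((hmem a).mp hp))
    (fun p hp => by
      obtain ⟨h, rfl⟩ := QuotientGroup.mk'_surjective Z' p
      refine (hmem h).mpr (hself _ h.2 fun a ha => (hcomm h ⟨a, hAH ha⟩).mp ?_)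
      exact (Subgroup.mem_centralizer_iff.mp hp _ ((hmem ⟨a, hAH ha⟩).mpr ha)).symm)
    (fun p hp hp1 q hq => by
      obtain ⟨a, rfl⟩ := QuotientGroup.mk'_surjective Z' p
      obtain ⟨h, rfl⟩ := QuotientGroup.mk'_surjective Z' q
      exact (hnorm h).mpr (hcent _ h.2 _ ((hmem a).mp hp) (fun hz => hp1 ((hone a).mpr hz))
        ((hcomm h a).mp (Subgroup.mem_centralizer_singleton_iff.mp hq))))
    (fun h27 => absurd (hNc ▸ h27) (by norm_num))
  set SN := A'.subgroupOf N
  let f' : DihedralGroup 4 →* N := (π.comp f).codRestrict N fun x => (hnorm _).mpr (hf x)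
  let q : DihedralGroup 4 →* N ⧸ SN := (QuotientGroup.mk' SN).comp f'
  have hqc : Nat.card (N ⧸ SN) = 8 := by
    have h1 := Subgroup.card_eq_card_quotient_mul_card_subgroup SN
    rw [hNc, Nat.card_congr (Subgroup.subgroupOfEquivOfLe (Subgroup.le_normalizer (H := A'))).toEquiv, hcA'] at h1
    omega
  have hq : Function.Bijective q := by
    refine (Nat.bijective_iff_injective_and_card q).mpr ⟨?_, by rw [hqc, DihedralGroup.nat_card]⟩
    rw [injective_iff_map_eq_one]
    intro x hx
    have hxA : π (f x) ∈ A' := Subgroup.mem_subgroupOf.mp ((QuotientGroup.eq_one_iff _).mp hx)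
    exact hfA x ((hmem _).mp hxA)
  rcases Cfsg.Agent.S3333.result d.T A' hd.symm hcA'
      (hd ▸ le_antisymm d.self fun p hp => Subgroup.mem_centralizer_iff.mpr fun q hq => (d.ab q hq p hp))
      (MulEquiv.ofBijective q hq).symm (fun x hx hx1 => hd ▸ d.cent x (hd.symm ▸ hx) hx1) with hn | ⟨⟨e⟩⟩
  · left
    intro h hh
    refine (hnorm ⟨h, hh⟩).mp ?_
    rw [hNdef, Subgroup.normalizer_eq_top_iff.mpr hn]
    exact Subgroup.mem_top _
  · right
    refine ⟨e.toMonoidHom.comp π, e.surjective.comp (QuotientGroup.mk'_surjective Z'), fun h => ?_⟩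
    show e (π h) = 1 ↔ _
    rw [e.map_eq_one_iff, hone]

/-- A dihedral group of order eight from a rotation of order four and an inverting rotation. -/
def dihRot (r s : Fin 48) : DihedralGroup 4 → Fin 48
  | DihedralGroup.r i => ([0, r, rMul r r, rMul r (rMul r r)] : List (Fin 48)).getD i.val 0
  | DihedralGroup.sr i => rMul s (([0, r, rMul r r, rMul r (rMul r r)] : List (Fin 48)).getD i.val 0)

theorem dihRot_facts : ∀ p ∈ ([(14, 2), (7, 1)] : List (Fin 48 × Fin 48)), ∀ x y : DihedralGroup 4,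
    dihRot p.1 p.2 (x * y) = rMul (dihRot p.1 p.2 x) (dihRot p.1 p.2 y) ∧ (dihRot p.1 p.2 x = 0 → x = 1) := by
  decide +kernel

end CfsgLib.Sym9Three
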