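import Cfsg.Agent.Lib.Sym9Three.Three
import Cfsg.Agent.Lib.Sym9Three.Quot6
import Cfsg.Agent.Lib.Sym9Three.Case2

set_option autoImplicit false
set_option linter.style.haveILetI false
set_option synthInstance.maxSize 4000

/-!
The quotient centralizers when all sign changes are realized.
-/

namespace CfsgLib.Sym9Three

open Subgroup Equiv

/-- The translation moving the last block. -/
abbrev ev : V3 := (0, 0, 1)

theorem ev_shift : ∀ v : V3, v ≠ 0 → v ≠ ev → v ≠ -ev → ∃ n : Fin 3, ¬ eType (v + n.val • ev) ∧ v + n.val • ev ≠ 0 := by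
  decide +kernel

theorem ev_counts : (Finset.univ.filter fun m : Mon => inR 3 m.g = true ∧ m * tr ev = tr ev * m).card = 216 ∧
    (Finset.univ.filter fun m : Mon => inR 3 m.g = true ∧ m * rot 6 = rot 6 * m).card = 144 ∧
    (Finset.univ.filter fun m : Mon => inR 3 m.g = true ∧ m * rot 1 = rot 1 * m).card = 72 := by decide +kernel

theorem ev_orbit : ∀ v : V3, eType v → ∃ r : Fin 48, act r ev = v := by decide +kernel

theorem dihRot_fix : ∀ x : DihedralGroup 4, act (dihRot 7 1 x) ev = ev ∧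
    rot (dihRot 14 2 x) * rot 6 = rot 6 * rot (dihRot 14 2 x) ∧ (dihRot 14 2 x = 6 → False) := by decide +kernel

/-- The translations on two blocks extended by the sign change of the third. -/
def inAT (m : Mon) : Bool := m.v.1 == 0 && (m.g == 0 || m.g == 6)

theorem inAT_facts : (∀ a : Mon, inAT a = true → inAT a⁻¹ = true ∧ a * rot 6 = rot 6 * a ∧
    (a * a * a = 1 ∨ a * a * a = rot 6) ∧ (a * a * a = 1 → a.g = 0)) ∧
    (∀ v w : V3, ∀ i j : Fin 2, v.1 = 0 → w.1 = 0 →
      inAT (⟨v, toR (6 * i)⟩ * ⟨w, toR (6 * j)⟩) = true ∧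
        (⟨v, toR (6 * i)⟩ : Mon) * ⟨w, toR (6 * j)⟩ = ⟨w, toR (6 * j)⟩ * ⟨v, toR (6 * i)⟩) ∧
    (Finset.univ.filter fun m : Mon => inAT m = true).card = 18 := by decide +kernel

theorem inAT_repr : ∀ a : Mon, inAT a = true → ∃ i : Fin 2, a = ⟨a.v, toR (6 * i)⟩ ∧ a.v.1 = 0 := by decide +kernel

theorem eps_comm : ∀ m : Mon, m * rot 6 = rot 6 * m →
    (act m.g (0, 1, 0) = (0, 1, 0) → act m.g (0, 0, 1) = (0, 0, 1) → inAT m = true) ∧ (act m.g (0, 1, 1)).1 = 0 ∧
      (∀ v : V3, v.1 = 0 → (act m.g v).1 = 0) := by decide +kernel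

theorem line_facts : ev ≠ (0 : V3) ∧ ((1, 0, 0) : V3) ∉ ([0, ev, -ev] : List V3) ∧ (2 : ℕ) • ev = -ev ∧
    ((0, 1, 1) : V3) ≠ 0 ∧ ((0, 1, 0) : V3) ≠ 0 := by decide +kernel

theorem six_cent_sixteen (u : Perm (Fin 6)) (hu : u * u = 1) (hu1 : u ≠ 1) :
    16 ∣ Nat.card (Subgroup.centralizer ({u} : Set (Perm (Fin 6)))) := by
  have hord : orderOf u = 2 := orderOf_eq_prime (by rw [sq, hu]) hu1
  obtain ⟨k, hk⟩ := Equiv.Perm.cycleType_prime_order (σ := u) (hord ▸ Nat.prime_two)
  rw [hord] at hk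
  have hsum := u.sum_cycleType_le
  rw [hk, Multiset.sum_replicate, Fintype.card_fin, smul_eq_mul] at hsum
  have hk3 : k ≤ 2 := by omega
  rw [Equiv.Perm.nat_card_centralizer, hk]
  interval_cases k <;> decide +kernel

universe u

variable {G : Type u} [Group G] [Finite G]

namespace Frame

variable (F : Frame G)

omit [Finite G] in
theorem j_nsmul (n : ℕ) (v : V3) : F.j (n • v) = F.j v ^ n := by
  induction n with
  | zero => rw [zero_smul, pow_zero, F.j_zero]
  | succ n ih => rw [succ_nsmul, F.j_add, ih, pow_succ]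

omit [Finite G] in
theorem eq_tr_of_g {m : Mon} (h : m.g = 0) : m = tr m.v := by
  conv_lhs => rw [mon_split m, h, show rot 0 = (1 : Mon) from rfl, mul_one]

/-- The centralizer of a translation moving one block. -/
theorem good_or_six (hk : F.k = 3) : F.Good ev ∨
    ∃ ψ : Subgroup.centralizer ({F.j ev} : Set G) →* Perm (Fin 6), Function.Surjective ψ ∧
      ∀ h, ψ h = 1 ↔ (h : G) ∈ Subgroup.zpowers (F.j ev) := by
  classical
  haveI : Fact (Nat.Prime 3) := ⟨Nat.prime_three⟩
  set H := Subgroup.centralizer ({F.j ev} : Set G) with hH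
  have hmemH : ∀ z, z ∈ H ↔ z * F.j ev = F.j ev * z := fun z => Subgroup.mem_centralizer_singleton_iff
  set Z := Subgroup.zpowers (F.j ev) with hZdef
  have hev : ev ≠ (0 : V3) := line_facts.1
  have hZcard : Nat.card Z = 3 := by rw [Nat.card_zpowers, orderOf_eq_prime (F.j_cube _) (F.j_ne_one hev)]
  have hZmem : ∀ z ∈ Z, ∃ n : Fin 3, z = F.j (n.val • ev) := by
    intro z hz
    obtain ⟨i, hi⟩ := mem_powers_iff_mem_zpowers.mpr hz
    refine ⟨⟨i % 3, Nat.mod_lt _ (by norm_num)⟩, ?_⟩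
    rw [F.j_nsmul]
    show z = F.j ev ^ (i % 3)
    rw [← pow_eq_pow_mod _ (F.j_cube ev)]
    exact hi.symm
  have hcentN : ∀ h ∈ H, ∀ v : V3, v ∉ ([0, ev, -ev] : List V3) → h * F.j v * h⁻¹ * (F.j v)⁻¹ ∈ Z → h ∈ F.N := by
    intro h hh v hv hz
    simp only [List.mem_cons, List.not_mem_nil, or_false, not_or] at hv
    obtain ⟨i, hi⟩ := hZmem _ hz
    rw [mul_inv_eq_iff_eq_mul] at hi
    obtain ⟨n, hn, hn0⟩ := ev_shift v hv.1 hv.2.1 hv.2.2
    refine F.ctrl_source (v := v + n.val • ev) (v' := i.val • ev + v + n.val • ev) (F.good hn0 fun _ => hn) ?_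
    rw [F.j_add, F.j_add, F.j_add, ← hi, conj_mul.symm]
    congr 1
    rw [F.j_nsmul, (Commute.pow_right ((hmemH h).mp hh) _).eq, mul_inv_cancel_right]
  have hcount : Nat.card ↥(H ⊓ F.N) = 216 := by
    rw [← ev_counts.1]
    refine (Nat.card_congr (Equiv.subtypeEquivRight (q := fun g => g * F.j ev = F.j ev * g ∧ g ∈ F.N) fun g => ?_)).trans ?_
    · rw [Subgroup.mem_inf, hmemH]
    · rw [F.card_filter (fun m => m * tr ev = tr ev * m) _ (fun _ h => h.2) fun m hm =>
        ⟨fun h => (F.el_comm_iff hm (tr_mem_Sub _ _)).mp h.1,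
          fun h => ⟨(F.el_comm_iff hm (tr_mem_Sub _ _)).mpr h, F.el_mem_N hm⟩⟩, hk]
  let f : DihedralGroup 4 →* H := MonoidHom.mk' (fun x => ⟨F.el (rot (dihRot 7 1 x)), by
      have h := F.el_conj (F.mem_all hk (rot (dihRot 7 1 x))) ev
      rw [(dihRot_fix x).1] at h
      exact (hmemH _).mpr (mul_inv_eq_iff_eq_mul.mp h)⟩) fun x y => Subtype.ext (by
    show F.el (rot (dihRot 7 1 (x * y))) = F.el (rot (dihRot 7 1 x)) * F.el (rot (dihRot 7 1 y))
    rw [((dihRot_facts (7, 1) (by simp)) x y).1, ← rot_mul, F.el_mul _ (F.mem_all hk _) _ (F.mem_all hk _)])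
  rcases le_normalizer_or_six H Z F.J (Subgroup.zpowers_le.mpr (F.j_mem ev))
      (fun z hz => (hmemH z).mpr (F.J_comm hz (F.j_mem ev)))
      (fun z hz h hh => by
        obtain ⟨n, rfl⟩ := hZmem z hz
        rw [F.j_nsmul]
        exact (Commute.pow_right ((hmemH h).mp hh) _).eq)
      (by rw [F.card_J, hZcard])
      (fun a ha => by
        obtain ⟨v, rfl⟩ := (F.mem_J a).mp ha
        rw [F.j_cube]; exact one_mem Z)
      (fun a ha b hb => by rw [F.J_comm ha hb, mul_inv_cancel_right, mul_inv_cancel]; exact one_mem Z)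
      (fun h hh hall => by
        have hN := hcentN h hh (1, 0, 0) line_facts.2.1 (hall _ (F.j_mem _))
        obtain ⟨m, hm, rfl, hr⟩ := F.exists_of_comm hN ((hmemH h).mp hh)
        have h0 : m.g = 0 := mod_line_stab _ ev hr hev fun u => by
          obtain ⟨n, hn⟩ := hZmem _ (hall _ (F.j_mem u))
          rw [F.el_conj hm, ← F.j_neg, ← F.j_add, ← sub_eq_add_neg] at hn
          rw [F.j_inj hn]
          fin_cases n
          · exact Or.inl (zero_smul _ _)
          · exact Or.inr (Or.inl (one_smul _ _))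
          · exact Or.inr (Or.inr line_facts.2.2.1)
        rw [eq_tr_of_g h0]
        exact F.j_mem _)
      (fun h hh a ha haZ hz => by
        obtain ⟨v, rfl⟩ := (F.mem_J a).mp ha
        refine hcentN h hh v (fun hv => haZ ?_) hz
        simp only [List.mem_cons, List.not_mem_nil, or_false] at hv
        show F.j v ∈ Z
        rcases hv with rfl | rfl | rfl
        · rw [F.j_zero]; exact one_mem Z
        · exact Subgroup.mem_zpowers _
        · rw [F.j_neg]; exact inv_mem (Subgroup.mem_zpowers _))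
      (by rw [hZcard]; exact hcount)
      f (fun x => F.el_mem_N (F.mem_all hk _))
      (fun x hx => by
        obtain ⟨v, hv⟩ := (F.mem_J _).mp hx
        have := congrArg Mon.g (F.el_inj _ (tr_mem_Sub _ _) _ (F.mem_all hk _) hv)
        exact ((dihRot_facts (7, 1) (by simp)) x x).2 this.symm) with h | h
  · exact Or.inl fun g hg => h ((hmemH g).mpr hg)
  · exact Or.inr h

omit [Finite G] in
theorem good_all (hk : F.k = 3) (hev : F.Good ev) [Finite G] : ∀ v : V3, v ≠ 0 → F.Good v := by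
  intro v hv
  by_cases he : eType v
  · obtain ⟨r, rfl⟩ := ev_orbit v he
    exact F.good_act (by rw [hk]; rfl) hev
  · exact F.good hv fun _ => he

/-- The centralizer of the sign change of one block when all translations have small centralizers. -/
theorem cent_eps_le (hk : F.k = 3) (hgood : ∀ v : V3, v ≠ 0 → F.Good v) :
    Subgroup.centralizer ({F.el (rot 6)} : Set G) ≤ F.N := by
  classical
  haveI : Fact (Nat.Prime 2) := ⟨Nat.prime_two⟩
  haveI : Fact (Nat.Prime 3) := ⟨Nat.prime_three⟩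
  have hall : ∀ m, m ∈ Sub F.k := F.mem_all hk
  set t := F.el (rot 6) with ht
  set H := Subgroup.centralizer ({t} : Set G) with hH
  have hmemH : ∀ z, z ∈ H ↔ z * t = t * z := fun z => Subgroup.mem_centralizer_singleton_iff
  set Z := Subgroup.zpowers t with hZdef
  have htsq : t * t = 1 := F.el_sq_one (hall _) (by decide +kernel)
  have ht1 : t ≠ 1 := fun e =>
    absurd (congrArg Mon.g (F.el_inj _ (hall _) 1 (one_mem _) (e.trans F.el_one.symm))) (by decide)
  have hto : orderOf t = 2 := orderOf_eq_prime (by rw [pow_two, htsq]) ht1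
  have hZcard : Nat.card Z = 2 := by rw [Nat.card_zpowers, hto]
  have hZlist : ∀ z ∈ Z, z = 1 ∨ z = t := fun z hz => by
    obtain ⟨i, rfl⟩ := Subgroup.mem_zpowers_iff.mp hz
    rw [← zpow_mod_orderOf, hto]
    have : i % 2 = 0 ∨ i % 2 = 1 := by omega
    rcases this with e | e <;> rw [Nat.cast_ofNat, e] <;> simp
  have hZc : ∀ z ∈ Z, ∀ h ∈ H, h * z = z * h := fun z hz h hh => by
    rcases hZlist z hz with rfl | rfl
    · rw [mul_one, one_mul]
    · exact (hmemH h).mp hh
  let A : Subgroup G :=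
    { carrier := {z | ∃ m, inAT m = true ∧ F.el m = z}
      mul_mem' := by
        rintro _ _ ⟨a, ha, rfl⟩ ⟨b, hb, rfl⟩
        refine ⟨a * b, ?_, F.el_mul _ (hall _) _ (hall _)⟩
        obtain ⟨i, ea, hv⟩ := inAT_repr a ha
        obtain ⟨j, eb, hw⟩ := inAT_repr b hb
        rw [ea, eb]
        exact (inAT_facts.2.1 a.v b.v i j hv hw).1
      one_mem' := ⟨1, by decide +kernel, F.el_one⟩
      inv_mem' := by
        rintro _ ⟨a, ha, rfl⟩
        exact ⟨a⁻¹, (inAT_facts.1 a ha).1, F.el_inv (hall _)⟩ }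
  have hjA : ∀ v : V3, v.1 = 0 → F.j v ∈ A := fun v hv => ⟨tr v, by simp [inAT, hv], rfl⟩
  have hcA : Nat.card A = 18 := by
    rw [← inAT_facts.2.2, ← Nat.card_eq_finsetCard]
    refine (Nat.card_congr (Equiv.ofBijective
      (fun m : ↥(Finset.univ.filter fun m : Mon => inAT m = true) =>
        (⟨F.el m.1, m.1, (Finset.mem_filter.mp m.2).2, rfl⟩ : A))
      ⟨fun p q h => Subtype.ext (F.el_inj _ (hall _) _ (hall _) (congrArg Subtype.val h)), fun z => ?_⟩)).symm
    obtain ⟨m, hm, e⟩ := z.2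
    exact ⟨⟨m, Finset.mem_filter.mpr ⟨Finset.mem_univ _, hm⟩⟩, Subtype.ext e⟩
  have hfix3 : ∀ h ∈ H, ∀ v : V3, v.1 = 0 → h * F.j v * h⁻¹ * (F.j v)⁻¹ ∈ Z → h * F.j v = F.j v * h := by
    intro h hh v hv hz
    rcases hZlist _ hz with e | e
    · rw [mul_inv_eq_one, mul_inv_eq_iff_eq_mul] at e
      exact e
    · exfalso
      rw [mul_inv_eq_iff_eq_mul] at e
      have hc : Commute t (F.j v) := ((F.el_comm_iff (hall _) (tr_mem_Sub _ _)).mpr
        ((inAT_facts.1 (tr v) (by simp [inAT, hv])).2.1).symm)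
      have h3 : (h * F.j v * h⁻¹) ^ 3 = 1 := by rw [conj_pow, F.j_cube]; group
      rw [e, hc.mul_pow, F.j_cube, mul_one, pow_three', htsq, one_mul] at h3
      exact ht1 h3
  have hnA : ∀ h ∈ H, h ∈ F.N → h ∈ Subgroup.normalizer (A : Set G) := by
    have key : ∀ h ∈ H, h ∈ F.N → ∀ a ∈ A, h * a * h⁻¹ ∈ A := by
      rintro h hh hhN _ ⟨a, ha, rfl⟩
      obtain ⟨m, hm, rfl⟩ := (F.mem_N h).mp hhN
      obtain ⟨i, ea, hv⟩ := inAT_repr a ha
      have hmt := (F.el_comm_iff hm (hall _)).mp ((hmemH _).mp hh)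
      have hz : F.el (rot (toR (6 * i))) ∈ Z := by
        fin_cases i
        · show F.el 1 ∈ Z
          rw [F.el_one]; exact one_mem Z
        · exact Subgroup.mem_zpowers _
      have hzA : F.el (rot (toR (6 * i))) ∈ A := by
        fin_cases i
        · exact ⟨_, by decide +kernel, rfl⟩
        · exact ⟨_, by decide +kernel, rfl⟩
      rw [ea, mon_split ⟨a.v, toR (6 * i)⟩, F.el_mul _ (tr_mem_Sub _ _) _ (hall _), conj_mul.symm, F.el_conj hm,
        hZc _ hz _ hh, mul_inv_cancel_right]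
      exact mul_mem (hjA _ ((eps_comm m hmt).2.2 _ hv)) hzA
    intro h hh hhN
    rw [Subgroup.mem_normalizer_iff]
    refine fun a => ⟨key h hh hhN a, fun ha => ?_⟩
    have := key h⁻¹ (inv_mem hh) (inv_mem hhN) _ ha
    simpa [mul_assoc] using this
  have hAN : ∀ h ∈ H, h ∈ Subgroup.normalizer (A : Set G) → h ∈ F.N := by
    intro h hh hn
    obtain ⟨m, ha, e⟩ := (Subgroup.mem_normalizer_iff.mp hn (F.j (0, 1, 1))).mp (hjA _ rfl)
    have h3 : F.el m ^ 3 = 1 := by rw [e, conj_pow, F.j_cube]; group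
    rw [pow_three', ← F.el_mul _ (hall _) _ (hall _), ← F.el_mul _ (hall _) _ (hall _)] at h3
    have h0 := (inAT_facts.1 m ha).2.2.2 (F.el_inj _ (hall _) 1 (one_mem _) (h3.trans F.el_one.symm))
    exact F.ctrl_source (v := (0, 1, 1)) (v' := m.v) (hgood _ line_facts.2.2.2.1)
      (by rw [← e, eq_tr_of_g h0])
  let f : DihedralGroup 4 →* H := MonoidHom.mk' (fun x => ⟨F.el (rot (dihRot 14 2 x)),
      (hmemH _).mpr ((F.el_comm_iff (hall _) (hall _)).mpr (dihRot_fix x).2.1)⟩) fun x y => Subtype.ext (by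
    show F.el (rot (dihRot 14 2 (x * y))) = F.el (rot (dihRot 14 2 x)) * F.el (rot (dihRot 14 2 y))
    rw [((dihRot_facts (14, 2) (by simp)) x y).1, ← rot_mul, F.el_mul _ (F.mem_all hk _) _ (F.mem_all hk _)])
  rcases le_normalizer_or_six H Z A
      (by rw [hZdef, Subgroup.zpowers_le]; exact ⟨rot 6, by decide +kernel, rfl⟩)
      (by rintro _ ⟨a, ha, rfl⟩; exact (hmemH _).mpr ((F.el_comm_iff (hall _) (hall _)).mpr (inAT_facts.1 a ha).2.1))
      hZc (by rw [hcA, hZcard])
      (by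
        rintro _ ⟨a, ha, rfl⟩
        rw [pow_three', ← F.el_mul _ (hall _) _ (hall _), ← F.el_mul _ (hall _) _ (hall _)]
        rcases (inAT_facts.1 a ha).2.2.1 with e | e <;> rw [e]
        · rw [F.el_one]; exact one_mem Z
        · exact Subgroup.mem_zpowers _)
      (by
        rintro _ ⟨a, ha, rfl⟩ _ ⟨b, hb, rfl⟩
        obtain ⟨i, ea, hv⟩ := inAT_repr a ha
        obtain ⟨j, eb, hw⟩ := inAT_repr b hb
        rw [(F.el_comm_iff (hall a) (hall b)).mpr (by rw [ea, eb]; exact (inAT_facts.2.1 a.v b.v i j hv hw).2),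
          mul_inv_cancel_right, mul_inv_cancel]
        exact one_mem Z)
      (fun h hh hcj => by
        have c1 := hfix3 h hh (0, 1, 0) rfl (hcj _ (hjA _ rfl))
        have c2 := hfix3 h hh (0, 0, 1) rfl (hcj _ (hjA _ rfl))
        obtain ⟨m, hm, rfl⟩ := (F.mem_N h).mp (hgood _ line_facts.2.2.2.2 h c1)
        exact ⟨m, (eps_comm m ((F.el_comm_iff hm (hall _)).mp ((hmemH _).mp hh))).1
          (F.j_inj (by rw [← F.el_conj hm, c1, mul_inv_cancel_right]))
          (F.j_inj (by rw [← F.el_conj hm, c2, mul_inv_cancel_right])), rfl⟩)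
      (by
        rintro h hh _ ⟨a, ha, rfl⟩ haZ hc
        obtain ⟨i, ea, hv⟩ := inAT_repr a ha
        have hz : F.el (rot (toR (6 * i))) ∈ Z := by
          fin_cases i
          · show F.el 1 ∈ Z
            rw [F.el_one]; exact one_mem Z
          · exact Subgroup.mem_zpowers _
        rw [ea, mon_split ⟨a.v, toR (6 * i)⟩, F.el_mul _ (tr_mem_Sub _ _) _ (hall _)] at haZ hc
        have hv0 : a.v ≠ 0 := fun e => haZ (by
          show F.j a.v * _ ∈ Z
          rw [e, F.j_zero, one_mul]; exact hz)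
        refine hnA h hh (hgood a.v hv0 h (hfix3 h hh a.v hv ?_))
        rw [conj_mul.symm, hZc _ hz _ hh, mul_inv_cancel_right, mul_inv_rev] at hc
        rw [show h * F.j a.v * h⁻¹ * (F.j a.v)⁻¹ = h * F.el (tr a.v) * h⁻¹ * F.el (rot (toR (6 * i))) *
          ((F.el (rot (toR (6 * i))))⁻¹ * (F.el (tr a.v))⁻¹) by group]
        exact hc)
      (by
        rw [hZcard, show 72 * 2 = 144 by norm_num, ← ev_counts.2.1]
        refine (Nat.card_congr (Equiv.subtypeEquivRight (q := fun g => g * t = t * g ∧ g ∈ F.N) fun g => ?_)).trans ?_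
        · rw [Subgroup.mem_inf, hmemH]
          exact ⟨fun h => ⟨h.1, hAN g ((hmemH g).mpr h.1) h.2⟩, fun h => ⟨h.1, hnA g ((hmemH g).mpr h.1) h.2⟩⟩
        · rw [F.card_filter (fun m => m * rot 6 = rot 6 * m) _ (fun _ h => h.2) fun m hm =>
            ⟨fun h => (F.el_comm_iff hm (hall _)).mp h.1,
              fun h => ⟨(F.el_comm_iff hm (hall _)).mpr h, F.el_mem_N hm⟩⟩, hk])
      f (fun x => hnA _ (f x).2 (F.el_mem_N (hall _)))
      (fun x hx => by
        obtain ⟨m, hm, e⟩ := hx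
        obtain rfl : m = rot (dihRot 14 2 x) := F.el_inj _ (hall _) _ (hall _) e
        obtain ⟨i, ei, -⟩ := inAT_repr _ hm
        have hi : dihRot 14 2 x = toR (6 * i) := congrArg Mon.g ei
        fin_cases i
        · exact ((dihRot_facts (14, 2) (by simp)) x x).2 hi
        · exact ((dihRot_fix x).2.2 hi).elim) with h | ⟨ψ, hsurj, hker⟩
  · exact fun g hg => hAN g hg (h hg)
  exfalso
  -- an involution centralizer in the symmetric group of degree six is too large
  have hs : F.el (rot 2) ∈ H := (hmemH _).mpr ((F.el_comm_iff (hall _) (hall _)).mpr (by decide +kernel))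
  set u := ψ ⟨_, hs⟩ with hu
  have hu2 : u * u = 1 := by
    rw [hu, ← map_mul, show (⟨_, hs⟩ : H) * ⟨_, hs⟩ = 1 from Subtype.ext (F.el_sq_one (hall _) (by decide +kernel)),
      map_one]
  have hu1 : u ≠ 1 := fun e => by
    rcases hZlist _ ((hker _).mp e) with e' | e'
    · exact absurd (congrArg Mon.g (F.el_inj _ (hall _) 1 (one_mem _) (e'.trans F.el_one.symm))) (by decide)
    · exact absurd (congrArg Mon.g (F.el_inj _ (hall _) _ (hall _) e')) (by decide)
  have h16 : 16 ∣ Nat.card (Subgroup.centralizer ({u} : Set (Perm (Fin 6)))) := six_cent_sixteen u hu2 hu1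
  set D := Subgroup.centralizer ({u} : Set (Perm (Fin 6))) with hD
  have hP : Nat.card (D.comap ψ) = 2 * Nat.card D := by
    have e1 := (D.comap ψ).card_mul_index
    have e2 := ψ.ker.card_mul_index
    rw [Subgroup.index_comap_of_surjective _ hsurj] at e1
    rw [Subgroup.index_ker, MonoidHom.range_eq_top.mpr hsurj, Subgroup.card_top] at e2
    have hk2 : Nat.card ψ.ker = 2 := by
      rw [← hZcard]
      refine Nat.card_congr ⟨fun z => ⟨((z : H) : G), (hker z).mp (MonoidHom.mem_ker.mp z.2)⟩,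
        fun z => ⟨⟨(z : G), ?_⟩, MonoidHom.mem_ker.mpr ((hker _).mpr z.2)⟩, fun z => rfl, fun z => rfl⟩
      rcases hZlist _ z.2 with e | e <;> rw [e]
      · exact one_mem H
      · exact (hmemH _).mpr rfl
    rw [hk2, ← D.card_mul_index, ← mul_assoc] at e2
    exact Nat.eq_of_mul_eq_mul_right (Nat.pos_of_ne_zero Subgroup.index_ne_zero_of_finite) (e1.trans e2.symm)
  have hmem : ∀ h : D.comap ψ, ((h : H) : G) * F.el (rot 2) * ((h : H) : G)⁻¹ * (F.el (rot 2))⁻¹ ∈ Z := by
    intro h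
    refine (hker ((h : H) * ⟨_, hs⟩ * (h : H)⁻¹ * (⟨_, hs⟩ : H)⁻¹)).mp ?_
    rw [map_mul, map_mul, map_mul, map_inv, map_inv, ← hu,
      Subgroup.mem_centralizer_singleton_iff.mp (Subgroup.mem_comap.mp h.2)]
    group
  let χ : D.comap ψ →* Z := MonoidHom.mk' (fun h => ⟨_, hmem h⟩) fun a b => Subtype.ext (by
    show ((a : H) : G) * ((b : H) : G) * F.el (rot 2) * (((a : H) : G) * ((b : H) : G))⁻¹ * (F.el (rot 2))⁻¹ =
      ((a : H) : G) * F.el (rot 2) * ((a : H) : G)⁻¹ * (F.el (rot 2))⁻¹ *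
        (((b : H) : G) * F.el (rot 2) * ((b : H) : G)⁻¹ * (F.el (rot 2))⁻¹)
    obtain ⟨z, hz, e⟩ : ∃ z ∈ Z, ((b : H) : G) * F.el (rot 2) * ((b : H) : G)⁻¹ * (F.el (rot 2))⁻¹ = z :=
      ⟨_, hmem b, rfl⟩
    rw [e, show ((a : H) : G) * ((b : H) : G) * F.el (rot 2) * (((a : H) : G) * ((b : H) : G))⁻¹ * (F.el (rot 2))⁻¹ =
      ((a : H) : G) * (((b : H) : G) * F.el (rot 2) * ((b : H) : G)⁻¹ * (F.el (rot 2))⁻¹) * ((a : H) : G)⁻¹ *
        (((a : H) : G) * F.el (rot 2) * ((a : H) : G)⁻¹ * (F.el (rot 2))⁻¹) by group, e,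
      hZc z hz _ (a : H).2, mul_inv_cancel_right]
    exact (hZc z hz _ (mul_mem (mul_mem (mul_mem (a : H).2 hs) (inv_mem (a : H).2)) (inv_mem hs))).symm)
  have hc := χ.ker.card_mul_index
  have hle : Nat.card χ.ker ∣ Nat.card (Subgroup.centralizer ({F.el (rot 2)} : Set G)) := by
    let ι : χ.ker →* Subgroup.centralizer ({F.el (rot 2)} : Set G) :=
      (H.subtype.comp ((D.comap ψ).subtype.comp χ.ker.subtype)).codRestrict _ fun h => by
        rw [Subgroup.mem_centralizer_singleton_iff]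
        have h' : ((((h : D.comap ψ) : H) : G) * F.el (rot 2) * (((h : D.comap ψ) : H) : G)⁻¹ * (F.el (rot 2))⁻¹) = 1 :=
          congrArg Subtype.val (MonoidHom.mem_ker.mp h.2)
        exact mul_inv_eq_iff_eq_mul.mp (mul_inv_eq_one.mp h')
    exact Subgroup.card_dvd_of_injective ι fun a b h => Subtype.ext (Subtype.ext (Subtype.ext (congrArg Subtype.val h :)))
  have h72 : Nat.card (Subgroup.centralizer ({F.el (rot 2)} : Set G)) = 72 := by
    rw [← card_cent_congr (F.isConj_el (n := rot 3) (hall _) F.rot_one_mem (hall (rot 2)) (by decide +kernel)),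
      F.card_cent F.rot_one_mem (fun g hg => F.cent_s (fun v hv _ => hgood v hv) hg), hk]
    exact ev_counts.2.2
  have hidx : χ.ker.index ∣ 2 := by
    rw [Subgroup.index_ker, ← hZcard]
    exact Subgroup.card_subgroup_dvd_card _
  rw [hP] at hc
  rw [h72] at hle
  obtain ⟨q, hq⟩ := h16
  rcases (Nat.dvd_prime Nat.prime_two).mp hidx with e | e <;> rw [e, hq] at hc
  · exact absurd ((Dvd.intro (2 * q) (by omega) : 16 ∣ Nat.card χ.ker).trans hle) (by norm_num)
  · exact absurd ((Dvd.intro q (by omega) : 16 ∣ Nat.card χ.ker).trans hle) (by norm_num)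

end Frame

end CfsgLib.Sym9Three
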