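import Cfsg.Agent.Lib.Sym9Three.Classify
import Mathlib.GroupTheory.Perm.Centralizer
import Mathlib.GroupTheory.Sylow
import Mathlib.GroupTheory.SpecificGroups.Cyclic
import Mathlib.GroupTheory.Nilpotent
import Mathlib.GroupTheory.IndexNormal
import Mathlib.Tactic.NormNum

set_option autoImplicit false
set_option linter.style.haveILetI false
set_option synthInstance.maxSize 4000

/-!
The normalizer of the translations in a group with the centralizer of a fixed-point-free element of order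
three of the symmetric group of degree nine.
-/

namespace CfsgLib.Sym9Three

open Equiv Subgroup

/-- The point moved by a translation and a rotation. -/
def ptFun (m : Mon) (c : Fin 9) : Fin 9 :=
  let e : V3 := if c.val / 3 = 0 then (1, 0, 0) else if c.val / 3 = 1 then (0, 1, 0) else (0, 0, 1)
  let w : V3 := act m.g e
  let j : Fin 3 := if w.1 ≠ 0 then 0 else if w.2.1 ≠ 0 then 1 else 2
  let t : ZMod 3 := ((c.val % 3 : ℕ) : ZMod 3)
  let i : ZMod 3 := if j = 0 then w.1 * t + m.v.1 else if j = 1 then w.2.1 * t + m.v.2.1 else w.2.2 * t + m.v.2.2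
  ⟨(3 * j.val + i.val) % 9, Nat.mod_lt _ (by decide)⟩

theorem pt_facts : (∀ v w : V3, ∀ c : Fin 9, ptFun (tr (v + w)) c = ptFun (tr v) (ptFun (tr w) c)) ∧
    (∀ m : V3 × Fin 48, m.2.val < 6 → ∀ c : Fin 9, ptFun ⟨m.1, m.2⟩ c = ptFun (tr m.1) (ptFun (rot m.2) c)) ∧
    (∀ r s : Fin 48, r.val < 6 → s.val < 6 → ∀ c : Fin 9, ptFun (rot (rMul r s)) c = ptFun (rot r) (ptFun (rot s) c)) ∧
    (∀ r : Fin 48, r.val < 6 → ∀ v : V3, ∀ c : Fin 9, ptFun (rot r) (ptFun (tr v) c) = ptFun (tr (act r v)) (ptFun (rot r) c)) ∧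
    (∀ r : Fin 48, inR 0 r = true ↔ r.val < 6) := by decide +kernel

theorem ptFun_mul (a b : Mon) (ha : a.g.val < 6) (hb : b.g.val < 6) (c : Fin 9) :
    ptFun (a * b) c = ptFun a (ptFun b c) := by
  obtain ⟨h1, h2, h3, h4, h5⟩ := pt_facts
  obtain ⟨v, r⟩ := a
  obtain ⟨w, s⟩ := b
  have hrs : (rMul r s).val < 6 :=
    (h5 _).mp (((inR_group 0).2 r ((h5 r).mpr ha)).2 s ((h5 s).mpr hb))
  show ptFun ⟨v + act r w, rMul r s⟩ c = _
  rw [h2 (v + act r w, rMul r s) hrs, h1, h3 r s ha hb, ← h4 r ha, h2 (v, r) ha, h2 (w, s) hb]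

theorem ptFun_one : ∀ c : Fin 9, ptFun 1 c = c := by decide +kernel

/-- The permutation of the nine points. -/
def theta : Sub 0 →* Perm (Fin 9) where
  toFun m :=
    { toFun := ptFun m.1
      invFun := ptFun (m⁻¹).1
      left_inv := fun c => by
        show ptFun ((m⁻¹).1) (ptFun m.1 c) = c
        rw [← ptFun_mul _ _ ((pt_facts.2.2.2.2 _).mp (m⁻¹).2) ((pt_facts.2.2.2.2 _).mp m.2),
          ← Subgroup.coe_mul, inv_mul_cancel]
        exact ptFun_one c
      right_inv := fun c => by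
        show ptFun m.1 (ptFun ((m⁻¹).1) c) = c
        rw [← ptFun_mul _ _ ((pt_facts.2.2.2.2 _).mp m.2) ((pt_facts.2.2.2.2 _).mp (m⁻¹).2),
          ← Subgroup.coe_mul, mul_inv_cancel]
        exact ptFun_one c }
  map_one' := Equiv.ext ptFun_one
  map_mul' a b := Equiv.ext fun c =>
    ptFun_mul _ _ ((pt_facts.2.2.2.2 _).mp a.2) ((pt_facts.2.2.2.2 _).mp b.2) c

/-- The product of three disjoint three-cycles. -/
abbrev x9 : Perm (Fin 9) := swap 0 1 * swap 1 2 * swap 3 4 * swap 4 5 * swap 6 7 * swap 7 8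

theorem x9_facts : (∀ c : Fin 9, ptFun (tr xv) c = x9 c) ∧
    (∀ m : V3 × Fin 6, (∀ c : Fin 9, ptFun ⟨m.1, toR m.2⟩ c = c) → m.1 = 0 ∧ m.2 = 0) ∧
    (∀ m : V3 × Fin 6, ∀ c : Fin 9, x9 (ptFun ⟨m.1, toR m.2⟩ c) = ptFun ⟨m.1, toR m.2⟩ (x9 c)) := by decide +kernel

theorem sub0_repr {m : Mon} (hm : m ∈ Sub 0) : ∃ p : Fin 6, m = ⟨m.v, toR p⟩ := by
  have h : m.g.val < 6 := (pt_facts.2.2.2.2 _).mp hm
  refine ⟨⟨m.g.val, h⟩, ?_⟩
  rw [show toR (⟨m.g.val, h⟩ : Fin 6).val = m.g from Fin.ext (Nat.mod_eq_of_lt m.g.isLt)]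

theorem x9_cycleType : Equiv.Perm.cycleType x9 = ({3, 3, 3} : Multiset ℕ) := by decide +kernel

theorem theta_inj : Function.Injective theta := by
  rw [injective_iff_map_eq_one]
  intro m hm
  obtain ⟨p, hp⟩ := sub0_repr m.2
  have h := x9_facts.2.1 (m.1.v, p) fun c => by
    show ptFun ⟨m.1.v, toR p⟩ c = c
    rw [← hp]
    exact Equiv.congr_fun hm c
  refine Subtype.ext ?_
  rw [hp, show m.1.v = 0 from h.1, show p = 0 from h.2]
  rfl

theorem sub0_comm_xv {m : Mon} (hm : m ∈ Sub 0) : m * tr xv = tr xv * m := by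
  obtain ⟨p, hp⟩ := sub0_repr hm
  rw [hp, Mon.mul_def, Mon.mul_def, act_one, (rMul_one _).1, (rMul_one _).2.1,
    show act (toR p) xv = xv from (by decide +kernel : ∀ p : Fin 6, act (toR p) xv = xv) p, add_comm]

theorem theta_range : theta.range = Subgroup.centralizer ({x9} : Set (Perm (Fin 9))) := by
  have hx : x9 = theta ⟨tr xv, tr_mem_Sub 0 xv⟩ := Equiv.ext fun c => (x9_facts.1 c).symm
  refine Subgroup.eq_of_le_of_card_ge ?_ ?_
  · rintro _ ⟨m, rfl⟩
    refine Subgroup.mem_centralizer_singleton_iff.mpr ?_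
    rw [hx, ← map_mul, ← map_mul]
    exact congrArg theta (Subtype.ext (sub0_comm_xv m.2))
  · rw [← Nat.card_congr (MonoidHom.ofInjective theta_inj).toEquiv, card_Sub.1, Equiv.Perm.nat_card_centralizer,
      x9_cycleType]
    decide +kernel

theorem center_sub : ∀ v : V3, ∀ p : Fin 6,
    (⟨v, toR p⟩ : Mon) * tr (1, 0, 0) = tr (1, 0, 0) * ⟨v, toR p⟩ → (⟨v, toR p⟩ : Mon) * rot 4 = rot 4 * ⟨v, toR p⟩ →
    p = 0 ∧ (v = 0 ∨ v = xv ∨ v = -xv) := by decide +kernel

theorem perm_kernel : ∀ p : Fin 6, (∀ v : V3, act (toR p) v = v) → p = 0 := by decide +kernel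

theorem small_cent : ∀ v : V3, ∀ r : Fin 48, r ≠ 0 → rMul r (rMul r r) = 0 →
    (Finset.univ.filter fun k : Mon => rMul k.g (rMul k.g k.g) = 0 ∧ k * ⟨v, r⟩ = ⟨v, r⟩ * k).card < 27 := by
  decide +kernel

theorem rot_three : ∀ r : Fin 48, (rMul r (rMul r r) = 0 ↔ rMul (rMul r (rMul r r)) (rMul (rMul r (rMul r r)) (rMul r (rMul r r))) = 0) := by
  decide +kernel

/-- An abelian subgroup of order 27 of the model consists of translations. -/
theorem eq_transl {D : Subgroup Mon} (hc : ∀ a ∈ D, ∀ b ∈ D, a * b = b * a) (h27 : Nat.card D = 27) :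
    D = transl := by
  have hg : ∀ k ∈ D, rMul k.g (rMul k.g k.g) = 0 := fun k hk => by
    have h : k ^ 27 = 1 := by
      rw [← h27]
      have := congrArg Subtype.val (pow_card_eq_one' (x := (⟨k, hk⟩ : D)))
      rwa [Subgroup.coe_pow, Subgroup.coe_one] at this
    have hcube : ∀ j : Mon, (j ^ 3).g = rMul j.g (rMul j.g j.g) := fun j => by rw [pow_three]; rfl
    have h' : ((k ^ 3) ^ 3) ^ 3 = 1 := by rw [← pow_mul, ← pow_mul]; exact h
    have e := congrArg Mon.g h'
    rw [hcube, hcube, hcube] at e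
    exact (rot_three _).mpr ((rot_three _).mpr e)
  refine Subgroup.eq_of_le_of_card_ge (fun h hh => ?_) (by rw [card_transl, h27])
  by_contra hne
  have hlt := small_cent h.v h.g hne (hg h hh)
  have hle : Nat.card D ≤
      (Finset.univ.filter fun k : Mon => rMul k.g (rMul k.g k.g) = 0 ∧ k * ⟨h.v, h.g⟩ = ⟨h.v, h.g⟩ * k).card := by
    classical
    rw [Nat.card_eq_fintype_card, ← Fintype.card_coe]
    exact Fintype.card_le_of_injective
      (fun k => ⟨(k : Mon), Finset.mem_filter.mpr ⟨Finset.mem_univ _, hg _ k.2, hc _ k.2 _ hh⟩⟩)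
      fun a b e => by simpa using e
  omega

theorem sign_sets : ∀ S : Fin 8 → Bool, S 0 = true →
    (∀ s t : Fin 8, S s = true → S t = true → S ⟨Nat.xor s.val t.val % 8, Nat.mod_lt _ (by decide)⟩ = true) →
    (∀ p : Fin 6, ∀ s : Fin 8, S s = true → S ⟨pSignN p.val s.val % 8, Nat.mod_lt _ (by decide)⟩ = true) →
    ∃ k : Fin 4, ∀ s : Fin 8, S s = inS k s.val := by decide +kernel

theorem rot_facts : (∀ r : Fin 48, r = rMul (toR (6 * (r.val / 6))) (toR (r.val % 6))) ∧
    (∀ s t : Fin 8, rMul (toR (6 * s.val)) (toR (6 * t.val)) = toR (6 * (Nat.xor s.val t.val % 8))) ∧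
    (∀ p : Fin 6, ∀ s : Fin 8, rMul (rMul (toR p) (toR (6 * s.val))) (rInv (toR p)) = toR (6 * (pSignN p.val s.val % 8))) ∧
    (∀ r s : Fin 48, cols (act r) = cols (act s) → r = s) ∧
    (∀ r : Fin 48, act r xv = xv → r.val < 6) := by decide +kernel

theorem sign_fixed : ∀ k : Fin 4, k ≠ 0 → ∀ v : V3, (∀ s : Fin 8, inS k s.val = true → act (toR (6 * s.val)) v = v) → v = 0 := by
  decide +kernel

universe u

variable {G : Type u} [Group G]

/-- The normalizer of the translations with the signs in an admissible set. -/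
structure Frame (G : Type u) [Group G] where
  /-- the set of signs -/
  k : Fin 4
  /-- the elements -/
  el : Mon → G
  el_mul : ∀ a ∈ Sub k, ∀ b ∈ Sub k, el (a * b) = el a * el b
  el_inj : ∀ a ∈ Sub k, ∀ b ∈ Sub k, el a = el b → a = b
  /-- the translations -/
  J : Subgroup G
  mem_J : ∀ g, g ∈ J ↔ ∃ v, el (tr v) = g
  mem_N : ∀ g, g ∈ Subgroup.normalizer (J : Set G) ↔ ∃ m ∈ Sub k, el m = g
  cent : ∀ g, g * el (tr xv) = el (tr xv) * g → ∃ m ∈ Sub 0, el m = g
  sig : ∀ U : Subgroup G, (Nat.card U).Coprime 3 →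
    (∀ v, U.map (MulAut.conj (el (tr v))).toMonoidHom = U) → U = ⊥

/-- The action on the translations determines a monomial rotation. -/
structure Pre (G : Type u) [Group G] where
  /-- the centralizer -/
  φ : Sub 0 →* G
  inj : Function.Injective φ
  cent : ∀ g, g * φ ⟨tr xv, tr_mem_Sub 0 xv⟩ = φ ⟨tr xv, tr_mem_Sub 0 xv⟩ * g → ∃ m, φ m = g
  /-- the translations -/
  J : Subgroup G
  mem_J : ∀ g, g ∈ J ↔ ∃ v, φ ⟨tr v, tr_mem_Sub 0 v⟩ = g

namespace Pre

variable (D : Pre G)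

/-- A translation in the group. -/
def jv (v : V3) : G := D.φ ⟨tr v, tr_mem_Sub 0 v⟩

theorem jv_add (v w : V3) : D.jv (v + w) = D.jv v * D.jv w := by
  rw [jv, jv, jv, ← map_mul]
  exact congrArg D.φ (Subtype.ext (tr_mul v w).symm)

theorem jv_inj {v w : V3} (h : D.jv v = D.jv w) : v = w := congrArg (fun m : Sub 0 => m.1.v) (D.inj h)

theorem jv_mem (v : V3) : D.jv v ∈ D.J := (D.mem_J _).mpr ⟨v, rfl⟩

theorem phi_conj (m : Sub 0) (v : V3) : D.φ m * D.jv v * (D.φ m)⁻¹ = D.jv (act m.1.g v) := by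
  rw [jv, jv, ← map_inv, ← map_mul, ← map_mul]
  exact congrArg D.φ (Subtype.ext (rot_conj_tr m.1 v))

theorem phi_mem_N (m : Sub 0) : D.φ m ∈ Subgroup.normalizer (D.J : Set G) := by
  have key : ∀ (m : Sub 0), ∀ z ∈ D.J, D.φ m * z * (D.φ m)⁻¹ ∈ D.J := fun m z hz => by
    obtain ⟨v, rfl⟩ := (D.mem_J z).mp hz
    exact (D.mem_J _).mpr ⟨act m.1.g v, (D.phi_conj m v).symm⟩
  rw [Subgroup.mem_normalizer_iff]
  refine fun z => ⟨key m z, fun hz => ?_⟩
  have := key m⁻¹ _ hz
  rwa [map_inv, inv_inv, mul_assoc, mul_assoc, inv_mul_cancel, mul_one, ← mul_assoc, inv_mul_cancel, one_mul] at this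

theorem act_exists {g : G} (hg : g ∈ Subgroup.normalizer (D.J : Set G)) (v : V3) :
    ∃ w, g * D.jv v * g⁻¹ = D.jv w := by
  obtain ⟨w, hw⟩ := (D.mem_J _).mp ((Subgroup.mem_normalizer_iff.mp hg _).mp (D.jv_mem v))
  exact ⟨w, hw.symm⟩

/-- The image of a translation. -/
noncomputable def move (g : Subgroup.normalizer (D.J : Set G)) (v : V3) : V3 := (D.act_exists g.2 v).choose

theorem move_spec (g : Subgroup.normalizer (D.J : Set G)) (v : V3) :
    (g : G) * D.jv v * (g : G)⁻¹ = D.jv (D.move g v) := (D.act_exists g.2 v).choose_spec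

theorem move_eq {g : Subgroup.normalizer (D.J : Set G)} {v w : V3}
    (h : (g : G) * D.jv v * (g : G)⁻¹ = D.jv w) : D.move g v = w := D.jv_inj ((D.move_spec g v).symm.trans h)

theorem move_mul (g h : Subgroup.normalizer (D.J : Set G)) (v : V3) : D.move (g * h) v = D.move g (D.move h v) := by
  apply D.move_eq
  rw [Subgroup.coe_mul, ← D.move_spec, ← D.move_spec]
  group

theorem move_one (v : V3) : D.move 1 v = v := D.move_eq (by simp)

theorem move_add (g : Subgroup.normalizer (D.J : Set G)) (v w : V3) :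
    D.move g (v + w) = D.move g v + D.move g w := by
  apply D.move_eq
  rw [D.jv_add, D.jv_add, ← D.move_spec, ← D.move_spec]
  group

theorem move_phi (m : Sub 0) (v : V3) : D.move ⟨D.φ m, D.phi_mem_N m⟩ v = act m.1.g v := D.move_eq (D.phi_conj m v)

/-- The action on the translations. -/
noncomputable def moveHom : Subgroup.normalizer (D.J : Set G) →* Perm V3 where
  toFun g :=
    { toFun := D.move g
      invFun := D.move g⁻¹
      left_inv := fun v => by rw [← D.move_mul, inv_mul_cancel, D.move_one]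
      right_inv := fun v => by rw [← D.move_mul, mul_inv_cancel, D.move_one] }
  map_one' := Equiv.ext D.move_one
  map_mul' g h := Equiv.ext (D.move_mul g h)

theorem moveHom_apply (g : Subgroup.normalizer (D.J : Set G)) (v : V3) : D.moveHom g v = D.move g v := rfl

theorem of_fix {g : Subgroup.normalizer (D.J : Set G)} (h : D.move g xv = xv) : ∃ m, D.φ m = (g : G) :=
  D.cent g (mul_inv_eq_iff_eq_mul.mp (by
    have := D.move_spec g xv
    rwa [h] at this))

theorem sub0_small (m : Sub 0) : m.1.g.val < 6 := (pt_facts.2.2.2.2 _).mp m.2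

theorem trivial_move {g : Subgroup.normalizer (D.J : Set G)} (h : ∀ v, D.move g v = v) : (g : G) ∈ D.J := by
  obtain ⟨m, hm⟩ := D.of_fix (h xv)
  obtain ⟨p, hp⟩ := sub0_repr m.2
  have hg : g = ⟨D.φ m, D.phi_mem_N m⟩ := Subtype.ext hm.symm
  have hp0 := perm_kernel p fun v => by
    have := h v
    rw [hg, D.move_phi, hp] at this
    exact this
  rw [← hm]
  refine (D.mem_J _).mpr ⟨m.1.v, congrArg D.φ (Subtype.ext ?_)⟩
  rw [hp, hp0]
  rfl

theorem card_range : Nat.card D.φ.range = 162 := by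
  rw [← Nat.card_congr (MonoidHom.ofInjective D.inj).toEquiv, card_Sub.1]

theorem card_J : Nat.card D.J = 27 := by
  let e : V3 ≃ D.J := Equiv.ofBijective (fun v => ⟨D.jv v, D.jv_mem v⟩)
    ⟨fun v w h => D.jv_inj (congrArg Subtype.val h), fun z => by
      obtain ⟨v, hv⟩ := (D.mem_J _).mp z.2
      exact ⟨v, Subtype.ext hv⟩⟩
  rw [← Nat.card_congr e, Nat.card_eq_fintype_card]
  rfl

theorem ker_moveHom : D.moveHom.ker = D.J.subgroupOf (Subgroup.normalizer (D.J : Set G)) := by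
  ext g
  rw [MonoidHom.mem_ker, Subgroup.mem_subgroupOf]
  constructor
  · intro h
    refine D.trivial_move fun v => ?_
    rw [← D.moveHom_apply, h]
    rfl
  · intro h
    obtain ⟨w, hw⟩ := (D.mem_J _).mp h
    refine Equiv.ext fun v => D.move_eq ?_
    show (g : G) * D.jv v * (g : G)⁻¹ = D.jv v
    rw [← hw]
    show D.jv w * D.jv v * (D.jv w)⁻¹ = D.jv v
    rw [← D.jv_add, add_comm, D.jv_add, mul_inv_cancel_right]

variable [Finite G]

theorem card_normalizer : Nat.card (Subgroup.normalizer (D.J : Set G)) = 27 * Nat.card D.moveHom.range := by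
  rw [← D.moveHom.ker.card_mul_index, D.ker_moveHom,
    Nat.card_congr (Subgroup.subgroupOfEquivOfLe Subgroup.le_normalizer).toEquiv, D.card_J, ← D.ker_moveHom,
    Subgroup.index_ker]

theorem no_large_three (D : Pre G) (Q : Subgroup G) (hQ : IsPGroup 3 Q) : Nat.card Q ≤ 81 := by
  classical
  haveI : Fact (Nat.Prime 3) := ⟨Nat.prime_three⟩
  by_contra hgt
  obtain ⟨P0⟩ := (inferInstance : Nonempty (Sylow 3 D.φ.range))
  set P : Subgroup G := (P0 : Subgroup D.φ.range).map D.φ.range.subtype with hPdef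
  have hP0 : Nat.card P = 81 := by
    rw [hPdef, Subgroup.card_map_of_injective D.φ.range.subtype_injective, Sylow.card_eq_multiplicity, D.card_range,
      show (162 : ℕ) = 2 * 3 ^ 4 by norm_num,
      Nat.factorization_mul (by norm_num) (by norm_num), Nat.prime_three.factorization_pow,
      Nat.Prime.factorization Nat.prime_two]
    simp
  have hPle : P ≤ D.φ.range := Subgroup.map_subtype_le _
  obtain ⟨S1, hS1⟩ := (IsPGroup.of_card (p := 3) (n := 4) (G := P) hP0).exists_le_sylow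
  obtain ⟨S2, hS2⟩ := hQ.exists_le_sylow
  have hS : 81 < Nat.card (S1 : Subgroup G) := by
    rw [S1.card_eq_multiplicity, ← S2.card_eq_multiplicity]
    have := Subgroup.card_le_of_le hS2
    omega
  haveI : Group.IsNilpotent (S1 : Subgroup G) := S1.2.isNilpotent
  have hlt : P.subgroupOf (S1 : Subgroup G) < ⊤ := lt_top_iff_ne_top.mpr fun e => by
    rw [Subgroup.subgroupOf_eq_top] at e
    rw [le_antisymm e hS1, hP0] at hS
    omega
  obtain ⟨⟨n, hnS⟩, hnn, hnP⟩ := SetLike.exists_of_lt (Group.normalizerCondition_of_isNilpotent _ hlt)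
  replace hnP : n ∉ P := hnP
  have hnorm : ∀ z ∈ P, n * z * n⁻¹ ∈ P := fun z hz => (Subgroup.mem_normalizer_iff.mp hnn ⟨z, hS1 hz⟩).mp hz
  have hnorm' : ∀ z ∈ P, n⁻¹ * z * n ∈ P := fun z hz => by
    refine (Subgroup.mem_normalizer_iff.mp hnn ⟨n⁻¹ * z * n, mul_mem (mul_mem (inv_mem hnS) (hS1 hz)) hnS⟩).mpr ?_
    show n * (n⁻¹ * z * n) * n⁻¹ ∈ P
    rw [show n * (n⁻¹ * z * n) * n⁻¹ = z by group]
    exact hz
  -- three-elements of the centralizer lie in the Sylow subgroup
  have hin : ∀ m : Sub 0, IsPGroup 3 (Subgroup.zpowers (D.φ m)) → ∀ P' : Subgroup G, P' ≤ D.φ.range →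
      Nat.card P' = 81 → D.φ m ∈ Subgroup.normalizer (P' : Set G) → D.φ m ∈ P' := by
    intro m hm P' hP' hc hnm
    have hsup := hm.to_sup_of_normal_right' (IsPGroup.of_card (p := 3) (n := 4) (G := P') hc)
      (Subgroup.zpowers_le.mpr hnm)
    have hle : Subgroup.zpowers (D.φ m) ⊔ P' ≤ D.φ.range := sup_le (Subgroup.zpowers_le.mpr ⟨m, rfl⟩) hP'
    obtain ⟨j, hj⟩ := hsup.exists_card_eq
    have hd := Subgroup.card_dvd_of_le hle
    rw [hj, D.card_range] at hd
    have hj4 : j ≤ 4 := by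
      by_contra h
      exact absurd ((pow_dvd_pow 3 (by omega : 5 ≤ j)).trans hd) (by norm_num)
    have : P' = Subgroup.zpowers (D.φ m) ⊔ P' := Subgroup.eq_of_le_of_card_ge le_sup_right (by
      rw [hj, hc]; exact (Nat.pow_le_pow_right (by norm_num) hj4))
    rw [this]
    exact Subgroup.mem_sup_left (Subgroup.mem_zpowers _)
  have hord : ∀ m : Sub 0, (m.1) ^ 9 = 1 → IsPGroup 3 (Subgroup.zpowers (D.φ m)) := fun m hm => by
    refine IsPGroup.of_card (n := Nat.log 3 (orderOf (D.φ m))) ?_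
    have hd : orderOf (D.φ m) ∣ 3 ^ 2 := orderOf_dvd_of_pow_eq_one (by
      rw [← map_pow, show m ^ (3 ^ 2) = 1 from Subtype.ext hm, map_one])
    obtain ⟨i, -, hi⟩ := (Nat.dvd_prime_pow Nat.prime_three).mp hd
    rw [Nat.card_zpowers, hi, Nat.log_pow (by norm_num)]
  -- the translations and the rotation of order three lie in the Sylow subgroup
  have hnormal : ∀ g ∈ D.φ.range, g ∈ Subgroup.normalizer (P : Set G) := by
    have hN : (P.subgroupOf D.φ.range).Normal := Subgroup.normal_of_index_eq_two (by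
      have := (P.subgroupOf D.φ.range).card_mul_index
      rw [Nat.card_congr (Subgroup.subgroupOfEquivOfLe hPle).toEquiv, hP0, D.card_range] at this
      omega)
    intro g hg
    rw [Subgroup.mem_normalizer_iff]
    intro z
    refine ⟨fun hz => hN.conj_mem ⟨z, hPle hz⟩ hz ⟨g, hg⟩, fun hz => ?_⟩
    have hz' : z ∈ D.φ.range := by
      have := mul_mem (mul_mem (inv_mem hg) (hPle hz)) hg
      simpa [mul_assoc] using this
    have := hN.conj_mem ⟨g * z * g⁻¹, hPle hz⟩ hz ⟨g⁻¹, inv_mem hg⟩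
    rw [Subgroup.mem_subgroupOf] at this
    simpa [mul_assoc] using this
  have hmemP : ∀ m : Sub 0, (m.1) ^ 9 = 1 → D.φ m ∈ P := fun m hm =>
    hin m (hord m hm) P hPle hP0 (hnormal _ ⟨m, rfl⟩)
  let jm : V3 → Sub 0 := fun v => ⟨tr v, tr_mem_Sub 0 v⟩
  let rm : Sub 0 := ⟨rot 4, by decide +kernel⟩
  have h9 : ∀ v : V3, (tr v) ^ 9 = 1 := fun v => by
    have h3 : (tr v) ^ 3 = 1 := by
      rw [pow_three', tr_mul, tr_mul, show v + v + v = 0 from (by decide +kernel : ∀ v : V3, v + v + v = 0) v, tr_zero]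
    rw [show (9 : ℕ) = 3 * 3 from rfl, pow_mul, h3, one_pow]
  have hxP : D.φ (jm xv) ∈ P := hmemP _ (h9 xv)
  obtain ⟨m, hm⟩ : ∃ m, D.φ m = n * D.φ (jm xv) * n⁻¹ := hPle (hnorm _ hxP)
  have hcomm : ∀ y : Sub 0, D.φ y ∈ P → m.1 * y.1 = y.1 * m.1 := fun y hy => by
    obtain ⟨y', hy'⟩ : ∃ y', D.φ y' = n⁻¹ * D.φ y * n := hPle (hnorm' _ hy)
    have hc : jm xv * y' = y' * jm xv := by
      refine Subtype.ext ?_
      obtain ⟨p, hp⟩ := sub0_repr y'.2
      show tr xv * y'.1 = y'.1 * tr xv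
      rw [hp, Mon.mul_def, Mon.mul_def, act_one, (rMul_one _).1, (rMul_one _).2.1,
        show act (toR p) xv = xv from (by decide +kernel : ∀ p : Fin 6, act (toR p) xv = xv) p, add_comm]
    have h' : D.φ (jm xv) * D.φ y' = D.φ y' * D.φ (jm xv) := by rw [← map_mul, hc, map_mul]
    refine congrArg Subtype.val (D.inj (a₁ := m * y) (a₂ := y * m) ?_)
    rw [map_mul, map_mul, hm]
    calc n * D.φ (jm xv) * n⁻¹ * D.φ y = n * (D.φ (jm xv) * (n⁻¹ * D.φ y * n)) * n⁻¹ := by group
      _ = n * ((n⁻¹ * D.φ y * n) * D.φ (jm xv)) * n⁻¹ := by rw [← hy', h']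
      _ = _ := by group
  obtain ⟨p, hp⟩ := sub0_repr m.2
  obtain ⟨rfl, hv⟩ : p = 0 ∧ (m.1.v = 0 ∨ m.1.v = xv ∨ m.1.v = -xv) := by
    have h1 := hcomm (jm (1, 0, 0)) (hmemP _ (h9 _))
    have h2 := hcomm rm (hmemP _ (by decide +kernel))
    rw [hp] at h1 h2
    exact center_sub m.1.v p h1 h2
  have hmv : m = jm m.1.v := Subtype.ext (by rw [hp]; rfl)
  rcases hv with e | e | e
  · rw [hmv, e, show jm 0 = 1 from Subtype.ext rfl, map_one, eq_comm, conj_eq_one_iff] at hm
    have := D.inj (hm.trans (map_one D.φ).symm)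
    exact absurd (congrArg (fun z : Sub 0 => z.1.v) this) (by decide +kernel : (xv : V3) ≠ 0)
  all_goals
    have hn2 : ∀ g : G, g * D.φ (jm xv) * g⁻¹ = D.φ (jm xv) → g ∈ Subgroup.normalizer (P : Set G) →
        IsPGroup 3 (Subgroup.zpowers g) → g ∈ P := fun g hg hgn hgp => by
      obtain ⟨y, rfl⟩ := D.cent g (mul_inv_eq_iff_eq_mul.mp hg)
      exact hin y hgp P hPle hP0 hgn
    have hnN : n ∈ Subgroup.normalizer (P : Set G) := Subgroup.mem_normalizer_iff.mpr fun z =>
      ⟨hnorm z, fun hz => by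
        have := hnorm' _ hz
        rwa [show n⁻¹ * (n * z * n⁻¹) * n = z by group] at this⟩
    have hp3 : IsPGroup 3 (Subgroup.zpowers n) := S1.2.to_le (Subgroup.zpowers_le.mpr hnS)
  · exact hnP (hn2 n (by rw [← hm, hmv, e]) hnN hp3)
  · have h2 : n ^ 2 ∈ P := by
      refine hn2 _ ?_ (pow_mem hnN 2) (hp3.to_le (Subgroup.zpowers_le.mpr (pow_mem (Subgroup.mem_zpowers n) 2)))
      have hinv : n * D.φ (jm xv) * n⁻¹ = (D.φ (jm xv))⁻¹ := by
        rw [← hm, hmv, e, ← map_inv]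
        refine congrArg D.φ (Subtype.ext ?_)
        show tr (-xv) = ((jm xv)⁻¹ : Sub 0).1
        simp only [jm, Subgroup.coe_inv, tr_inv]
      rw [pow_two, show n * n * D.φ (jm xv) * (n * n)⁻¹ = n * (n * D.φ (jm xv) * n⁻¹) * n⁻¹ by group, hinv,
        ← conj_inv, hinv, inv_inv]
    obtain ⟨j, hj⟩ := hp3 ⟨n, Subgroup.mem_zpowers n⟩
    have hj' : n ^ 3 ^ j = 1 := congrArg Subtype.val hj
    obtain ⟨i, hi⟩ := (Nat.odd_iff.mpr (by rw [Nat.pow_mod]; norm_num) : Odd (3 ^ j))
    refine hnP ?_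
    have : n = ((n ^ 2) ^ i)⁻¹ := by
      rw [eq_inv_iff_mul_eq_one, ← pow_mul, ← pow_succ', ← hi]
      exact hj'
    rw [this]
    exact inv_mem (pow_mem h2 i)

/-- The image of the action satisfies the linear hypotheses. -/
theorem linData : LinData D.moveHom.range where
  add := by rintro _ ⟨g, rfl⟩ v w; exact D.move_add g v w
  perms r hr := ⟨_, ⟨⟨D.φ ⟨rot r, (pt_facts.2.2.2.2 r).mpr hr⟩, D.phi_mem_N _⟩, rfl⟩, fun v => D.move_phi _ v⟩
  stab := by
    rintro _ ⟨g, rfl⟩ h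
    obtain ⟨m, hm⟩ := D.of_fix h
    refine ⟨m.1.g, sub0_small m, fun v => ?_⟩
    rw [D.moveHom_apply, show g = ⟨D.φ m, D.phi_mem_N m⟩ from Subtype.ext hm.symm, D.move_phi]
  nine := by
    intro h9
    haveI : Fact (Nat.Prime 3) := ⟨Nat.prime_three⟩
    obtain ⟨Q⟩ := (inferInstance : Nonempty (Sylow 3 (Subgroup.normalizer (D.J : Set G))))
    have h := D.no_large_three ((Q : Subgroup _).map (Subgroup.normalizer (D.J : Set G)).subtype) (Q.2.map _)
    rw [Subgroup.card_map_of_injective (Subgroup.normalizer (D.J : Set G)).subtype_injective] at h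
    have h243 : 3 ^ 5 ∣ Nat.card (Subgroup.normalizer (D.J : Set G)) := by
      rw [D.card_normalizer, show (3 : ℕ) ^ 5 = 27 * 9 by norm_num]
      exact mul_dvd_mul_left 27 h9
    have := Nat.le_of_dvd Nat.card_pos (Q.pow_dvd_card_of_pow_dvd_card h243)
    omega

/-- The frame when the rotations are monomial. -/
theorem exists_frame (hmon : ∀ g : Subgroup.normalizer (D.J : Set G), ∃ r, ∀ v, D.move g v = act r v)
    (hsig : ∀ U : Subgroup G, (Nat.card U).Coprime 3 →
      (∀ j ∈ D.J, U.map (MulAut.conj j).toMonoidHom = U) → U = ⊥) :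
    ∃ F : Frame G, F.el (tr xv) = D.jv xv ∧ F.J = D.J := by
  classical
  set N := Subgroup.normalizer (D.J : Set G) with hNdef
  choose rr hrr using hmon
  have hruniq : ∀ g r, (∀ v, D.move g v = act r v) → rr g = r := fun g r h => rot_facts.2.2.2.1 _ _ (by
    rw [show act (rr g) = act r from funext fun v => (hrr g v).symm.trans (h v)])
  have hrmul : ∀ g h, rr (g * h) = rMul (rr g) (rr h) := fun g h => hruniq _ _ fun v => by
    rw [D.move_mul, hrr, hrr, act_mul]
  have hrphi : ∀ m : Sub 0, rr ⟨D.φ m, D.phi_mem_N m⟩ = m.1.g := fun m => hruniq _ _ (D.move_phi m)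
  have hr1 : rr 1 = 0 := hruniq _ _ fun v => by rw [D.move_one, act_one]
  have hrinv : ∀ g, rr g⁻¹ = rInv (rr g) := fun g => by
    have h := hrmul g g⁻¹
    rw [mul_inv_cancel, hr1] at h
    calc rr g⁻¹ = rMul (rMul (rInv (rr g)) (rr g)) (rr g⁻¹) := by rw [(rMul_one _).2.2.1, (rMul_one _).1]
      _ = rMul (rInv (rr g)) (rMul (rr g) (rr g⁻¹)) := rMul_assoc _ _ _
      _ = rInv (rr g) := by rw [← h, (rMul_one _).2.1]
  let pm : Fin 6 → N := fun p => ⟨D.φ ⟨rot (toR p.val), (by decide +kernel : ∀ p : Fin 6, rot (toR p.val) ∈ Sub 0) p⟩,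
    D.phi_mem_N _⟩
  have hpm : ∀ p : Fin 6, rr (pm p) = toR p.val := fun p => hrphi _
  let S : Fin 8 → Bool := fun s => decide (∃ g, rr g = toR (6 * s.val))
  have hsplit : ∀ r : Fin 48, (∃ g, rr g = r) ↔ ∃ g, rr g = toR (6 * (r.val / 6)) := fun r => by
    have hp : r.val % 6 < 6 := Nat.mod_lt _ (by norm_num)
    constructor
    · rintro ⟨g, hg⟩
      refine ⟨g * (pm ⟨_, hp⟩)⁻¹, ?_⟩
      rw [hrmul, hrinv, hpm, hg]
      exact (by decide +kernel : ∀ r : Fin 48, rMul r (rInv (toR (r.val % 6))) = toR (6 * (r.val / 6))) r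
    · rintro ⟨g, hg⟩
      exact ⟨g * pm ⟨_, hp⟩, by rw [hrmul, hg, hpm]; exact (rot_facts.1 r).symm⟩
  obtain ⟨k, hk⟩ := sign_sets S (decide_eq_true ⟨1, hr1⟩)
    (fun s t hs ht => by
      obtain ⟨g, hg⟩ := of_decide_eq_true hs
      obtain ⟨h, hh⟩ := of_decide_eq_true ht
      exact decide_eq_true ⟨g * h, by rw [hrmul, hg, hh]; exact rot_facts.2.1 s t⟩)
    (fun p s hs => by
      obtain ⟨g, hg⟩ := of_decide_eq_true hs
      exact decide_eq_true ⟨pm p * g * (pm p)⁻¹, by rw [hrmul, hrmul, hrinv, hg, hpm]; exact rot_facts.2.2.1 p s⟩)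
  have hmem : ∀ r : Fin 48, (∃ g, rr g = r) ↔ inR k r = true := fun r => by
    rw [hsplit r, inR, ← hk ⟨r.val / 6, by omega⟩]
    exact (decide_eq_true_iff).symm
  have hsec : ∃ w : Fin 48 → N, (∀ r, inR k r = true → rr (w r) = r) ∧
      ∀ r s, inR k r = true → inR k s = true → w (rMul r s) = w r * w s := by
    by_cases hk0 : k = 0
    · let wd : Fin 48 → N := fun r => if h : r.val < 6 then pm ⟨r.val, h⟩ else 1
      have hval : ∀ r (h : r.val < 6), (wd r : G) = D.φ ⟨rot r, (pt_facts.2.2.2.2 r).mpr h⟩ := fun r h => by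
        simp only [wd, dif_pos h]
        exact congrArg D.φ (Subtype.ext (congrArg rot (Fin.ext (Nat.mod_eq_of_lt r.isLt))))
      refine ⟨wd, fun r hr => ?_, fun r s hr hs => ?_⟩
      · rw [hk0] at hr
        have h := (pt_facts.2.2.2.2 r).mp hr
        rw [show wd r = ⟨D.φ ⟨rot r, hr⟩, D.phi_mem_N _⟩ from Subtype.ext (hval r h), hrphi]
      · rw [hk0] at hr hs
        have hrs := ((inR_group 0).2 r hr).2 s hs
        refine Subtype.ext ?_
        rw [Subgroup.coe_mul, hval _ ((pt_facts.2.2.2.2 _).mp hrs), hval _ ((pt_facts.2.2.2.2 _).mp hr),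
          hval _ ((pt_facts.2.2.2.2 _).mp hs), ← map_mul]
        exact congrArg D.φ (Subtype.ext (rot_mul r s).symm)
    · -- the normalizer of a Sylow 2-subgroup of the inverse image of the signs is a complement
      let M : Subgroup N :=
        { carrier := {g | (rr g).val % 6 = 0}
          mul_mem' := fun {a b} ha hb => by
            show (rr (a * b)).val % 6 = 0
            rw [hrmul]
            exact (by decide +kernel : ∀ r s : Fin 48, r.val % 6 = 0 → s.val % 6 = 0 → (rMul r s).val % 6 = 0) _ _ ha hb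
          one_mem' := by show (rr 1).val % 6 = 0; rw [hr1]; rfl
          inv_mem' := fun {a} ha => by
            show (rr a⁻¹).val % 6 = 0
            rw [hrinv]
            exact (by decide +kernel : ∀ r : Fin 48, r.val % 6 = 0 → (rInv r).val % 6 = 0) _ ha }
      have hMn : M.Normal := ⟨fun a ha g => by
        show (rr (g * a * g⁻¹)).val % 6 = 0
        rw [hrmul, hrmul, hrinv]
        exact (by decide +kernel : ∀ r s : Fin 48, s.val % 6 = 0 → (rMul (rMul r s) (rInv r)).val % 6 = 0) _ _ ha⟩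
      haveI : Fact (Nat.Prime 2) := ⟨Nat.prime_two⟩
      obtain ⟨V⟩ := (inferInstance : Nonempty (Sylow 2 M))
      haveI := hMn
      set V' := (V : Subgroup M).map M.subtype with hV'
      set W := Subgroup.normalizer (V' : Set N) with hW
      have hsup : W ⊔ M = ⊤ := Sylow.normalizer_sup_eq_top V
      have hV2 : IsPGroup 2 V' := V.2.map _
      have h8 : ∀ r : Fin 48, r.val % 6 = 0 → rMul r r = 0 := by decide +kernel
      have hsurjV : ∀ m ∈ M, ∃ v ∈ V', rr v = rr m := by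
        intro m hm
        let f : M →* Perm V3 := D.moveHom.comp M.subtype
        have hf3 : IsPGroup 2 (f.range) := by
          rintro ⟨_, z, rfl⟩
          refine ⟨1, Subtype.ext ?_⟩
          show (f z) ^ 2 ^ 1 = 1
          rw [pow_one, pow_two, ← map_mul]
          refine Equiv.ext fun v => ?_
          show D.move ((z : N) * z) v = v
          rw [hrr, hrmul, h8 _ z.2, act_one]
        let Vs := (V : Subgroup M).map f.rangeRestrict
        have hidx : Vs.index ∣ (V : Subgroup M).index :=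
          Subgroup.index_map_dvd _ f.rangeRestrict_surjective
        obtain ⟨i, hi⟩ := hf3.index Vs
        have hi0 : i = 0 := by
          by_contra h
          exact V.not_dvd_index ((dvd_pow_self 2 h).trans (hi ▸ hidx))
        have htop : Vs = ⊤ := Subgroup.index_eq_one.mp (by rw [hi, hi0, pow_zero])
        obtain ⟨z, hz, e⟩ : (⟨f ⟨m, hm⟩, ⟨_, rfl⟩⟩ : f.range) ∈ Vs := htop ▸ Subgroup.mem_top _
        refine ⟨z, ⟨z, hz, rfl⟩, hruniq _ _ fun v => ?_⟩
        rw [← hrr]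
        exact Equiv.congr_fun (congrArg Subtype.val e) v
      have hWJ : ∀ w ∈ W, rr w = 0 → w = 1 := by
        intro w hw hw0
        have hwJ : (w : G) ∈ D.J := D.trivial_move fun v => by rw [hrr, hw0, act_one]
        obtain ⟨v, hv⟩ := (D.mem_J _).mp hwJ
        have hwv : (w : G) = D.jv v := hv.symm
        have hfix : ∀ z ∈ V', act (rr z) v = v := by
          intro z hz
          have h1 : z * w * z⁻¹ * w⁻¹ ∈ V' := by
            rw [show z * w * z⁻¹ * w⁻¹ = z * (w * z⁻¹ * w⁻¹) by group]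
            exact mul_mem hz ((Subgroup.mem_normalizer_iff.mp hw _).mp (inv_mem hz))
          have h2 : ((z * w * z⁻¹ * w⁻¹ : N) : G) ∈ D.J := by
            rw [Subgroup.coe_mul, Subgroup.coe_mul, Subgroup.coe_mul, Subgroup.coe_inv, Subgroup.coe_inv, hwv]
            rw [D.move_spec z v]
            exact mul_mem (D.jv_mem _) (inv_mem (D.jv_mem v))
          set c := z * w * z⁻¹ * w⁻¹ with hcdef
          have h3 : orderOf c ∣ 27 := by
            rw [← D.card_J, ← orderOf_injective N.subtype N.subtype_injective]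
            exact Subgroup.orderOf_dvd_natCard _ h2
          obtain ⟨i, hi⟩ := hV2 ⟨c, h1⟩
          have h4 : orderOf c ∣ 2 ^ i := orderOf_dvd_of_pow_eq_one (congrArg Subtype.val hi)
          have h5 : c = 1 := orderOf_eq_one_iff.mp
            (Nat.eq_one_of_dvd_coprimes (Nat.Coprime.pow_left i (by norm_num)) h4 h3)
          rw [hcdef, mul_inv_eq_one] at h5
          rw [← hrr]
          refine D.move_eq ?_
          rw [← hwv]
          exact congrArg Subtype.val h5
        have hv0 : v = 0 := sign_fixed k hk0 v fun s hs => by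
          obtain ⟨g, hg⟩ := (hmem (toR (6 * s.val))).mpr (by
            have e : (toR (6 * s.val)).val / 6 = s.val := by
              show 6 * s.val % 48 / 6 = s.val
              omega
            rw [inR, e]; exact hs)
          have hgM : g ∈ M := by show (rr g).val % 6 = 0; rw [hg]; show 6 * s.val % 48 % 6 = 0; omega
          obtain ⟨z, hz, ez⟩ := hsurjV g hgM
          rw [← hg, ← ez]
          exact hfix z hz
        refine Subtype.ext ?_
        rw [hwv, hv0]
        show D.φ _ = 1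
        rw [show (⟨tr 0, tr_mem_Sub 0 0⟩ : Sub 0) = 1 from Subtype.ext tr_zero, map_one]
      have hex : ∀ r, inR k r = true → ∃ w ∈ W, rr w = r := by
        intro r hr
        obtain ⟨g, hg⟩ := (hmem r).mpr hr
        obtain ⟨w, hw, m, hm, e⟩ := Subgroup.mem_sup_of_normal_right.mp (hsup ▸ Subgroup.mem_top g)
        obtain ⟨z, hz, ez⟩ := hsurjV m hm
        exact ⟨w * z, mul_mem hw (Subgroup.le_normalizer hz), by rw [hrmul, ez, ← hrmul, e, hg]⟩
      choose w hwW hwr using hex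
      let wd : Fin 48 → N := fun r => if h : inR k r = true then w r h else 1
      have hwd : ∀ r, inR k r = true → wd r ∈ W ∧ rr (wd r) = r := fun r h => by
        simp only [wd, dif_pos h]; exact ⟨hwW r h, hwr r h⟩
      refine ⟨wd, fun r hr => (hwd r hr).2, fun r s hr hs => ?_⟩
      have hrs := ((inR_group k).2 r hr).2 s hs
      refine inv_mul_eq_one.mp (hWJ _ (mul_mem (inv_mem (hwd _ hrs).1) (mul_mem (hwd r hr).1 (hwd s hs).1)) ?_)
      rw [hrmul, hrinv, hrmul, (hwd r hr).2, (hwd s hs).2, (hwd _ hrs).2, (rMul_one _).2.2.1]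
  obtain ⟨w, hwr, hwmul⟩ := hsec
  let el : Mon → G := fun m => D.jv m.v * (w m.g : G)
  have hw0 : w 0 = 1 := by
    have := hwmul 0 0 (inR_group k).1 (inR_group k).1
    rw [(rMul_one 0).1] at this
    exact left_eq_mul.mp this
  have heltr : ∀ v, el (tr v) = D.jv v := fun v => by
    show D.jv v * (w 0 : G) = _
    rw [hw0, Subgroup.coe_one, mul_one]
  have hwconj : ∀ r, inR k r = true → ∀ v, (w r : G) * D.jv v * (w r : G)⁻¹ = D.jv (act r v) := fun r hr v => by
    rw [D.move_spec, hrr, hwr r hr]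
  have hN : ∀ g : N, ∃ m ∈ Sub k, el m = (g : G) := by
    intro g
    have hr := (hmem (rr g)).mp ⟨g, rfl⟩
    have hJ : ((g * (w (rr g))⁻¹ : N) : G) ∈ D.J := D.trivial_move fun v => by
      rw [hrr, hrmul, hrinv, hwr _ hr, (rMul_one _).2.2.2, act_one]
    obtain ⟨v, hv⟩ := (D.mem_J _).mp hJ
    refine ⟨⟨v, rr g⟩, hr, ?_⟩
    show D.jv v * (w (rr g) : G) = g
    rw [jv, hv, Subgroup.coe_mul, Subgroup.coe_inv, inv_mul_cancel_right]
  refine ⟨{ k := k
            el := el
            el_mul := fun a ha b hb => ?_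
            el_inj := fun a ha b hb e => ?_
            J := D.J
            mem_J := fun g => by
              rw [D.mem_J]
              exact exists_congr fun v => by rw [heltr]; rfl
            mem_N := fun g => ⟨fun hg => hN ⟨g, hg⟩, ?_⟩
            cent := fun g hg => ?_
            sig := fun U hU hinv => hsig U hU fun j hj => by
              obtain ⟨v, rfl⟩ := (D.mem_J j).mp hj
              have := hinv v
              rwa [heltr] at this }, heltr xv, rfl⟩
  · show D.jv (a.v + act a.g b.v) * (w (rMul a.g b.g) : G) = D.jv a.v * (w a.g : G) * (D.jv b.v * (w b.g : G))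
    rw [hwmul _ _ ha hb, Subgroup.coe_mul, D.jv_add, ← hwconj _ ha]
    group
  · obtain ⟨v, r⟩ := a
    obtain ⟨v', r'⟩ := b
    change D.jv v * (w r : G) = D.jv v' * (w r' : G) at e
    have hj : D.jv (-v' + v) = (w r' : G) * (w r : G)⁻¹ := by
      rw [D.jv_add, eq_mul_inv_iff_mul_eq, mul_assoc, e, ← mul_assoc, ← D.jv_add, neg_add_cancel]
      show D.φ _ * _ = _
      rw [show (⟨tr 0, tr_mem_Sub 0 0⟩ : Sub 0) = 1 from Subtype.ext tr_zero, map_one, one_mul]
    have h0 : rr (w r' * (w r)⁻¹) = 0 := by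
      refine hruniq _ _ fun u => D.move_eq ?_
      rw [Subgroup.coe_mul, Subgroup.coe_inv, ← hj, act_one, ← D.jv_add, add_comm, D.jv_add, mul_inv_cancel_right]
    rw [hrmul, hrinv, hwr _ ha, hwr _ hb] at h0
    have : r' = r := by
      calc r' = rMul (rMul r' (rInv r)) r := by rw [rMul_assoc, (rMul_one _).2.2.1, (rMul_one _).2.1]
        _ = r := by rw [h0, (rMul_one _).1]
    subst this
    rw [D.jv_inj (mul_right_cancel e)]
  · rintro ⟨m, -, rfl⟩
    exact mul_mem (Subgroup.le_normalizer (D.jv_mem _)) (w m.g).2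
  · rw [heltr] at hg
    obtain ⟨m, rfl⟩ := D.cent g hg
    obtain ⟨m', hm', e⟩ := hN ⟨D.φ m, D.phi_mem_N m⟩
    refine ⟨m', ?_, e⟩
    have hg' : rr ⟨D.φ m, D.phi_mem_N m⟩ = m'.g := hruniq _ _ fun v => D.move_eq (by
      show D.φ m * D.jv v * (D.φ m)⁻¹ = _
      rw [← show el m' = D.φ m from e]
      show D.jv m'.v * (w m'.g : G) * D.jv v * (D.jv m'.v * (w m'.g : G))⁻¹ = _
      rw [show D.jv m'.v * (w m'.g : G) * D.jv v * (D.jv m'.v * (w m'.g : G))⁻¹ =
        D.jv m'.v * ((w m'.g : G) * D.jv v * (w m'.g : G)⁻¹) * (D.jv m'.v)⁻¹ by group, hwconj _ hm', ← D.jv_add,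
        add_comm, D.jv_add, mul_inv_cancel_right])
    rw [mem_Sub, ← hg', hrphi]
    exact m.2

end Pre

/-- The frame of a group satisfying the hypotheses. -/
theorem exists_frame_of_data [Finite G] (x : G) (hx : orderOf x = 3)
    (eC : Subgroup.centralizer ({x} : Set G) ≃* Subgroup.centralizer ({x9} : Set (Perm (Fin 9))))
    (J : Subgroup G) (hJC : J ≤ Subgroup.centralizer ({x} : Set G)) (hJcomm : ∀ a ∈ J, ∀ b ∈ J, a * b = b * a)
    (hJcard : Nat.card J = 27)
    (hJsig : ∀ K : Subgroup G, (Nat.card K).Coprime 3 → (∀ j ∈ J, K.map (MulAut.conj j).toMonoidHom = K) → K = ⊥) :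
    ∃ F : Frame G, F.J = J := by
  classical
  set C := Subgroup.centralizer ({x} : Set G) with hC
  let θ : Sub 0 ≃* Subgroup.centralizer ({x9} : Set (Perm (Fin 9))) :=
    (MonoidHom.ofInjective theta_inj).trans (MulEquiv.subgroupCongr theta_range)
  let e : Sub 0 ≃* C := θ.trans eC.symm
  let φ0 : Sub 0 →* G := C.subtype.comp e.toMonoidHom
  have hφ0 : Function.Injective φ0 := C.subtype_injective.comp e.injective
  have hφr : ∀ g ∈ C, ∃ m, φ0 m = g := fun g hg => ⟨e.symm ⟨g, hg⟩, by simp [φ0]⟩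
  -- the translations
  have htr : ∀ g, g ∈ J ↔ ∃ v, φ0 ⟨tr v, tr_mem_Sub 0 v⟩ = g := by
    let D0 : Subgroup Mon := (J.comap φ0).map (Sub 0).subtype
    have hc : ∀ a ∈ D0, ∀ b ∈ D0, a * b = b * a := by
      rintro _ ⟨a, ha, rfl⟩ _ ⟨b, hb, rfl⟩
      exact congrArg Subtype.val (hφ0 (a₁ := a * b) (a₂ := b * a) (by rw [map_mul, map_mul]; exact hJcomm _ ha _ hb))
    have hmap : (J.comap φ0).map φ0 = J := Subgroup.map_comap_eq_self fun g hg => hφr g (hJC hg)
    have h27 : Nat.card D0 = 27 := by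
      rw [Subgroup.card_map_of_injective (Sub 0).subtype_injective, ← Subgroup.card_map_of_injective hφ0, hmap, hJcard]
    have hD := eq_transl hc h27
    intro g
    constructor
    · intro hg
      obtain ⟨m, rfl⟩ := hφr g (hJC hg)
      have hmD : (m : Mon) ∈ transl := hD ▸ ⟨m, hg, rfl⟩
      refine ⟨m.1.v, congrArg φ0 (Subtype.ext ?_)⟩
      obtain ⟨⟨v, r⟩, hm⟩ := m
      obtain rfl : r = 0 := hmD
      rfl
    · rintro ⟨v, rfl⟩
      obtain ⟨m, hm, e'⟩ : tr v ∈ D0 := hD ▸ tr_mem v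
      rwa [show (⟨tr v, tr_mem_Sub 0 v⟩ : Sub 0) = m from Subtype.ext e'.symm]
  -- the central element
  obtain ⟨m, hm⟩ := hφr x (Subgroup.mem_centralizer_singleton_iff.mpr rfl)
  obtain ⟨p, hp⟩ := sub0_repr m.2
  have hcomm : ∀ y : Sub 0, m.1 * y.1 = y.1 * m.1 := fun y =>
    congrArg Subtype.val (hφ0 (a₁ := m * y) (a₂ := y * m) (by
      rw [map_mul, map_mul, hm]
      exact (Subgroup.mem_centralizer_singleton_iff.mp (e y).2).symm))
  have hv : p = 0 ∧ (m.1.v = 0 ∨ m.1.v = xv ∨ m.1.v = -xv) := by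
    have h1 := hcomm ⟨tr (1, 0, 0), tr_mem_Sub 0 _⟩
    have h2 := hcomm ⟨rot 4, by decide +kernel⟩
    rw [hp] at h1 h2
    exact center_sub m.1.v p h1 h2
  have hmv : m = ⟨tr m.1.v, tr_mem_Sub 0 _⟩ := Subtype.ext (by rw [hp, hv.1]; rfl)
  obtain ⟨φ, hφ, hφx, hφJ, hφC⟩ : ∃ φ : Sub 0 →* G, Function.Injective φ ∧ φ ⟨tr xv, tr_mem_Sub 0 xv⟩ = x ∧
      (∀ g, g ∈ J ↔ ∃ v, φ ⟨tr v, tr_mem_Sub 0 v⟩ = g) ∧ ∀ g ∈ C, ∃ m, φ m = g := by
    rcases hv.2 with h | h | h
    · exfalso
      rw [hmv, h, show (⟨tr 0, tr_mem_Sub 0 0⟩ : Sub 0) = 1 from Subtype.ext tr_zero, map_one] at hm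
      rw [← hm, orderOf_one] at hx
      norm_num at hx
    · exact ⟨φ0, hφ0, by rw [← hm]; exact congrArg φ0 (Subtype.ext (by rw [hmv, h])), htr, hφr⟩
    · let neg : Sub 0 →* Sub 0 :=
        { toFun := fun a => ⟨⟨-a.1.v, a.1.g⟩, a.2⟩
          map_one' := Subtype.ext (by show (⟨-0, 0⟩ : Mon) = ⟨0, 0⟩; rw [neg_zero])
          map_mul' := fun a b => Subtype.ext (by
            show (⟨-(a.1.v + act a.1.g b.1.v), rMul a.1.g b.1.g⟩ : Mon) = ⟨-a.1.v + act a.1.g (-b.1.v), rMul a.1.g b.1.g⟩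
            rw [act_neg, neg_add]) }
      have hnn : ∀ a, neg (neg a) = a := fun a => Subtype.ext (by
        show (⟨- -a.1.v, a.1.g⟩ : Mon) = a.1
        rw [neg_neg])
      refine ⟨φ0.comp neg, hφ0.comp (Function.LeftInverse.injective hnn), ?_, fun g => ?_, fun g hg => ?_⟩
      · rw [← hm]
        exact congrArg φ0 (Subtype.ext (by rw [hmv, h]; rfl))
      · rw [htr]
        exact ⟨fun ⟨v, hv'⟩ => ⟨-v, by rw [← hv']; exact congrArg φ0 (Subtype.ext (by show (⟨- -v, 0⟩ : Mon) = tr v; rw [neg_neg]))⟩,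
          fun ⟨v, hv'⟩ => ⟨-v, hv'⟩⟩
      · obtain ⟨a, ha⟩ := hφr g hg
        exact ⟨neg a, by rw [MonoidHom.comp_apply, hnn]; exact ha⟩
  let D : Pre G :=
    { φ := φ
      inj := hφ
      cent := fun g hg => hφC g (Subgroup.mem_centralizer_singleton_iff.mpr (by rwa [hφx] at hg))
      J := J
      mem_J := hφJ }
  obtain ⟨b, hb⟩ := D.linData.monomial
  have hLa : ∀ v, Lb b (Lb (-b) v) = v := fun v => by
    have := (Lb_facts (-b)).1 v
    rwa [neg_neg] at this
  let tw : Sub 0 →* Sub 0 :=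
    { toFun := fun a => ⟨⟨Lb b a.1.v, a.1.g⟩, a.2⟩
      map_one' := Subtype.ext (by
        show (⟨Lb b 0, 0⟩ : Mon) = ⟨0, 0⟩
        rw [show Lb b 0 = 0 from (by decide +kernel : ∀ b : ZMod 3, Lb b 0 = 0) b])
      map_mul' := fun a c => Subtype.ext (by
        show (⟨Lb b (a.1.v + act a.1.g c.1.v), rMul a.1.g c.1.g⟩ : Mon) =
          ⟨Lb b a.1.v + act a.1.g (Lb b c.1.v), rMul a.1.g c.1.g⟩
        rw [Lb_add, (Lb_facts b).2.2 _ ((pt_facts.2.2.2.2 _).mp a.2)]) }
  let D' : Pre G :=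
    { φ := φ.comp tw
      inj := hφ.comp fun a c h => by
        have h' := congrArg Subtype.val h
        refine Subtype.ext ?_
        rw [← Mon.equivProd.injective.eq_iff]
        have hg' := congrArg (fun m : Mon => m.g) h'
        refine Prod.ext ?_ (show a.1.g = c.1.g from hg')
        have hv' : Lb b a.1.v = Lb b c.1.v := congrArg (fun m : Mon => m.v) h'
        have := congrArg (Lb (-b)) hv'
        rwa [(Lb_facts b).1, (Lb_facts b).1] at this
      cent := fun g hg => by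
        have hx' : (φ.comp tw) ⟨tr xv, tr_mem_Sub 0 xv⟩ = φ ⟨tr xv, tr_mem_Sub 0 xv⟩ :=
          congrArg φ (Subtype.ext (by show (⟨Lb b xv, 0⟩ : Mon) = tr xv; rw [(Lb_facts b).2.1]))
        obtain ⟨a, ha⟩ := D.cent g (by rwa [hx'] at hg)
        refine ⟨⟨⟨Lb (-b) a.1.v, a.1.g⟩, a.2⟩, ?_⟩
        rw [← ha]
        refine congrArg φ (Subtype.ext ?_)
        show (⟨Lb b (Lb (-b) a.1.v), a.1.g⟩ : Mon) = a.1
        rw [hLa]
      J := J
      mem_J := fun g => by
        rw [hφJ]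
        constructor
        · rintro ⟨v, hv⟩
          refine ⟨Lb (-b) v, ?_⟩
          rw [← hv]
          refine congrArg φ (Subtype.ext ?_)
          show (⟨Lb b (Lb (-b) v), 0⟩ : Mon) = tr v
          rw [hLa]
        · rintro ⟨v, hv⟩
          exact ⟨Lb b v, hv⟩ }
  have hmon : ∀ g : Subgroup.normalizer (D'.J : Set G), ∃ r, ∀ v, D'.move g v = act r v := by
    intro g
    obtain ⟨r, hr⟩ := hb (D.moveHom g) ⟨g, rfl⟩
    refine ⟨r, fun v => D'.move_eq ?_⟩
    show (g : G) * D.jv (Lb b v) * (g : G)⁻¹ = D.jv (Lb b (act r v))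
    rw [← hr v, D.moveHom_apply]
    exact D.move_spec g (Lb b v)
  obtain ⟨F, -, hF⟩ := D'.exists_frame hmon hJsig
  exact ⟨F, hF⟩

end CfsgLib.Sym9Three
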