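import Cfsg.Agent.S3331
import Cfsg.Agent.Lib.Basic
import Cfsg.Agent.Lib.SLCard
import Cfsg.Agent.Lib.ThreeCC.Local
import Mathlib.GroupTheory.SpecificGroups.Alternating
import Mathlib.GroupTheory.Perm.Cycle.Type

set_option autoImplicit false
set_option linter.style.haveILetI false

/-!
A self-centralizing subgroup of order three that normalizes no nontrivial subgroup of order prime to three.
-/

namespace CfsgLib.Sym9Three

open Subgroup Equiv

theorem alt5_four : ∀ σ : Perm (Fin 5), σ * σ * σ = 1 → σ ≠ 1 → ∃ a b c d : Fin 5,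
    (a ≠ b ∧ c ≠ d) ∧ (swap a b * swap c d) * (swap a b * swap c d) = 1 ∧ swap a b * swap c d ≠ 1 ∧
      (swap a b * swap c d) * (σ * (swap a b * swap c d) * σ⁻¹) = (σ * (swap a b * swap c d) * σ⁻¹) * (swap a b * swap c d) ∧
      σ * (σ * (swap a b * swap c d) * σ⁻¹) * σ⁻¹ = (swap a b * swap c d) * (σ * (swap a b * swap c d) * σ⁻¹) := by
  decide +kernel

universe u

variable {M : Type u} [Group M] [Finite M]

/-- The subgroup of order three is normal. -/
theorem sc_three_normal (X : Subgroup M) (hX : Nat.card X = 3) (hC : Subgroup.centralizer (X : Set M) = X)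
    (hinv : ∀ U : Subgroup M, (Nat.card U).Coprime 3 → X ≤ Subgroup.normalizer (U : Set M) → U = ⊥) : X.Normal := by
  haveI : Fact (Nat.Prime 3) := ⟨Nat.prime_three⟩
  have hXle : ∀ {U : Subgroup M}, U.Normal → X ≤ Subgroup.normalizer (U : Set M) := fun {U} hU => by
    haveI := hU
    rw [Subgroup.normalizer_eq_top]
    exact le_top
  obtain ⟨⟨x, hxX⟩, hgen⟩ := (isCyclic_of_prime_card hX).exists_generator
  have hxo : orderOf x = 3 := by
    rw [← hX, ← orderOf_eq_card_of_forall_mem_zpowers hgen, Subgroup.orderOf_mk]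
  rcases Cfsg.Agent.S3331.result X hX hC with ⟨L, hL, -, hL3, hcase⟩ | ⟨L, hL, -, hL2, ⟨e⟩⟩ | ⟨⟨e⟩⟩
  · obtain rfl := hinv L hL3 (hXle hL)
    suffices hi : X.index = 1 ∨ X.index = 2 from
      hi.elim Subgroup.normal_of_index_eq_one Subgroup.normal_of_index_eq_two
    have h1 := X.card_mul_index
    rw [hX] at h1
    rw [Nat.card_congr (QuotientGroup.quotientBot (G := M)).toEquiv] at hcase
    rcases hcase with h | ⟨⟨e⟩⟩
    · omega
    · have h6 : Nat.card M = 6 := by
        rw [Nat.card_congr (QuotientGroup.quotientBot (G := M)).toEquiv.symm, Nat.card_congr e.toEquiv,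
          Nat.card_perm, Nat.card_fin]
        rfl
      omega
  · exfalso
    have hL3 : (Nat.card L).Coprime 3 := by
      rw [Nat.coprime_comm, Nat.prime_three.coprime_iff_not_dvd]
      intro h
      obtain ⟨⟨z, hz⟩, ho⟩ := exists_prime_orderOf_dvd_card' 3 h
      rw [Subgroup.orderOf_mk] at ho
      have h2 := orderOf_dvd_of_pow_eq_one (hL2 z hz)
      rw [ho] at h2
      norm_num at h2
    obtain rfl := hinv L hL3 (hXle hL)
    let e' : M ≃* alternatingGroup (Fin 5) := (QuotientGroup.quotientBot (G := M)).symm.trans e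
    set σ : Perm (Fin 5) := (e' x : Perm (Fin 5)) with hσ
    have hσo : orderOf σ = 3 := by rw [hσ, Subgroup.orderOf_coe, MulEquiv.orderOf_eq, hxo]
    obtain ⟨a, b, c, d, ⟨hab, hcd⟩, h1, h2, h3, h4⟩ := alt5_four σ
      (by rw [← pow_three', ← hσo, pow_orderOf_eq_one])
      (fun e1 => by rw [e1, orderOf_one] at hσo; norm_num at hσo)
    let τ : M := e'.symm ⟨swap a b * swap c d, by
      rw [Equiv.Perm.mem_alternatingGroup, map_mul, Equiv.Perm.sign_swap hab, Equiv.Perm.sign_swap hcd]; norm_num⟩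
    have hτ : ((e' τ : alternatingGroup (Fin 5)) : Perm (Fin 5)) = swap a b * swap c d := by
      simp [τ]
    have hinj : ∀ p q : M, ((e' p : alternatingGroup (Fin 5)) : Perm (Fin 5)) = (e' q : alternatingGroup (Fin 5)) → p = q :=
      fun p q h => e'.injective (Subtype.ext h)
    set τ' := x * τ * x⁻¹ with hτ'
    have t1 : τ * τ = 1 := hinj _ _ (by simp [hτ, h1])
    have t3 : τ * τ' = τ' * τ := hinj _ _ (by simp only [hτ', map_mul, map_inv, Subgroup.coe_mul, Subgroup.coe_inv, hτ, ← hσ]; exact h3)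
    have t4 : x * τ' * x⁻¹ = τ * τ' := hinj _ _ (by simp only [hτ', map_mul, map_inv, Subgroup.coe_mul, Subgroup.coe_inv, hτ, ← hσ]; exact h4)
    have t2 : τ' * τ' = 1 := by
      rw [hτ', show x * τ * x⁻¹ * (x * τ * x⁻¹) = x * (τ * τ) * x⁻¹ by group, t1, mul_one, mul_inv_cancel]
    have t5 : τ' * (τ * τ') = τ := by rw [t3, ← mul_assoc, t2, one_mul]
    have t6 : τ * τ' * τ = τ' := by rw [t3, mul_assoc, t1, mul_one]
    have t7 : τ * τ' * τ' = τ := by rw [mul_assoc, t2, mul_one]
    have t8 : τ * (τ * τ') = τ' := by rw [← mul_assoc, t1, one_mul]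
    let U : Subgroup M :=
      { carrier := {z | z = 1 ∨ z = τ ∨ z = τ' ∨ z = τ * τ'}
        mul_mem' := by
          rintro p q (rfl | rfl | rfl | rfl) (rfl | rfl | rfl | rfl) <;>
            simp [t1, t2, t5, t6, t7, t8, ← t3, show τ * τ' * (τ * τ') = 1 by rw [← mul_assoc, t6, t2]]
        one_mem' := Or.inl rfl
        inv_mem' := by
          rintro _ (rfl | rfl | rfl | rfl)
          · exact Or.inl inv_one
          · exact Or.inr (Or.inl (inv_eq_of_mul_eq_one_right t1))
          · exact Or.inr (Or.inr (Or.inl (inv_eq_of_mul_eq_one_right t2)))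
          · exact Or.inr (Or.inr (Or.inr (inv_eq_of_mul_eq_one_right (by rw [← mul_assoc, t6, t2])))) }
    have hU2 : ∀ z ∈ U, z * z = 1 := by
      rintro _ (rfl | rfl | rfl | rfl)
      exacts [one_mul 1, t1, t2, by rw [← mul_assoc, t6, t2]]
    have hU3 : (Nat.card U).Coprime 3 := by
      rw [Nat.coprime_comm, Nat.prime_three.coprime_iff_not_dvd]
      intro h
      obtain ⟨⟨z, hz⟩, ho⟩ := exists_prime_orderOf_dvd_card' 3 h
      rw [Subgroup.orderOf_mk] at ho
      have h2 := orderOf_dvd_of_pow_eq_one (x := z) (n := 2) (by rw [pow_two]; exact hU2 z hz)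
      rw [ho] at h2
      norm_num at h2
    have hxmap : ∀ z ∈ U, x * z * x⁻¹ ∈ U := by
      rintro _ (rfl | rfl | rfl | rfl)
      · exact Or.inl (by group)
      · exact Or.inr (Or.inr (Or.inl hτ'.symm))
      · exact Or.inr (Or.inr (Or.inr t4))
      · refine Or.inr (Or.inl ?_)
        rw [show x * (τ * τ') * x⁻¹ = x * τ * x⁻¹ * (x * τ' * x⁻¹) by group, ← hτ', t4, t5]
    have hxn : x ∈ Subgroup.normalizer (U : Set M) := by
      rw [Subgroup.mem_normalizer_iff]
      intro z
      refine ⟨hxmap z, fun hz => ?_⟩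
      have := hxmap _ (hxmap _ hz)
      have hx3 : x ^ 3 = 1 := by rw [← hxo, pow_orderOf_eq_one]
      rwa [show x * (x * (x * z * x⁻¹) * x⁻¹) * x⁻¹ = x * x * x * z * (x * x * x)⁻¹ by group, ← pow_three', hx3, one_mul, inv_one, mul_one]
        at this
    have hbot := hinv U hU3 fun y hy => by
      obtain ⟨k, hk⟩ := Subgroup.mem_zpowers_iff.mp (hgen ⟨y, hy⟩)
      have hk' : x ^ k = y := congrArg Subtype.val hk
      rw [← hk']
      exact zpow_mem hxn k
    have hτU : τ ∈ U := Or.inr (Or.inl rfl)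
    rw [hbot, Subgroup.mem_bot] at hτU
    exact h2 (by rw [← hτ, hτU, map_one, Subgroup.coe_one])
  · exfalso
    haveI : Fact (Nat.Prime 7) := ⟨by norm_num⟩
    have hcard : Nat.card M = 168 := by rw [Nat.card_congr e.toEquiv, CfsgLib.ThreeCC.card_psl_two_seven]
    obtain ⟨P⟩ := (inferInstance : Nonempty (Sylow 7 M))
    have hn := card_sylow_modEq_one 7 M
    have hd : Nat.card (Sylow 7 M) ∣ 168 := hcard ▸ P.card_dvd_index.trans (Subgroup.index_dvd_card _)
    have h3 : ¬ 3 ∣ Nat.card (Sylow 7 M) := by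
      intro h
      obtain ⟨j, hj⟩ := h
      have hle := Nat.le_of_dvd (by norm_num) hd
      rw [hj] at hd hn hle
      rw [Nat.ModEq] at hn
      have : j ≤ 56 := by omega
      interval_cases j <;> omega
    have hp : IsPGroup 3 (Subgroup.zpowers x) := IsPGroup.of_card (n := 1) (by rw [Nat.card_zpowers, hxo, pow_one])
    obtain ⟨Q, hQ⟩ := hp.nonempty_fixed_point_of_prime_not_dvd_card (Sylow 7 M) h3
    have hQ7 : Nat.card (Q : Subgroup M) = 7 := by
      rw [Q.card_eq_multiplicity, hcard, show (168 : ℕ) = 24 * 7 ^ 1 by norm_num,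
        Nat.factorization_mul (by norm_num) (by norm_num), Nat.Prime.factorization_pow (by norm_num)]
      simp [Nat.factorization_eq_zero_of_not_dvd (show ¬ 7 ∣ 24 by norm_num)]
    have hbot := hinv Q (by rw [hQ7]; norm_num) fun y hy => by
      obtain ⟨k, hk⟩ := Subgroup.mem_zpowers_iff.mp (hgen ⟨y, hy⟩)
      have hy' : y ∈ Subgroup.zpowers x := ⟨k, congrArg Subtype.val hk⟩
      exact Sylow.smul_eq_iff_mem_normalizer.mp (hQ ⟨y, hy'⟩)
    rw [hbot, Subgroup.card_bot] at hQ7
    omega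

end CfsgLib.Sym9Three
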