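import Cfsg.Agent.Lib.Sym9Three.Inv9
import Cfsg.Agent.Lib.CharTheory.Induced
import Cfsg.Agent.Lib.CharTheory.Linear

set_option autoImplicit false
set_option linter.style.haveILetI false

/-!
The four exceptional generalized characters of the inverted subgroup of order nine.
-/

namespace CfsgLib.Sym9Three

open Cfsg CfsgLib.CharTheory
open scoped ComplexConjugate

universe u

/-- A primitive cube root of unity. -/
noncomputable def om : ℂ := (-1 + (Real.sqrt 3 : ℝ) * Complex.I) / 2

theorem om_sq : om ^ 2 = -1 - om := by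
  have hs : ((Real.sqrt 3 : ℝ) : ℂ) ^ 2 = 3 := by
    rw [← Complex.ofReal_pow, Real.sq_sqrt (by norm_num)]; norm_num
  unfold om
  linear_combination (Complex.I ^ 2 / 4) * hs + (3 / 4 : ℂ) * Complex.I_sq

theorem om_cube : om ^ 3 = 1 := by linear_combination (om - 1) * om_sq

theorem om_conj : conj om = om ^ 2 := by
  rw [om_sq]
  simp only [om, map_div₀, map_add, map_neg, map_one, map_mul, Complex.conj_ofReal, Complex.conj_I, map_ofNat]
  ring

theorem om_ne_one : om ≠ 1 := fun e => by
  have h := om_sq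
  rw [e] at h
  norm_num at h

/-- The character of the group of order three. -/
noncomputable def chi (k : ZMod 3) : ℂ := om ^ k.val

theorem z3_cases : ∀ k : ZMod 3, k = 0 ∨ k = 1 ∨ k = 2 := by decide +kernel

theorem chi_zero : chi 0 = 1 := pow_zero _

theorem chi_add (j k : ZMod 3) : chi (j + k) = chi j * chi k := by
  rw [chi, chi, chi, ← pow_add, ZMod.val_add, ← pow_eq_pow_mod _ om_cube]

theorem chi_pair (k : ZMod 3) : chi k + chi (-k) = if k = 0 then 2 else -1 := by
  rcases z3_cases k with rfl | rfl | rfl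
  · rw [neg_zero, chi_zero, if_pos rfl]; norm_num
  · rw [if_neg (by decide), chi, chi, show ((1 : ZMod 3)).val = 1 from rfl, show (-(1 : ZMod 3)).val = 2 from rfl]
    linear_combination om_sq
  · rw [if_neg (by decide), chi, chi, show ((2 : ZMod 3)).val = 2 from rfl, show (-(2 : ZMod 3)).val = 1 from rfl]
    linear_combination om_sq

theorem chi_conj (k : ZMod 3) : conj (chi k) = chi (-k) := by
  rcases z3_cases k with rfl | rfl | rfl
  · simp [chi_zero]
  · rw [chi, chi, show ((1 : ZMod 3)).val = 1 from rfl, show (-(1 : ZMod 3)).val = 2 from rfl, pow_one, om_conj]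
  · rw [chi, chi, show ((2 : ZMod 3)).val = 2 from rfl, show (-(2 : ZMod 3)).val = 1 from rfl, map_pow, om_conj]
    linear_combination om * om_cube

theorem chi_norm (k : ZMod 3) : chi k * conj (chi k) = 1 := by
  rw [chi_conj, ← chi_add, add_neg_cancel, chi_zero]

/-- The four functionals up to sign. -/
def dl (l : Fin 4) (v : V2) : ZMod 3 :=
  if l = 0 then v.1 else if l = 1 then v.2 else if l = 2 then v.1 + v.2 else v.1 + 2 * v.2

theorem dl_add : ∀ l v w, dl l (v + w) = dl l v + dl l w := by decide +kernel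

theorem dl_facts : ∀ l, dl l 0 = 0 ∧ ∀ v, dl l (-v) = -dl l v := by decide +kernel

/-- The value of the function attached to a functional. -/
def fv (l : Fin 4) (v : V2) : ℤ := if dl l v = 0 then 0 else 3

theorem fv_facts : (∀ l, fv l 0 = 0 ∧ ∀ v, fv l (-v) = fv l v) ∧
    (∀ l m, ∑ v : V2, fv l v * fv m v = if l = m then 54 else 36) ∧ (∀ l, ∑ v : V2, fv l v = 18) ∧
    (∀ v : V2, v ≠ 0 → ∑ l, fv l v = 9) ∧ ∀ v : V2, v ≠ 0 → ∃ l, fv l v = 3 := by decide +kernel

namespace Inv9

variable {G : Type u} [Group G] (D : Inv9 G)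

/-- The subgroup as a homomorphism. -/
def embHom : Multiplicative V2 →* G where
  toFun v := D.emb v.toAdd
  map_one' := D.emb_zero
  map_mul' v w := D.emb_add _ _

/-- The subgroup. -/
abbrev A : Subgroup G := D.embHom.range

/-- The coordinates of the subgroup. -/
noncomputable def coord : V2 ≃ D.A :=
  Multiplicative.ofAdd.trans (MonoidHom.ofInjective (f := D.embHom) fun _ _ h =>
    Multiplicative.toAdd.injective (D.emb_inj h)).toEquiv

theorem coord_val (v : V2) : ((D.coord v : D.A) : G) = D.emb v := rfl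

theorem card_A : Nat.card D.A = 9 := by rw [← Nat.card_congr D.coord, Nat.card_eq_fintype_card]; rfl

/-- The linear character of a functional. -/
noncomputable def lin (l : Fin 4) : D.A →* ℂˣ :=
  MonoidHom.comp
    { toFun := fun v => Units.mk0 (chi (dl l (Multiplicative.toAdd v))) (fun e => by
        have := chi_norm (dl l (Multiplicative.toAdd v))
        rw [e, zero_mul] at this
        exact zero_ne_one this)
      map_one' := Units.ext (by simp [(dl_facts l).1, chi_zero])
      map_mul' := fun v w => Units.ext (by simp [dl_add, chi_add]) }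
    (MonoidHom.ofInjective (f := D.embHom) fun _ _ h => Multiplicative.toAdd.injective (D.emb_inj h)).symm.toMonoidHom

theorem lin_coord (l : Fin 4) (v : V2) : ((D.lin l (D.coord v) : ℂˣ) : ℂ) = chi (dl l v) := by
  simp [lin, coord]

/-- The function on the subgroup. -/
noncomputable def fA (l : Fin 4) : D.A → ℂ := fun a => 1 - (D.lin l a : ℂ)

theorem fA_pair (l : Fin 4) (v : V2) : D.fA l (D.coord v) + D.fA l (D.coord (-v)) = (fv l v : ℂ) := by
  have h := chi_pair (dl l v)
  simp only [fA, lin_coord, (dl_facts l).2, fv]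
  split <;> rename_i hc
  · rw [if_pos hc] at h; push_cast; linear_combination -h
  · rw [if_neg hc] at h; push_cast; linear_combination -h

theorem fA_isGenChar (l : Fin 4) : IsGeneralizedCharacter D.A (D.fA l) :=
  ⟨_, _, isCharacter_one, isCharacter_of_irr (isIrrCharacter_linear (D.lin l)), rfl⟩

theorem t_emb_conj (v : V2) : D.t * D.emb v * D.t⁻¹ = D.emb (-v) := mul_inv_eq_iff_eq_mul.mpr (D.t_emb v)

variable [Fintype G]

/-- The exceptional generalized character. -/
noncomputable def F (l : Fin 4) : G → ℂ := indFun D.A (D.fA l)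

theorem F_isGenChar (l : Fin 4) : IsGeneralizedCharacter G (D.F l) := by
  haveI := Fintype.ofFinite D.A
  exact isGenChar_indFun D.A (D.fA_isGenChar l)

theorem F_class (l : Fin 4) : IsClassFunction G (D.F l) := indFun_isClassFunction _ _

theorem F_emb (l : Fin 4) (v : V2) : D.F l (D.emb v) = (fv l v : ℂ) := by
  classical
  by_cases hv : v = 0
  · subst hv
    rw [(fv_facts.1 l).1, D.emb_zero, Int.cast_zero, F, indFun_apply_one]
    have : D.fA l 1 = 0 := by simp [fA]
    rw [this, mul_zero]
  have hterm : ∀ y : G, extendByZero D.A (D.fA l) (y⁻¹ * D.emb v * y) ≠ 0 → y ∈ D.N := by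
    intro y hy
    by_contra hN
    refine hy (extendByZero_of_not_mem _ _ ?_)
    rintro ⟨w, hw⟩
    exact hN ((inv_mem_iff (H := D.N)).mp (D.mem_N_of_ctrl (v := v) (w := Multiplicative.toAdd w) hv (by
      rw [inv_inv]; exact hw.symm)))
  have hsum : ∑ y : G, extendByZero D.A (D.fA l) (y⁻¹ * D.emb v * y) =
      ∑ p : P18, extendByZero D.A (D.fA l) ((D.n2 p)⁻¹ * D.emb v * D.n2 p) := by
    rw [← Finset.sum_image (g := D.n2) (f := fun y => extendByZero D.A (D.fA l) (y⁻¹ * D.emb v * y))
      (fun _ _ _ _ h => D.n2_inj h)]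
    refine (Finset.sum_subset (Finset.subset_univ _) fun y _ hy => ?_).symm
    by_contra h
    obtain ⟨p, hp⟩ := hterm y h
    exact hy (Finset.mem_image.mpr ⟨p, Finset.mem_univ _, hp⟩)
  have hext : ∀ w : V2, extendByZero D.A (D.fA l) (D.emb w) = D.fA l (D.coord w) := fun w =>
    extendByZero_coe D.A (D.fA l) (D.coord w)
  have hin : ∀ w x : V2, (D.emb w)⁻¹ * D.emb x * D.emb w = D.emb x := fun w x => by
    rw [← D.emb_neg, ← D.emb_add, ← D.emb_add, neg_add_cancel_comm]
  show (Nat.card D.A : ℂ)⁻¹ * _ = _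
  rw [hsum, D.card_A, Fintype.sum_prod_type]
  have hterm2 : ∀ w : V2, ∑ b : Bool, extendByZero D.A (D.fA l) ((D.n2 (w, b))⁻¹ * D.emb v * D.n2 (w, b)) =
      (fv l v : ℂ) := by
    intro w
    rw [Fintype.sum_bool]
    have e1 : (D.n2 (w, true))⁻¹ * D.emb v * D.n2 (w, true) = D.emb (-v) := by
      show (D.emb w * D.t)⁻¹ * D.emb v * (D.emb w * D.t) = _
      rw [show (D.emb w * D.t)⁻¹ * D.emb v * (D.emb w * D.t) = D.t⁻¹ * ((D.emb w)⁻¹ * D.emb v * D.emb w) * D.t by group,
        hin, inv_eq_of_mul_eq_one_right D.tt, D.t_emb, mul_assoc, D.tt, mul_one]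
    have e2 : (D.n2 (w, false))⁻¹ * D.emb v * D.n2 (w, false) = D.emb v := hin w v
    rw [e1, e2, hext, hext, add_comm]
    exact D.fA_pair l v
  rw [Finset.sum_congr rfl fun w _ => hterm2 w, Finset.sum_const, nsmul_eq_mul, Finset.card_univ,
    show (Fintype.card V2) = 9 from rfl]
  push_cast
  ring

theorem F_off (l : Fin 4) {g : G} (hg : ∀ (h : G) (v : V2), v ≠ 0 → h * g * h⁻¹ ≠ D.emb v) : D.F l g = 0 := by
  by_cases h1 : g = 1
  · subst h1
    rw [← D.emb_zero, D.F_emb, (fv_facts.1 l).1, Int.cast_zero]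
  refine indFun_eq_zero_of_not_isConj _ _ fun x hx => ?_
  obtain ⟨w, hw⟩ := hx
  by_cases hw0 : Multiplicative.toAdd w = 0
  · refine h1 ?_
    have : x⁻¹ * g * x = 1 := by rw [← hw]; show D.emb _ = 1; rw [hw0, D.emb_zero]
    calc g = x * (x⁻¹ * g * x) * x⁻¹ := by group
      _ = 1 := by rw [this]; group
  · exact hg x⁻¹ _ hw0 (by rw [inv_inv]; exact hw.symm)

theorem sum_sym {f : V2 → ℂ} {c : V2 → ℂ} (hc : ∀ v, c (-v) = c v) :
    2 * ∑ v : V2, f v * c v = ∑ v : V2, (f v + f (-v)) * c v := by
  have e : ∑ v : V2, f (-v) * c v = ∑ v : V2, f v * c v :=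
    Fintype.sum_equiv (Equiv.neg V2) _ _ fun v => by simp [hc]
  simp only [add_mul, Finset.sum_add_distrib, e]
  ring

/-- Reciprocity for an exceptional character. -/
theorem inner_F (l : Fin 4) {χ : G → ℂ} (hχ : IsClassFunction G χ) :
    classInner (D.F l) χ = (∑ v : V2, (fv l v : ℂ) * conj (χ (D.emb v))) / 18 := by
  haveI := Fintype.ofFinite D.A
  rw [F, frobenius_reciprocity D.A (D.fA l) hχ, classInner, D.card_A, ← D.coord.sum_comp]
  have h := sum_sym (f := fun v => D.fA l (D.coord v)) (c := fun v => conj (χ (D.emb v))) fun v => by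
    rw [← D.t_emb_conj, hχ]
  simp only [D.coord_val]
  rw [Finset.sum_congr rfl fun v _ => show (fv l v : ℂ) * conj (χ (D.emb v)) =
    (D.fA l (D.coord v) + D.fA l (D.coord (-v))) * conj (χ (D.emb v)) by rw [D.fA_pair], ← h]
  push_cast
  ring

theorem inner_F_F (l m : Fin 4) : classInner (D.F l) (D.F m) = if l = m then 3 else 2 := by
  rw [D.inner_F l (D.F_class m)]
  simp only [D.F_emb, map_intCast]
  have h := fv_facts.2.1 l m
  have e : ∑ v : V2, (fv l v : ℂ) * (fv m v : ℂ) = ((if l = m then 54 else 36 : ℤ) : ℂ) := by rw [← h]; push_cast; rfl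
  rw [e]
  split <;> norm_num

theorem inner_F_one (l : Fin 4) : classInner (D.F l) (fun _ => 1) = 1 := by
  rw [D.inner_F l isClassFunction_one]
  simp only [map_one, mul_one]
  have e : ∑ v : V2, (fv l v : ℂ) = ((18 : ℤ) : ℂ) := by rw [← fv_facts.2.2.1 l]; push_cast; rfl
  rw [e]; norm_num

end Inv9

end CfsgLib.Sym9Three
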