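import Cfsg.Agent.Lib.CharTheory.Schur
import Cfsg.Agent.Lib.CharTheory.Linear
import Cfsg.Agent.Lib.CharTheory.Induced

set_option autoImplicit false
set_option linter.style.haveILetI false

/-!
A generalized character of norm three with degree zero that vanishes at an involution.
-/

namespace CfsgLib.Sym9Three

open Cfsg CfsgLib.CharTheory
open scoped ComplexConjugate

theorem pair_identity (C a α : ℂ) (ha : a ≠ 0) (ha' : 1 + a ≠ 0) :
    C + C * (α ^ 2 / a) + C * ((-(1 + α)) ^ 2 / -(1 + a)) = C * ((α - a) ^ 2 / (a * (1 + a))) := by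
  have h : -(1 + a) ≠ 0 := neg_ne_zero.mpr ha'
  field_simp
  ring

universe u

variable {G : Type u} [Group G] [Fintype G]

/-- A character takes an integer value at an involution. -/
theorem irr_involution_int {χ : G → ℂ} (hχ : IsIrrCharacter G χ) {t : G} (ht : t * t = 1) :
    ∃ n : ℤ, χ t = n := by
  classical
  obtain ⟨d, -, hd⟩ := irr_degree_pos hχ
  by_cases h1 : t = 1
  · exact ⟨d, by rw [h1, hd]; norm_cast⟩
  set T := Subgroup.zpowers t
  haveI := Fintype.ofFinite T
  obtain ⟨n, hn⟩ := classInner_char_nat (isCharacter_restrict (isCharacter_of_irr hχ) T)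
    (isCharacter_one (G := T))
  refine ⟨2 * (n : ℤ) - d, ?_⟩
  haveI : Fact (Nat.Prime 2) := ⟨Nat.prime_two⟩
  have ho : orderOf t = 2 := orderOf_eq_prime (by rw [pow_two, ht]) h1
  have hcard : Fintype.card T = 2 := by rw [← Nat.card_eq_fintype_card, Nat.card_zpowers, ho]
  have huniv : (Finset.univ : Finset T) = {1, ⟨t, Subgroup.mem_zpowers t⟩} := by
    refine (Finset.eq_univ_of_card _ ?_).symm
    rw [Finset.card_pair (fun e => h1 (congrArg Subtype.val e).symm), hcard]
  simp only [classInner, map_one, mul_one] at hn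
  rw [huniv, Finset.sum_pair (fun e => h1 (congrArg Subtype.val e).symm), Nat.card_eq_fintype_card, hcard] at hn
  simp only [OneMemClass.coe_one, hd] at hn
  push_cast at hn ⊢
  linear_combination 2 * hn

/-- The consequences of the decomposition into three constituents. -/
theorem three_char {θ : G → ℂ} (h : IsGeneralizedCharacter G θ) (h3 : classInner θ θ = 3)
    (h1 : classInner θ (fun _ => 1) = 1) (h0 : θ 1 = 0) {t : G} (ht : t * t = 1) (hθt : θ t = 0)
    [DecidablePred fun x => IsConj t x] :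
    ∃ a α : ℤ, a ≠ 0 ∧ a ≠ -1 ∧ 1 + α ^ 2 + (1 + α) ^ 2 ≤ (Nat.card (Subgroup.centralizer ({t} : Set G)) : ℤ) ∧
      ∑ x ∈ Finset.univ.filter (fun x => IsConj t x), ∑ y ∈ Finset.univ.filter (fun y => IsConj t y), θ (x * y) =
        (Nat.card {x : G // IsConj t x} : ℂ) ^ 2 * (((α : ℂ) - a) ^ 2 / ((a : ℂ) * (1 + a))) ∧
      (α = a → ∃ K : Subgroup G, K.Normal ∧ t ∈ K ∧ ∀ g ∈ K, θ g = 0) := by
  classical
  obtain ⟨c, hθ, hc, hsq⟩ := classInner_self_eq_sum_sq h
  let o : IrrCharacter G := ⟨fun _ => 1, isIrrCharacter_one⟩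
  have hco : c o = 1 := by
    have := hc o
    rw [show (o : G → ℂ) = fun _ => 1 from rfl, h1] at this
    exact_mod_cast this.symm
  have hs : ∑ ψ, c ψ ^ 2 = 3 := by rw [h3] at hsq; exact_mod_cast hsq.symm
  rw [← Finset.add_sum_erase _ _ (Finset.mem_univ o), hco] at hs
  set S := (Finset.univ.erase o).filter fun ψ => c ψ ≠ 0 with hS
  have hS2 : ∑ ψ ∈ S, c ψ ^ 2 = 2 := by
    rw [hS, Finset.sum_filter_of_ne (p := fun ψ => c ψ ≠ 0) fun ψ _ hne e => hne (by rw [e]; norm_num)]
    linarith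
  have hval : ∀ ψ ∈ S, c ψ = 1 ∨ c ψ = -1 := fun ψ hψ => by
    have hne : c ψ ≠ 0 := (Finset.mem_filter.mp hψ).2
    have hle : c ψ ^ 2 ≤ 2 := hS2 ▸ Finset.single_le_sum (f := fun ψ => c ψ ^ 2) (fun _ _ => sq_nonneg _) hψ
    have hb : -1 ≤ c ψ ∧ c ψ ≤ 1 := ⟨by nlinarith, by nlinarith⟩
    omega
  have hcard : S.card = 2 := by
    rw [Finset.sum_congr rfl (fun ψ hψ => show c ψ ^ 2 = 1 by rcases hval ψ hψ with e | e <;> rw [e] <;> norm_num),
      Finset.sum_const, nsmul_one] at hS2
    exact_mod_cast hS2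
  obtain ⟨A, B, hAB, hSAB⟩ := Finset.card_eq_two.mp hcard
  have hA : A ∈ S := by rw [hSAB]; simp
  have hB : B ∈ S := by rw [hSAB]; simp
  have hAo : A ≠ o := (Finset.mem_erase.mp (Finset.mem_filter.mp hA).1).1
  have hBo : B ≠ o := (Finset.mem_erase.mp (Finset.mem_filter.mp hB).1).1
  have hdec : ∀ g, θ g = 1 + (c A : ℂ) * (A : G → ℂ) g + (c B : ℂ) * (B : G → ℂ) g := by
    intro g
    conv_lhs => rw [hθ]
    rw [Finset.sum_apply, ← Finset.add_sum_erase _ _ (Finset.mem_univ o),
      ← Finset.sum_subset (Finset.filter_subset (fun ψ => c ψ ≠ 0) (Finset.univ.erase o)) (fun ψ hψ hn => by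
        have : c ψ = 0 := not_not.mp fun hne => hn (Finset.mem_filter.mpr ⟨hψ, hne⟩)
        simp [this]), ← hS, hSAB, Finset.sum_pair hAB]
    simp only [Pi.smul_apply, smul_eq_mul, hco, show (o : G → ℂ) g = 1 from rfl]
    push_cast
    ring
  obtain ⟨dA, hdA0, hdA⟩ := irr_degree_pos A.2
  obtain ⟨dB, hdB0, hdB⟩ := irr_degree_pos B.2
  obtain ⟨vA, hvA⟩ := irr_involution_int A.2 ht
  obtain ⟨vB, hvB⟩ := irr_involution_int B.2 ht
  have e1 : 1 + c A * dA + c B * dB = 0 := by
    have h' := hdec 1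
    rw [h0, hdA, hdB] at h'
    exact_mod_cast h'.symm
  have e2 : 1 + c A * vA + c B * vB = 0 := by
    have h' := hdec t
    rw [hθt, hvA, hvB] at h'
    exact_mod_cast h'.symm
  have sqA : c A * c A = 1 := by rcases hval A hA with e | e <;> rw [e] <;> norm_num
  have sqB : c B * c B = 1 := by rcases hval B hB with e | e <;> rw [e] <;> norm_num
  refine ⟨c A * dA, c A * vA, ?_, ?_, ?_, ?_, ?_⟩
  · intro e
    rcases mul_eq_zero.mp e with e | e
    · rw [e] at sqA; norm_num at sqA
    · omega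
  · intro e
    have : c B * dB = 0 := by linarith
    rcases mul_eq_zero.mp this with e | e
    · rw [e] at sqB; norm_num at sqB
    · omega
  · have hcol := sum_irr_mul_conj t t
    rw [if_pos (IsConj.refl t)] at hcol
    have hre : ∑ χ : IrrCharacter G, ‖(χ : G → ℂ) t‖ ^ 2 =
        (Nat.card (Subgroup.centralizer ({t} : Set G)) : ℝ) := by
      apply Complex.ofReal_injective
      push_cast
      rw [← hcol]
      exact Finset.sum_congr rfl fun χ _ => (Complex.mul_conj' _).symm
    have hsub : ∑ χ ∈ ({o, A, B} : Finset (IrrCharacter G)), ‖(χ : G → ℂ) t‖ ^ 2 ≤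
        (Nat.card (Subgroup.centralizer ({t} : Set G)) : ℝ) := by
      rw [← hre]
      exact Finset.sum_le_sum_of_subset_of_nonneg (Finset.subset_univ _) fun _ _ _ => by positivity
    rw [Finset.sum_insert (by simp [Ne.symm hAo, Ne.symm hBo]), Finset.sum_pair hAB,
      show (o : G → ℂ) t = 1 from rfl, hvA, hvB, norm_one, Complex.norm_intCast, Complex.norm_intCast,
      sq_abs, sq_abs, one_pow, ← add_assoc] at hsub
    have hsub' : (1 + vA ^ 2 + vB ^ 2 : ℤ) ≤ (Nat.card (Subgroup.centralizer ({t} : Set G)) : ℤ) := by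
      exact_mod_cast hsub
    have e3 : (c A * vA) ^ 2 = vA ^ 2 := by rw [mul_pow, sq, sqA, one_mul]
    have e4 : (1 + c A * vA) ^ 2 = vB ^ 2 := by
      rw [show 1 + c A * vA = -(c B * vB) by linarith, neg_sq, mul_pow, sq, sqB, one_mul]
    linarith
  · have hsum : ∀ ψ : IrrCharacter G, ∀ e : ℂ, e * e = 1 →
        ∑ x ∈ Finset.univ.filter (fun x => IsConj t x), ∑ y ∈ Finset.univ.filter (fun y => IsConj t y),
          e * (ψ : G → ℂ) (x * y) = (Nat.card {x : G // IsConj t x} : ℂ) ^ 2 * ((e * (ψ : G → ℂ) t) ^ 2 / (e * (ψ : G → ℂ) 1)) := by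
      intro ψ e he
      have := sum_class_class_char ψ.2 t t 1
      simp only [mul_one] at this
      simp only [← Finset.mul_sum]
      rw [this]
      have hne : (ψ : G → ℂ) 1 ≠ 0 := irr_ne_zero ψ.2
      have hene : e ≠ 0 := fun e0 => by rw [e0, mul_zero] at he; exact zero_ne_one he
      field_simp
    simp only [hdec, Finset.sum_add_distrib]
    rw [hsum A _ (by exact_mod_cast sqA), hsum B _ (by exact_mod_cast sqB), hdA, hdB, hvA, hvB]
    have eB1 : (c B : ℂ) * (dB : ℂ) = -(1 + (c A : ℂ) * dA) := by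
      have : ((1 + c A * dA + c B * dB : ℤ) : ℂ) = 0 := by rw [e1]; norm_num
      push_cast at this
      linear_combination this
    have eB2 : (c B : ℂ) * (vB : ℂ) = -(1 + (c A : ℂ) * vA) := by
      have : ((1 + c A * vA + c B * vB : ℤ) : ℂ) = 0 := by rw [e2]; norm_num
      push_cast at this
      linear_combination this
    have hcA : (c A : ℂ) * dA ≠ 0 := mul_ne_zero (fun e => by
      have : c A = 0 := by exact_mod_cast e
      rw [this] at sqA; norm_num at sqA) (Nat.cast_ne_zero.mpr hdA0.ne')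
    have hcB : (1 : ℂ) + (c A : ℂ) * dA ≠ 0 := fun e => by
      rw [e, neg_zero] at eB1
      rcases mul_eq_zero.mp eB1 with e | e
      · have : c B = 0 := by exact_mod_cast e
        rw [this] at sqB; norm_num at sqB
      · exact absurd (Nat.cast_eq_zero.mp e) hdB0.ne'
    rw [eB1, eB2]
    have hcnt : ∑ x ∈ Finset.univ.filter (fun x => IsConj t x), ∑ y ∈ Finset.univ.filter (fun y => IsConj t y), (1 : ℂ) =
        (Nat.card {x : G // IsConj t x} : ℂ) ^ 2 := by
      rw [Nat.card_eq_fintype_card, Fintype.card_subtype]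
      simp [sq]
    rw [hcnt]
    push_cast
    exact pair_identity _ _ _ hcA hcB
  · intro e
    have hva : vA = dA := by
      have : c A * (c A * vA) = c A * (c A * dA) := by rw [e]
      rwa [← mul_assoc, ← mul_assoc, sqA, one_mul, one_mul] at this
    have hvb : vB = dB := by
      have h' : c B * vB = c B * dB := by linarith
      have : c B * (c B * vB) = c B * (c B * dB) := by rw [h']
      rwa [← mul_assoc, ← mul_assoc, sqB, one_mul, one_mul] at this
    refine ⟨charKernel _ (isCharacter_of_irr A.2) ⊓ charKernel _ (isCharacter_of_irr B.2),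
      Subgroup.normal_inf_normal _ _, ⟨?_, ?_⟩, fun g hg => ?_⟩
    · refine (mem_charKernel _ t).mpr ?_
      rw [hvA, hdA, hva]; norm_cast
    · refine (mem_charKernel _ t).mpr ?_
      rw [hvB, hdB, hvb]; norm_cast
    · rw [hdec, (mem_charKernel _ g).mp hg.1, (mem_charKernel _ g).mp hg.2, ← hdec, h0]

end CfsgLib.Sym9Three
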