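import Cfsg.Agent.Lib.Sym9Three.Count
import Cfsg.Agent.Lib.Sym9Three.InvChar
import Cfsg.Agent.Lib.Sym9Three.ThreeChar

set_option autoImplicit false
set_option linter.style.haveILetI false
set_option synthInstance.maxSize 4000

/-!
The exceptional generalized character induced from the centralizer of the translation by all blocks.
-/

namespace CfsgLib.Sym9Three

open Cfsg CfsgLib.CharTheory Subgroup
open scoped ComplexConjugate

/-- The sum of the coordinates of a translation. -/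
def vsum (v : V3) : ZMod 3 := v.1 + v.2.1 + v.2.2

/-- One minus the linear character, in the Eisenstein integers. -/
def fP (m : Mon) : ℤ × ℤ :=
  if m.g.val < 6 then (if vsum m.v = 0 then (0, 0) else if vsum m.v = 1 then (1, -1) else (2, 1)) else (0, 0)

/-- The product of Eisenstein integers. -/
def zmul (p q : ℤ × ℤ) : ℤ × ℤ := (p.1 * q.1 - p.2 * q.2, p.1 * q.2 + p.2 * q.1 - p.2 * q.2)

/-- The conjugate of an Eisenstein integer. -/
def zconj (p : ℤ × ℤ) : ℤ × ℤ := (p.1 - p.2, -p.2)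

/-- The value of an Eisenstein integer. -/
noncomputable def zval (p : ℤ × ℤ) : ℂ := (p.1 : ℂ) + (p.2 : ℂ) * om

theorem zval_zero : zval 0 = 0 := by simp [zval]

theorem zval_add (p q : ℤ × ℤ) : zval (p + q) = zval p + zval q := by
  simp [zval]; ring

theorem zval_sum {ι : Type*} (s : Finset ι) (f : ι → ℤ × ℤ) : ∑ i ∈ s, zval (f i) = zval (∑ i ∈ s, f i) := by
  classical
  induction s using Finset.induction with
  | empty => simp [zval_zero]
  | insert i s hi ih => rw [Finset.sum_insert hi, Finset.sum_insert hi, ih, zval_add]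

theorem zval_mul (p q : ℤ × ℤ) : zval (zmul p q) = zval p * zval q := by
  simp [zval, zmul]
  linear_combination (-(p.2 : ℂ) * q.2) * om_sq

theorem zval_conj (p : ℤ × ℤ) : zval (zconj p) = conj (zval p) := by
  simp [zval, zconj, om_conj, om_sq]; ring

/-- The cube. -/
def cube (h : Mon) : Mon := h * h * h

/-- The coset representatives of the centralizer in the normalizer. -/
def signReps (k : Fin 4) : Finset (Fin 48) :=
  Finset.univ.filter fun r => inR k r = true ∧ r.val % 6 = 0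

/-- The value of the induced function on the support. -/
def FP (k : Fin 4) (m : Mon) : ℤ × ℤ := ∑ r ∈ signReps k, fP (rot r * m * rot r)

theorem vsum_act : ∀ r : Fin 48, r.val < 6 → ∀ v : V3, vsum (act r v) = vsum v := by decide +kernel

theorem vsum_add (v w : V3) : vsum (v + w) = vsum v + vsum w := by
  simp [vsum]; ring

theorem vsum_zero : vsum 0 = 0 := rfl

theorem zval_fP {m : Mon} (hm : m.g.val < 6) : zval (fP m) = 1 - chi (vsum m.v) := by
  rw [fP, if_pos hm]
  rcases z3_cases (vsum m.v) with e | e | e <;> rw [e]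
  · rw [if_pos rfl, chi_zero]; simp [zval]
  · rw [if_neg (by decide), if_pos rfl, chi, show ((1 : ZMod 3)).val = 1 from rfl]; simp [zval]; ring
  · rw [if_neg (by decide), if_neg (by decide), chi, show ((2 : ZMod 3)).val = 2 from rfl, om_sq]; simp [zval]; ring

theorem fP_supp : ∀ m : Mon, fP m ≠ (0, 0) → m.g.val < 6 ∧ fP m⁻¹ ≠ (0, 0) ∧ m * m ≠ 1 ∧
    ((cube m = 1 ∧ m.g = 0) ∨ (cube m ≠ 1 ∧ cube (cube m) = 1 ∧ (cube m).g = 0) ∨
      (cube m ≠ 1 ∧ cube (cube m) ≠ 1 ∧ cube m * cube m = 1 ∧ (m * cube m).g = 0 ∧ m * cube m ≠ 1)) := by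
  decide +kernel

theorem sub_split : ∀ n : Mon, (rot (toR (6 * (n.g.val / 6))) * n).g.val < 6 ∧
    rot (toR (6 * (n.g.val / 6))) * rot (toR (6 * (n.g.val / 6))) = 1 ∧
    (toR (6 * (n.g.val / 6))).val % 6 = 0 ∧
    ∀ k : Fin 4, inR k n.g = true → inR k (toR (6 * (n.g.val / 6))) = true := by decide +kernel

theorem reps_unique : ∀ r s : Fin 48, r.val % 6 = 0 → s.val % 6 = 0 → (rMul r s).val < 6 → r = s := by decide +kernel

theorem reps_sq : ∀ r : Fin 48, r.val % 6 = 0 → rot r * rot r = 1 := by decide +kernel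

/-- The cube of a model element. -/
theorem cube_pow (m : Mon) : cube m = m ^ 3 := by rw [cube, pow_three']

universe u

variable {G : Type u} [Group G]

namespace Frame

variable (F : Frame G)

/-- The centralizer of the translation by all blocks. -/
abbrev C : Subgroup G := Subgroup.centralizer ({F.j xv} : Set G)

theorem mem_C_iff (g : G) : g ∈ F.C ↔ ∃ m ∈ Sub 0, F.el m = g := by
  rw [Subgroup.mem_centralizer_singleton_iff]
  refine ⟨F.cent g, ?_⟩
  rintro ⟨m, hm, rfl⟩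
  exact (F.el_comm_iff (Sub_zero_le _ hm) (tr_mem_Sub _ _)).mpr (sub0_comm_xv hm)

theorem el_mem_C_iff {m : Mon} (hm : m ∈ Sub F.k) : F.el m ∈ F.C ↔ m.g.val < 6 := by
  rw [F.mem_C_iff]
  refine ⟨fun ⟨n, hn, e⟩ => ?_, fun h => ⟨m, (pt_facts.2.2.2.2 _).mpr h, rfl⟩⟩
  rw [← F.el_inj _ (Sub_zero_le _ hn) _ hm e]
  exact (pt_facts.2.2.2.2 _).mp hn

/-- The centralizer in coordinates. -/
noncomputable def toC : Sub 0 ≃* F.C :=
  MulEquiv.ofBijective
    ({ toFun := fun m => ⟨F.el m.1, (F.mem_C_iff _).mpr ⟨m.1, m.2, rfl⟩⟩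
       map_one' := Subtype.ext F.el_one
       map_mul' := fun a b => Subtype.ext (F.el_mul _ (Sub_zero_le _ a.2) _ (Sub_zero_le _ b.2)) } : Sub 0 →* F.C)
    ⟨fun a b h => Subtype.ext (F.el_inj _ (Sub_zero_le _ a.2) _ (Sub_zero_le _ b.2) (congrArg Subtype.val h)),
      fun z => by
        obtain ⟨m, hm, e⟩ := (F.mem_C_iff _).mp z.2
        exact ⟨⟨m, hm⟩, Subtype.ext e⟩⟩

theorem toC_val (m : Sub 0) : ((F.toC m : F.C) : G) = F.el m.1 := rfl

/-- The linear character of the centralizer. -/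
noncomputable def lamC : F.C →* ℂˣ :=
  MonoidHom.comp
    { toFun := fun m : Sub 0 => Units.mk0 (chi (vsum m.1.v)) (fun e => by
        have := chi_norm (vsum m.1.v)
        rw [e, zero_mul] at this
        exact zero_ne_one this)
      map_one' := Units.ext (by show chi (vsum 0) = 1; rw [vsum_zero, chi_zero])
      map_mul' := fun a b => Units.ext (by
        show chi (vsum (a.1.v + act a.1.g b.1.v)) = chi (vsum a.1.v) * chi (vsum b.1.v)
        rw [vsum_add, vsum_act _ ((pt_facts.2.2.2.2 _).mp a.2), chi_add]) }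
    F.toC.symm.toMonoidHom

/-- The function on the centralizer. -/
noncomputable def fC : F.C → ℂ := fun c => 1 - (F.lamC c : ℂ)

theorem fC_toC (m : Sub 0) : F.fC (F.toC m) = zval (fP m.1) := by
  rw [zval_fP ((pt_facts.2.2.2.2 _).mp m.2)]
  simp [fC, lamC]

variable [Fintype G]

/-- The extension by zero. -/
noncomputable def f0 : G → ℂ := extendByZero F.C F.fC

theorem f0_el {m : Mon} (hm : m ∈ Sub F.k) : F.f0 (F.el m) = zval (fP m) := by
  by_cases h : m.g.val < 6
  · have : F.el m = ((F.toC ⟨m, (pt_facts.2.2.2.2 _).mpr h⟩ : F.C) : G) := rfl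
    rw [this, f0, extendByZero_coe, F.fC_toC]
  · rw [f0, extendByZero_of_not_mem _ _ (fun hc => h ((F.el_mem_C_iff hm).mp hc)), fP, if_neg h]
    simp [zval]

theorem f0_ne {y : G} (h : F.f0 y ≠ 0) : ∃ m ∈ Sub 0, fP m ≠ (0, 0) ∧ F.el m = y := by
  by_cases hy : y ∈ F.C
  · obtain ⟨m, hm, rfl⟩ := (F.mem_C_iff y).mp hy
    refine ⟨m, hm, fun e => h ?_, rfl⟩
    rw [F.f0_el (Sub_zero_le _ hm), e]
    simp [zval]
  · exact absurd (extendByZero_of_not_mem _ _ hy) h

theorem f0_conj {c : G} (hc : c ∈ F.C) (y : G) : F.f0 (c⁻¹ * y * c) = F.f0 y := by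
  by_cases hy : y ∈ F.C
  · rw [f0, extendByZero_of_mem _ _ hy, extendByZero_of_mem _ _ (mul_mem (mul_mem (inv_mem hc) hy) hc)]
    simp only [fC]
    congr 1
    have : (⟨c⁻¹ * y * c, mul_mem (mul_mem (inv_mem hc) hy) hc⟩ : F.C) = (⟨c, hc⟩ : F.C)⁻¹ * ⟨y, hy⟩ * ⟨c, hc⟩ := rfl
    rw [this, map_mul, map_mul, mul_comm _ (F.lamC ⟨c, hc⟩), ← mul_assoc, ← map_mul, mul_inv_cancel, map_one, one_mul]
  · rw [f0, extendByZero_of_not_mem _ _ hy, extendByZero_of_not_mem]
    intro h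
    apply hy
    have := mul_mem (mul_mem hc h) (inv_mem hc)
    simpa [mul_assoc] using this

/-- Fusion of the support is controlled by the normalizer. -/
theorem supp_ctrl (hgood : ∀ v : V3, v ≠ 0 → F.Good v) {g : G} {m m' : Mon} (hm : m ∈ Sub 0) (hm' : m' ∈ Sub 0)
    (h : fP m ≠ (0, 0)) (h' : fP m' ≠ (0, 0)) (e : g * F.el m * g⁻¹ = F.el m') : g ∈ F.N := by
  have km := Sub_zero_le F.k hm
  have km' := Sub_zero_le F.k hm'
  have hpow : ∀ n : ℕ, g * F.el (m ^ n) * g⁻¹ = F.el (m' ^ n) := by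
    intro n
    induction n with
    | zero => rw [pow_zero, pow_zero, F.el_one]; group
    | succ n ih =>
      rw [pow_succ, pow_succ, F.el_mul _ (pow_mem km n) _ km, F.el_mul _ (pow_mem km' n) _ km', ← ih, ← e]
      group
  have hcube : cube m = 1 ↔ cube m' = 1 := by
    rw [cube_pow, cube_pow]
    constructor
    · intro h1
      apply F.el_inj _ (pow_mem km' 3) 1 (one_mem _)
      rw [← hpow 3, h1, F.el_one]; group
    · intro h1
      apply F.el_inj _ (pow_mem km 3) 1 (one_mem _)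
      have := hpow 3
      rw [h1, F.el_one, conj_eq_one_iff] at this
      rw [this, F.el_one]
  have hnine : cube (cube m) = 1 ↔ cube (cube m') = 1 := by
    simp only [cube_pow, ← pow_mul]
    constructor
    · intro h1
      apply F.el_inj _ (pow_mem km' _) 1 (one_mem _)
      rw [← hpow, h1, F.el_one]; group
    · intro h1
      apply F.el_inj _ (pow_mem km _) 1 (one_mem _)
      have := hpow (3 * 3)
      rw [h1, F.el_one, conj_eq_one_iff] at this
      rw [this, F.el_one]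
  have fin : ∀ n : ℕ, (m ^ n).g = 0 → m ^ n ≠ 1 → (m' ^ n).g = 0 → g ∈ F.N := fun n h1 h2 h3 => by
    refine F.ctrl_source (v := (m ^ n).v) (v' := (m' ^ n).v) (hgood _ fun e0 => h2 ?_) ?_
    · rw [mon_split (m ^ n), e0, h1]; rfl
    · have e1 : m ^ n = tr (m ^ n).v := by conv_lhs => rw [mon_split (m ^ n), h1]; simp [rot, ← Mon.one_def]
      have e2 : m' ^ n = tr (m' ^ n).v := by conv_lhs => rw [mon_split (m' ^ n), h3]; simp [rot, ← Mon.one_def]
      show g * F.el (tr (m ^ n).v) * g⁻¹ = F.el (tr (m' ^ n).v)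
      rw [← e1, ← e2]
      exact hpow n
  rcases (fP_supp m h).2.2.2 with ⟨a1, a2⟩ | ⟨a1, a2, a3⟩ | ⟨a1, a2, a3, a4, a5⟩ <;>
    rcases (fP_supp m' h').2.2.2 with ⟨b1, b2⟩ | ⟨b1, b2, b3⟩ | ⟨b1, b2, b3, b4, b5⟩
  all_goals first
    | exact absurd (hcube.mp a1) b1
    | exact absurd (hcube.mpr b1) a1
    | exact absurd (hnine.mp a2) b2
    | exact absurd (hnine.mpr b2) a2
    | skip
  · refine fin 1 (by rw [pow_one]; exact a2) ?_ (by rw [pow_one]; exact b2)
    rw [pow_one]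
    exact fun e0 => (fP_supp m h).2.2.1 (by rw [e0, mul_one])
  · exact fin 3 (cube_pow m ▸ a3) (cube_pow m ▸ a1) (cube_pow m' ▸ b3)
  · have e4 : ∀ x : Mon, x * cube x = x ^ 4 := fun x => by rw [cube_pow, ← pow_succ']
    exact fin 4 (e4 m ▸ a4) (e4 m ▸ a5) (e4 m' ▸ b4)

/-- The induced generalized character. -/
noncomputable def bigF : G → ℂ := indFun F.C F.fC

theorem bigF_genChar : IsGeneralizedCharacter G F.bigF :=
  isGenChar_indFun F.C ⟨_, _, isCharacter_one, isCharacter_of_irr (isIrrCharacter_linear F.lamC), rfl⟩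

theorem card_C : Nat.card F.C = 162 := by rw [← Nat.card_congr F.toC.toEquiv, card_Sub.1]

theorem bigF_one : F.bigF 1 = 0 := by
  rw [bigF, indFun_apply_one]
  simp [fC]

/-- The value on the support. -/
theorem bigF_el (hgood : ∀ v : V3, v ≠ 0 → F.Good v) {m : Mon} (hm : m ∈ Sub 0) (h : fP m ≠ (0, 0)) :
    F.bigF (F.el m) = zval (FP F.k m) := by
  classical
  have km := Sub_zero_le F.k hm
  have hsum : ∑ g : G, F.f0 (g⁻¹ * F.el m * g) = 162 * zval (FP F.k m) := by
    let emb : ↥(signReps F.k) × Sub 0 → G := fun p => F.el (rot p.1.1) * F.el p.2.1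
    have hrk : ∀ r : ↥(signReps F.k), rot r.1 ∈ Sub F.k ∧ r.1.val % 6 = 0 := fun r => (Finset.mem_filter.mp r.2).2
    have hinj : Function.Injective emb := fun p q e => by
      have hp := mul_mem (hrk p.1).1 (Sub_zero_le F.k p.2.2)
      have hq := mul_mem (hrk q.1).1 (Sub_zero_le F.k q.2.2)
      have e' := F.el_inj _ hp _ hq (by
        rw [F.el_mul _ (hrk p.1).1 _ (Sub_zero_le _ p.2.2), F.el_mul _ (hrk q.1).1 _ (Sub_zero_le _ q.2.2)]; exact e)
      have e2 : rot p.1.1 * rot q.1.1 = p.2.1 * q.2.1⁻¹ := by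
        rw [eq_mul_inv_iff_mul_eq, mul_assoc, ← e', ← mul_assoc, reps_sq _ (hrk p.1).2, one_mul]
      have e3 : (rMul p.1.1 q.1.1).val < 6 := by
        have := congrArg Mon.g e2
        rw [rot_mul] at this
        rw [show rMul p.1.1 q.1.1 = _ from this]
        exact (pt_facts.2.2.2.2 _).mp (mul_mem p.2.2 (inv_mem q.2.2))
      have e4 : p.1 = q.1 := Subtype.ext (reps_unique _ _ (hrk p.1).2 (hrk q.1).2 e3)
      refine Prod.ext e4 (Subtype.ext ?_)
      rw [e4] at e'
      exact mul_left_cancel e'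
    calc ∑ g : G, F.f0 (g⁻¹ * F.el m * g)
        = ∑ g ∈ Finset.univ.image emb, F.f0 (g⁻¹ * F.el m * g) := by
          refine (Finset.sum_subset (Finset.subset_univ _) fun g _ hg => ?_).symm
          by_contra hne
          obtain ⟨n, hn, hn0, en⟩ := F.f0_ne hne
          have hgN : g⁻¹ ∈ F.N := F.supp_ctrl hgood hm hn h hn0 (by rw [en, inv_inv])
          obtain ⟨a, ha, ea⟩ := (F.mem_N g).mp (inv_mem_iff.mp hgN)
          obtain ⟨s1, s2, s3, s4⟩ := sub_split a
          refine hg (Finset.mem_image.mpr ⟨(⟨_, Finset.mem_filter.mpr ⟨Finset.mem_univ _, s4 _ ha, s3⟩⟩,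
            ⟨_, (pt_facts.2.2.2.2 _).mpr s1⟩), Finset.mem_univ _, ?_⟩)
          show F.el (rot (toR (6 * (a.g.val / 6)))) * F.el (rot (toR (6 * (a.g.val / 6))) * a) = g
          have hr : rot (toR (6 * (a.g.val / 6))) ∈ Sub F.k := s4 _ ha
          rw [← F.el_mul _ hr _ (mul_mem hr ha), ← mul_assoc, s2, one_mul, ea]
      _ = ∑ p : ↥(signReps F.k) × Sub 0, F.f0 ((emb p)⁻¹ * F.el m * emb p) := Finset.sum_image fun _ _ _ _ e => hinj e
      _ = ∑ p : ↥(signReps F.k) × Sub 0, zval (fP (rot p.1.1 * m * rot p.1.1)) := by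
          refine Finset.sum_congr rfl fun p _ => ?_
          have hr := (hrk p.1).1
          show F.f0 ((F.el (rot p.1.1) * F.el p.2.1)⁻¹ * F.el m * (F.el (rot p.1.1) * F.el p.2.1)) = _
          rw [mul_inv_rev, show ∀ a b c : G, b⁻¹ * a⁻¹ * c * (a * b) = b⁻¹ * (a⁻¹ * c * a) * b from
            fun a b c => by group, F.f0_conj ((F.mem_C_iff _).mpr ⟨_, p.2.2, rfl⟩),
            show (F.el (rot p.1.1))⁻¹ = F.el (rot p.1.1) by
              rw [inv_eq_iff_mul_eq_one, ← F.el_mul _ hr _ hr, reps_sq _ (hrk p.1).2, F.el_one],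
            ← F.el_mul _ hr _ km, ← F.el_mul _ (mul_mem hr km) _ hr, F.f0_el (mul_mem (mul_mem hr km) hr)]
      _ = 162 * zval (FP F.k m) := by
          rw [Fintype.sum_prod_type]
          simp only [Finset.sum_const, Finset.card_univ, ← Nat.card_eq_fintype_card, card_Sub.1, nsmul_eq_mul]
          rw [← Finset.mul_sum, FP, ← zval_sum, Finset.sum_coe_sort (signReps F.k) fun r => zval (fP (rot r * m * rot r))]
          norm_num
  show (Nat.card F.C : ℂ)⁻¹ * ∑ g : G, F.f0 (g⁻¹ * F.el m * g) = _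
  rw [hsum, F.card_C]
  push_cast
  ring

theorem sum_C [Fintype F.C] (φ : G → ℂ) :
    ∑ c : F.C, φ c = ∑ m ∈ Finset.univ.filter (fun m : Mon => inR 0 m.g = true), φ (F.el m) := by
  classical
  rw [← Fintype.sum_equiv F.toC.toEquiv (fun m => φ (F.el m.1)) (fun c => φ c) (fun m => rfl),
    ← Finset.sum_subtype (Finset.univ.filter (fun m : Mon => inR 0 m.g = true))
      (fun m => by simp only [Finset.mem_filter, Finset.mem_univ, true_and]; exact Iff.rfl) (fun m => φ (F.el m))]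

/-- The norm. -/
theorem bigF_norm (hgood : ∀ v : V3, v ≠ 0 → F.Good v)
    (hk : ∑ m ∈ Finset.univ.filter (fun m : Mon => inR 0 m.g = true), zmul (fP m) (zconj (FP F.k m)) = (486, 0)) :
    classInner F.bigF F.bigF = 3 := by
  haveI := Fintype.ofFinite F.C
  rw [bigF, frobenius_reciprocity F.C F.fC (indFun_isClassFunction _ _), classInner, F.card_C]
  have hterm : ∀ c : F.C, F.fC c * conj (indFun F.C F.fC c) = F.f0 c * conj (F.bigF c) := fun c => by
    rw [f0, extendByZero_coe]; rfl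
  rw [Finset.sum_congr rfl fun c _ => hterm c, F.sum_C (fun g => F.f0 g * conj (F.bigF g)),
    Finset.sum_congr rfl (g := fun m => zval (zmul (fP m) (zconj (FP F.k m)))) fun m hm => by
      have hm' : m ∈ Sub 0 := (Finset.mem_filter.mp hm).2
      rw [F.f0_el (Sub_zero_le _ hm'), zval_mul, zval_conj]
      by_cases h0 : fP m = (0, 0)
      · rw [h0]; simp [zval]
      · rw [F.bigF_el hgood hm' h0],
    zval_sum, hk]
  simp [zval]
  norm_num

theorem trace_sum : ∑ m ∈ Finset.univ.filter (fun m : Mon => inR 0 m.g = true), fP m = (162, 0) := by decide +kernel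

theorem bigF_inner_one : classInner F.bigF (fun _ => (1 : ℂ)) = 1 := by
  haveI := Fintype.ofFinite F.C
  rw [bigF, frobenius_reciprocity F.C F.fC isClassFunction_one, classInner, F.card_C]
  have hterm : ∀ c : F.C, F.fC c * conj (1 : ℂ) = F.f0 c := fun c => by
    rw [f0, extendByZero_coe, map_one, mul_one]
  rw [Finset.sum_congr rfl fun c _ => hterm c, F.sum_C F.f0,
    Finset.sum_congr (s₁ := Finset.univ.filter (fun m : Mon => inR 0 m.g = true)) rfl (g := fun m => zval (fP m))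
      fun m hm => F.f0_el (Sub_zero_le _ (show m ∈ Sub 0 from (Finset.mem_filter.mp hm).2)),
    zval_sum, trace_sum]
  simp [zval]

theorem bigF_invol {t : G} (ht : t * t = 1) : F.bigF t = 0 := by
  show (Nat.card F.C : ℂ)⁻¹ * ∑ g : G, F.f0 (g⁻¹ * t * g) = 0
  rw [Finset.sum_eq_zero (fun g _ => ?_), mul_zero]
  by_contra hne
  obtain ⟨m, hm, h0, e⟩ := F.f0_ne hne
  refine (fP_supp m h0).2.2.1 (F.el_inj _ (mul_mem (Sub_zero_le _ hm) (Sub_zero_le _ hm)) 1 (one_mem _) ?_)
  rw [F.el_mul _ (Sub_zero_le _ hm) _ (Sub_zero_le _ hm), e, F.el_one,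
    show g⁻¹ * t * g * (g⁻¹ * t * g) = g⁻¹ * (t * t) * g by group, ht]
  group

/-- The consequences for a class of involutions with a given trace in the normalizer. -/
theorem char_step (hgood : ∀ v : V3, v ≠ 0 → F.Good v)
    (hk : ∑ m ∈ Finset.univ.filter (fun m : Mon => inR 0 m.g = true), zmul (fP m) (zconj (FP F.k m)) = (486, 0))
    {t : G} (ht : t * t = 1) (S : Finset Mon) (hS : ∀ m, m ∈ S ↔ m ∈ Sub F.k ∧ IsConj t (F.el m)) (W : ℤ)
    (hW : ∑ a ∈ S, ∑ b ∈ S, fP (a * b) = (W, 0)) :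
    ∃ a α : ℤ, a ≠ 0 ∧ a ≠ -1 ∧ 1 + α ^ 2 + (1 + α) ^ 2 ≤ (Nat.card (Subgroup.centralizer ({t} : Set G)) : ℤ) ∧
      162 * (Nat.card G : ℤ) * (α - a) ^ 2 =
        W * (Nat.card (Subgroup.centralizer ({t} : Set G)) : ℤ) ^ 2 * (a * (1 + a)) ∧
      (α = a → ∃ K : Subgroup G, K.Normal ∧ t ∈ K ∧ ∀ g ∈ K, F.bigF g = 0) := by
  classical
  obtain ⟨a, α, ha, ha', hb, hsum, hker⟩ :=
    three_char F.bigF_genChar (F.bigF_norm hgood hk) F.bigF_inner_one F.bigF_one ht (F.bigF_invol ht)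
  refine ⟨a, α, ha, ha', hb, ?_, hker⟩
  set K := Finset.univ.filter fun x => IsConj t x with hK
  have hKinv : ∀ x ∈ K, x * x = 1 := fun x hx => by
    obtain ⟨k, rfl⟩ := isConj_iff.mp (Finset.mem_filter.mp hx).2
    rw [conj_mul, ht, mul_one, mul_inv_cancel]
  have hconjsum : ∀ g : G, ∑ x ∈ K, ∑ y ∈ K, F.f0 (g⁻¹ * (x * y) * g) = ∑ x ∈ K, ∑ y ∈ K, F.f0 (x * y) := by
    intro g
    have hmove : ∀ φ : G → ℂ, ∑ x ∈ K, φ (g⁻¹ * x * g) = ∑ x ∈ K, φ x := fun φ => by
      refine Finset.sum_nbij' (fun x => g⁻¹ * x * g) (fun x => g * x * g⁻¹) ?_ ?_ ?_ ?_ (fun x _ => rfl)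
      · intro x hx
        exact Finset.mem_coe.mpr (Finset.mem_filter.mpr ⟨Finset.mem_univ _, (Finset.mem_filter.mp (Finset.mem_coe.mp hx)).2.trans
          (isConj_iff.mpr ⟨g⁻¹, by rw [inv_inv]⟩)⟩)
      · intro x hx
        exact Finset.mem_coe.mpr (Finset.mem_filter.mpr ⟨Finset.mem_univ _, (Finset.mem_filter.mp (Finset.mem_coe.mp hx)).2.trans
          (isConj_iff.mpr ⟨g, rfl⟩)⟩)
      · intro x _; group
      · intro x _; group
    calc ∑ x ∈ K, ∑ y ∈ K, F.f0 (g⁻¹ * (x * y) * g)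
        = ∑ x ∈ K, ∑ y ∈ K, F.f0 (g⁻¹ * x * g * (g⁻¹ * y * g)) := by
          refine Finset.sum_congr rfl fun x _ => Finset.sum_congr rfl fun y _ => congrArg F.f0 ?_
          group
      _ = ∑ x ∈ K, ∑ y ∈ K, F.f0 (g⁻¹ * x * g * y) :=
          Finset.sum_congr rfl fun x _ => hmove fun y => F.f0 (g⁻¹ * x * g * y)
      _ = _ := hmove fun x => ∑ y ∈ K, F.f0 (x * y)
  have hL : ∑ x ∈ K, ∑ y ∈ K, F.bigF (x * y) = (Nat.card G : ℂ) / 162 * ∑ x ∈ K, ∑ y ∈ K, F.f0 (x * y) := by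
    show ∑ x ∈ K, ∑ y ∈ K, (Nat.card F.C : ℂ)⁻¹ * ∑ g : G, F.f0 (g⁻¹ * (x * y) * g) = _
    simp only [← Finset.mul_sum]
    rw [Finset.sum_congr rfl (fun x _ => Finset.sum_comm), Finset.sum_comm, Finset.sum_congr rfl (fun g _ => hconjsum g),
      Finset.sum_const, Finset.card_univ, F.card_C, nsmul_eq_mul, Nat.card_eq_fintype_card]
    push_cast
    ring
  have hred : ∑ x ∈ K, ∑ y ∈ K, F.f0 (x * y) = zval (W, 0) := by
    rw [← hW, ← zval_sum]
    simp only [← zval_sum]
    have hfac : ∀ x ∈ K, ∀ y ∈ K, F.f0 (x * y) ≠ 0 → x ∈ F.N ∧ y ∈ F.N := by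
      intro x hx y hy hne
      obtain ⟨m, hm, h0, e⟩ := F.f0_ne hne
      have hxN : x ∈ F.N := F.supp_ctrl hgood hm (inv_mem hm) h0 (fP_supp m h0).2.1 (by
        rw [F.el_inv (Sub_zero_le _ hm), e, inv_eq_of_mul_eq_one_right (hKinv x hx), mul_inv_rev,
          inv_eq_of_mul_eq_one_right (hKinv x hx), inv_eq_of_mul_eq_one_right (hKinv y hy), ← mul_assoc,
          hKinv x hx, one_mul])
      refine ⟨hxN, ?_⟩
      have hzN : x * y ∈ F.N := e ▸ F.el_mem_N (Sub_zero_le _ hm)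
      have := mul_mem (inv_mem hxN) hzN
      rwa [inv_mul_cancel_left] at this
    have hlift : ∀ φ : G → ℂ, (∀ x ∈ K, φ x ≠ 0 → x ∈ F.N) → ∑ x ∈ K, φ x = ∑ a ∈ S, φ (F.el a) := by
      intro φ hφ
      calc ∑ x ∈ K, φ x = ∑ x ∈ S.image F.el, φ x := by
            refine (Finset.sum_subset (fun x hx => ?_) fun x hx hn => ?_).symm
            · obtain ⟨m, hm, rfl⟩ := Finset.mem_image.mp hx
              exact Finset.mem_filter.mpr ⟨Finset.mem_univ _, ((hS m).mp hm).2⟩
            · by_contra hne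
              obtain ⟨m, hm, rfl⟩ := (F.mem_N x).mp (hφ x hx hne)
              exact hn (Finset.mem_image.mpr ⟨m, (hS m).mpr ⟨hm, (Finset.mem_filter.mp hx).2⟩, rfl⟩)
        _ = _ := Finset.sum_image fun p hp q hq e => F.el_inj _ ((hS p).mp hp).1 _ ((hS q).mp hq).1 e
    rw [hlift (fun x => ∑ y ∈ K, F.f0 (x * y)) fun x hx hne => by
      obtain ⟨y, hy, hy0⟩ := Finset.exists_ne_zero_of_sum_ne_zero hne
      exact (hfac x hx y hy hy0).1]
    refine Finset.sum_congr rfl fun p hp => ?_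
    have hp' := (hS p).mp hp
    have hpK : F.el p ∈ K := Finset.mem_filter.mpr ⟨Finset.mem_univ _, hp'.2⟩
    rw [hlift (fun y => F.f0 (F.el p * y)) fun y hy hne => (hfac _ hpK y hy hne).2]
    refine Finset.sum_congr rfl fun q hq => ?_
    rw [← F.el_mul _ hp'.1 _ ((hS q).mp hq).1, F.f0_el (mul_mem hp'.1 ((hS q).mp hq).1)]
  rw [hL, hred] at hsum
  have hcls := card_isConj_mul_card_centralizer t
  set c : ℕ := Nat.card (Subgroup.centralizer ({t} : Set G))
  set n : ℕ := Nat.card {x : G // IsConj t x}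
  set o : ℕ := Nat.card G
  have ho : (o : ℂ) = n * c := by rw [← hcls]; push_cast; ring
  have haC : (a : ℂ) ≠ 0 := by exact_mod_cast ha
  have haC' : (1 : ℂ) + a ≠ 0 := by
    intro e
    have : (1 : ℤ) + a = 0 := by exact_mod_cast e
    omega
  have hn0 : (n : ℂ) ≠ 0 := by
    haveI : Nonempty {x : G // IsConj t x} := ⟨⟨t, IsConj.refl t⟩⟩
    exact Nat.cast_ne_zero.mpr Nat.card_pos.ne'
  simp only [zval, Int.cast_zero, zero_mul, add_zero] at hsum
  rw [ho] at hsum
  field_simp at hsum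
  have key : (162 : ℂ) * o * ((α : ℂ) - a) ^ 2 = W * c ^ 2 * (a * (1 + a)) := by
    rw [ho]
    refine mul_left_cancel₀ hn0 ?_
    linear_combination (-((n : ℂ) * c)) * hsum
  exact_mod_cast key

end Frame

end CfsgLib.Sym9Three
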