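import Cfsg.Agent.Lib.Sym9Three.Model
import Mathlib.GroupTheory.PGroup
import Mathlib.GroupTheory.GroupAction.Quotient
import Mathlib.Algebra.Group.Subgroup.Finite
import Mathlib.GroupTheory.Perm.Cycle.Type
import Mathlib.Data.Fintype.Pi
import Mathlib.Tactic.Abel
import Mathlib.Tactic.IntervalCases
import Mathlib.Tactic.NormNum.Prime

set_option autoImplicit false
set_option linter.style.haveILetI false
set_option synthInstance.maxSize 4000

/-!
A group of linear maps of the translations in which the stabilizer of the translation by all blocks is the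
group of block permutations is monomial after a base change.
-/

namespace CfsgLib.Sym9Three

open Equiv

/-- The identity on the basis. -/
def oneM : M3 := ((1, 0, 0), (0, 1, 0), (0, 0, 1))

/-- A block permutation on the basis. -/
def pM (p : ℕ) : M3 := cols (permV p)

/-- The test for being a block permutation. -/
def isPermM (c : M3) : Bool := (List.range 6).any fun p => c == pM p

/-- The words in a map and the block permutations with the given code. -/
def evalW (g : M3) : ℕ → ℕ → M3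
  | 0, _ => g
  | n + 1, w => if w = 0 then g else mcomp (mcomp g (pM (w % 7 - 1))) (evalW g n (w / 7))

/-- The position of a translation. -/
def vIdx (v : V3) : ℕ := 9 * v.1.val + 3 * v.2.1.val + v.2.2.val

/-- The translations in the order of their positions. -/
def vOf (n : ℕ) : V3 := ((n / 9 : ℕ), ((n / 3 % 3 : ℕ), (n % 3 : ℕ)))

/-- The witnesses for the maps carrying the translation by all blocks to `(0, 1, 2)`. -/
def wTable : List (List ℕ) :=
   [[0, 0, 0, 0, 0, 0, 0, 0, 0, 0, 0, 0, 0, 0, 0, 0, 0, 0, 0, 0, 0, 0, 0, 0, 0, 0, 0],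
    [0, 0, 0, 0, 0, 0, 0, 0, 0, 44, 9, 37, 113, 71, 23, 38, 2, 11, 157, 325, 29, 29, 37, 34, 6, 29, 23],
    [0, 0, 0, 0, 0, 0, 0, 0, 0, 18, 3, 15, 8, 19, 29, 106, 66, 2, 29, 43, 46, 44, 9, 1, 64, 6, 162],
    [0, 0, 0, 0, 0, 0, 0, 0, 0, 22, 204, 44, 46, 128, 3, 36, 4, 43, 18, 78, 36, 22, 5, 15, 1, 113, 19],
    [0, 0, 0, 0, 0, 0, 0, 0, 0, 15, 2, 29, 3, 30, 309, 254, 25, 4, 6, 45, 43, 9, 267, 5, 39, 1, 204],
    [0, 0, 0, 0, 0, 0, 0, 0, 0, 0, 0, 0, 0, 0, 0, 0, 0, 0, 0, 0, 0, 0, 0, 0, 0, 0, 0],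
    [0, 0, 0, 0, 0, 0, 0, 0, 0, 71, 4, 22, 22, 23, 34, 225, 22, 44, 37, 36, 262, 37, 11, 36, 36, 5, 157],
    [0, 0, 0, 0, 0, 0, 0, 0, 0, 0, 0, 0, 0, 0, 0, 0, 0, 0, 0, 0, 0, 0, 0, 0, 0, 0, 0],
    [0, 0, 0, 0, 0, 0, 0, 0, 0, 4, 39, 9, 36, 274, 2, 43, 3, 108, 22, 316, 1, 15, 6, 106, 5, 25, 30],
    [0, 29, 11, 37, 9, 0, 113, 0, 6, 0, 29, 71, 157, 38, 0, 37, 0, 34, 0, 29, 44, 23, 23, 0, 2, 0, 325],
    [0, 15, 5, 309, 1, 0, 6, 0, 25, 43, 0, 254, 0, 29, 267, 30, 39, 0, 3, 204, 0, 45, 0, 4, 0, 2, 9],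
    [0, 22, 9, 29, 44, 0, 37, 0, 15, 135, 162, 0, 324, 0, 92, 0, 267, 204, 36, 0, 25, 0, 23, 10, 30, 43, 0],
    [0, 71, 36, 34, 5, 0, 37, 0, 22, 262, 0, 225, 0, 22, 11, 23, 36, 0, 22, 157, 0, 36, 0, 44, 0, 4, 37],
    [0, 135, 10, 92, 43, 0, 36, 0, 267, 25, 44, 0, 37, 0, 23, 0, 30, 9, 324, 0, 22, 0, 29, 204, 15, 162, 0],
    [0, 36, 43, 5, 204, 0, 46, 0, 1, 0, 113, 128, 18, 36, 0, 44, 0, 15, 0, 22, 22, 19, 3, 0, 4, 0, 78],
    [0, 25, 204, 23, 162, 0, 324, 0, 30, 22, 43, 0, 36, 0, 29, 0, 15, 10, 37, 0, 135, 0, 92, 9, 267, 44, 0],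
    [0, 1, 108, 6, 39, 0, 36, 0, 5, 0, 25, 274, 22, 43, 0, 9, 0, 106, 0, 15, 4, 30, 2, 0, 3, 0, 316],
    [0, 18, 1, 29, 6, 0, 29, 0, 66, 46, 0, 106, 0, 15, 9, 19, 64, 0, 8, 162, 0, 43, 0, 2, 0, 3, 44],
    [0, 262, 44, 11, 4, 0, 22, 0, 36, 0, 5, 23, 37, 225, 0, 22, 0, 36, 0, 37, 71, 157, 34, 0, 22, 0, 36],
    [0, 242, 30, 316, 33, 0, 23, 0, 85, 44, 106, 0, 263, 0, 37, 0, 9, 176, 22, 0, 36, 0, 10, 29, 43, 15, 0],
    [0, 44, 34, 23, 29, 0, 157, 0, 2, 29, 0, 38, 0, 37, 37, 71, 6, 0, 113, 23, 0, 325, 0, 11, 0, 9, 29],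
    [0, 44, 29, 37, 15, 0, 22, 0, 9, 36, 33, 0, 23, 0, 10, 0, 43, 30, 263, 0, 242, 0, 316, 176, 85, 106, 0],
    [0, 22, 15, 3, 113, 0, 18, 0, 4, 36, 0, 36, 0, 44, 5, 128, 1, 0, 46, 19, 0, 78, 0, 43, 0, 204, 22],
    [0, 46, 2, 9, 3, 0, 8, 0, 64, 0, 6, 19, 29, 106, 0, 15, 0, 1, 0, 44, 18, 162, 29, 0, 66, 0, 43],
    [0, 4, 106, 2, 25, 0, 22, 0, 3, 1, 0, 43, 0, 9, 6, 274, 5, 0, 36, 30, 0, 316, 0, 108, 0, 39, 15],
    [0, 43, 4, 267, 2, 0, 3, 0, 39, 0, 1, 30, 6, 254, 0, 29, 0, 5, 0, 9, 15, 204, 309, 0, 25, 0, 45],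
    [0, 36, 176, 10, 106, 0, 263, 0, 43, 242, 15, 0, 22, 0, 316, 0, 85, 29, 23, 0, 44, 0, 37, 30, 9, 33, 0]]

/-- The map with two given images that carries the translation by all blocks to `(0, 1, 2)`. -/
def gW (a b : V3) : M3 := (a, b, ((0, 1, 2) : V3) - a - b)

/-- Whether a map kills a nonzero translation. -/
def singular (c : M3) : Bool := (List.range 26).any fun i => mapp c (vOf (i + 1)) == 0

/-- The verification of one witness. -/
def chkW (a b : V3) (w : ℕ) : Bool :=
  if w = 0 then singular (gW a b)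
  else (mapp (evalW (gW a b) 4 w) xv == xv) && !isPermM (evalW (gW a b) 4 w)

theorem wTable_ok : ∀ a b : V3, chkW a b ((wTable.getD (vIdx a) []).getD (vIdx b) 0) = true := by decide +kernel

/-- The map with two given images that negates the translation by all blocks. -/
def gN (a b : V3) : M3 := (a, b, -xv - a - b)

theorem neg_ok : ∀ a b : V3, singular (gN a b) = true ∨ (∃ r : Fin 48, gN a b = cols (act r)) ∨
    ∃ p : Fin 6, isPermM (mcomp (mcomp (gN a b) (pM p)) (gN a b)) = false := by decide +kernel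

/-- The monomial maps after the base change, as a test on the images of the basis. -/
def inW (b : ZMod 3) (c : M3) : Bool :=
  (List.range 48).any fun r => c == cols fun v => Lb b (act (toR r) (Lb (-b) v))

/-- The orbit attached to a base change. -/
def Ob (b : ZMod 3) : List V3 :=
  if b = 0 then [xv, -xv, (1, 1, 2), (1, 2, 1), (2, 1, 1), (2, 2, 1), (2, 1, 2), (1, 2, 2)]
  else if b = 1 then [xv, -xv, (0, 1, 1), (1, 0, 1), (1, 1, 0), (0, 2, 2), (2, 0, 2), (2, 2, 0)]
  else [xv, -xv, (0, 0, 1), (0, 1, 0), (1, 0, 0), (0, 0, 2), (0, 2, 0), (2, 0, 0)]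

/-- The coordinates of the basis in a spanning triple of an orbit. -/
def frameInv (b : ZMod 3) : M3 :=
  cols fun e => vOf (((List.range 27).find? fun i => mapp (xv, (Ob b).getD 2 0, (Ob b).getD 3 0) (vOf i) == e).getD 0)

theorem frameInv_ok : ∀ b : ZMod 3, ∀ v : V3, mapp (xv, (Ob b).getD 2 0, (Ob b).getD 3 0) (mapp (frameInv b) v) = v := by
  decide +kernel

theorem orbit_ok_bool : ∀ b : ZMod 3, ((Ob b).all fun y0 => (Ob b).all fun y1 => (Ob b).all fun y2 =>
    !((Ob b).all fun o => (Ob b).elem (mapp (mcomp (y0, y1, y2) (frameInv b)) o)) ||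
      (singular (mcomp (y0, y1, y2) (frameInv b)) || inW b (mcomp (y0, y1, y2) (frameInv b)))) = true := by
  decide +kernel

theorem orbit_ok (b : ZMod 3) (y0 : V3) (h0 : y0 ∈ Ob b) (y1 : V3) (h1 : y1 ∈ Ob b) (y2 : V3) (h2 : y2 ∈ Ob b)
    (h : ((Ob b).all fun o => (Ob b).elem (mapp (mcomp (y0, y1, y2) (frameInv b)) o)) = true)
    (hs : singular (mcomp (y0, y1, y2) (frameInv b)) = false) :
    inW b (mcomp (y0, y1, y2) (frameInv b)) = true := by
  have := List.all_eq_true.mp (List.all_eq_true.mp (List.all_eq_true.mp (orbit_ok_bool b) y0 h0) y1 h1) y2 h2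
  rwa [h, hs, Bool.not_true, Bool.false_or, Bool.false_or] at this

/-- The representatives of the orbits of the block permutations. -/
def orbRep (i : Fin 8) : V3 :=
  if i = 0 then -xv else if i = 1 then (0, 0, 1) else if i = 2 then (0, 0, 2) else if i = 3 then (1, 1, 0)
  else if i = 4 then (2, 2, 0) else if i = 5 then (1, 1, 2) else if i = 6 then (2, 2, 1) else (0, 1, 2)

/-- The membership pattern determines a set invariant under the block permutations. -/
def patMem (f : Fin 8 → Bool) (v : V3) : Bool :=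
  v == xv || (List.finRange 8).any fun i => f i && (List.range 6).any fun p => permV p (orbRep i) == v

theorem orbit_cover : ∀ v : V3, v = 0 ∨ v = xv ∨ ∃ i : Fin 8, ∃ p : Fin 6, permV p (orbRep i) = v := by decide +kernel

/-- The size of a pattern. -/
def patCard (f : Fin 8 → Bool) : ℕ := ((List.range 27).filter fun i => patMem f (vOf i)).length

theorem pattern_ok : ∀ f : Fin 8 → Bool, f 7 = false →
    (f 0 = true → f 1 = f 2 ∧ f 3 = f 4 ∧ f 5 = f 6) →
    (f 0 = false → ¬(f 1 = true ∧ f 2 = true) ∧ ¬(f 3 = true ∧ f 4 = true) ∧ ¬(f 5 = true ∧ f 6 = true)) →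
    ¬ 3 ∣ patCard f → ¬ 5 ∣ patCard f → ¬ 7 ∣ patCard f →
    (∀ i : Fin 8, i ≠ 0 → f i = false) ∨ ∃ b : ZMod 3, (∀ v : V3, patMem f v = true → v ∈ Ob b) ∧
      (patMem f (-(Ob b).getD 2 0) || patMem f ((Ob b).getD 2 0)) = true := by decide +kernel

theorem permV_perm : ∀ p : Fin 6, ∀ v : V3, permV p v = act (toR p) v := by decide +kernel

/-- The hypotheses. -/
structure LinData (K : Subgroup (Perm V3)) : Prop where
  add : ∀ g ∈ K, ∀ v w, g (v + w) = g v + g w
  perms : ∀ r : Fin 48, r.val < 6 → ∃ g ∈ K, ∀ v, g v = act r v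
  stab : ∀ g ∈ K, g xv = xv → ∃ r : Fin 48, r.val < 6 ∧ ∀ v, g v = act r v
  nine : ¬ 9 ∣ Nat.card K

variable {K : Subgroup (Perm V3)} (h : LinData K)

include h in
theorem LinData.zero {g : Perm V3} (hg : g ∈ K) : g 0 = 0 := by
  have := h.add g hg 0 0
  rw [add_zero] at this
  exact left_eq_add.mp this

include h in
theorem LinData.neg {g : Perm V3} (hg : g ∈ K) (v : V3) : g (-v) = -g v :=
  eq_neg_of_add_eq_zero_left (by rw [← h.add g hg, neg_add_cancel, h.zero hg])

include h in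
theorem LinData.mapp_col {g : Perm V3} (hg : g ∈ K) (v : V3) : mapp (cols g) v = g v := mapp_cols (h.add g hg) v

include h in
theorem LinData.col_mul {g k : Perm V3} (hg : g ∈ K) (hk : k ∈ K) : cols ⇑(g * k) = mcomp (cols g) (cols k) :=
  cols_comp (h.add g hg) (h.add k hk)

include h in
theorem LinData.not_singular {g : Perm V3} (hg : g ∈ K) : singular (cols g) = false := by
  rw [singular, List.any_eq_false]
  intro i hi
  rw [beq_iff_eq, h.mapp_col hg, ← h.zero hg]
  intro e
  have h1 := g.injective e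
  revert h1
  exact (by decide +kernel : ∀ i ∈ List.range 26, vOf (i + 1) ≠ 0) i hi

include h in
theorem LinData.perm_mem (p : ℕ) (hp : p < 6) : ∃ g ∈ K, cols ⇑g = pM p := by
  obtain ⟨g, hg, e⟩ := h.perms (toR p) (by rw [toR]; show p % 48 < 6; omega)
  refine ⟨g, hg, ?_⟩
  rw [pM]
  exact congrArg cols (funext fun v => (e v).trans (permV_perm ⟨p, hp⟩ v).symm)

include h in
theorem LinData.isPerm_of_fix {g : Perm V3} (hg : g ∈ K) (e : g xv = xv) : isPermM (cols g) = true := by
  obtain ⟨r, hr, hrv⟩ := h.stab g hg e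
  rw [isPermM, List.any_eq_true]
  refine ⟨r.val, List.mem_range.mpr hr, beq_iff_eq.mpr ?_⟩
  rw [pM, show (⇑g) = act r from funext hrv]
  refine congrArg cols (funext fun v => ?_)
  rw [permV_perm ⟨r.val, hr⟩]
  congr 1
  exact Fin.ext (Nat.mod_eq_of_lt r.isLt).symm

theorem digit_lt (w : ℕ) : w % 7 - 1 < 6 := by omega

include h in
theorem LinData.word_mem {g : Perm V3} (hg : g ∈ K) : ∀ n w, ∃ k ∈ K, cols ⇑k = evalW (cols g) n w
  | 0, _ => ⟨g, hg, rfl⟩
  | n + 1, w => by
    rw [evalW]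
    split
    · exact ⟨g, hg, rfl⟩
    · obtain ⟨k, hk, ek⟩ := LinData.word_mem hg n (w / 7)
      obtain ⟨p, hp, ep⟩ := h.perm_mem (w % 7 - 1) (digit_lt w)
      exact ⟨g * p * k, mul_mem (mul_mem hg hp) hk, by
        rw [h.col_mul (mul_mem hg hp) hk, h.col_mul hg hp, ek, ep]⟩

include h in
/-- No map carries the translation by all blocks to a translation with all blocks different. -/
theorem LinData.no_flat {g : Perm V3} (hg : g ∈ K) : g xv ≠ (0, 1, 2) := by
  intro e
  have hc : cols g = gW (g (1, 0, 0)) (g (0, 1, 0)) := by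
    rw [gW, cols]
    refine Prod.ext rfl (Prod.ext rfl ?_)
    show g (0, 0, 1) = _
    rw [← e, show xv = ((1, 0, 0) : V3) + (0, 1, 0) + (0, 0, 1) by decide, h.add g hg, h.add g hg]
    simp only
    abel
  have h1 := wTable_ok (g (1, 0, 0)) (g (0, 1, 0))
  unfold chkW at h1
  rw [← hc] at h1
  split at h1
  · rw [h.not_singular hg] at h1
    exact Bool.false_ne_true h1
  · obtain ⟨k, hk, ek⟩ := h.word_mem hg 4 ((wTable.getD (vIdx (g (1, 0, 0))) []).getD (vIdx (g (0, 1, 0))) 0)
    rw [← ek, Bool.and_eq_true, beq_iff_eq, h.mapp_col hk] at h1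
    rw [h.isPerm_of_fix hk h1.1] at h1
    simp at h1

include h in
/-- A map negating the translation by all blocks is monomial. -/
theorem LinData.of_neg {g : Perm V3} (hg : g ∈ K) (e : g xv = -xv) : ∃ r : Fin 48, ∀ v, g v = act r v := by
  have hc : cols g = gN (g (1, 0, 0)) (g (0, 1, 0)) := by
    rw [gN, cols]
    refine Prod.ext rfl (Prod.ext rfl ?_)
    show g (0, 0, 1) = _
    rw [← e, show xv = ((1, 0, 0) : V3) + (0, 1, 0) + (0, 0, 1) by decide, h.add g hg, h.add g hg]
    simp only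
    abel
  rcases neg_ok (g (1, 0, 0)) (g (0, 1, 0)) with h1 | ⟨r, hr⟩ | ⟨p, hp⟩
  · rw [← hc, h.not_singular hg] at h1
    exact absurd h1 Bool.false_ne_true
  · refine ⟨r, fun v => ?_⟩
    rw [← h.mapp_col hg, hc, hr, mapp_cols (act_add r)]
  · exfalso
    obtain ⟨q, hq, eq'⟩ := h.perms (toR p.val) (by rw [toR]; show p.val % 48 < 6; omega)
    have hqc : cols ⇑q = pM p := by
      rw [pM]
      exact congrArg cols (funext fun v => (eq' v).trans (permV_perm p v).symm)
    have hm := mul_mem (mul_mem hg hq) hg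
    have hfix : (g * q * g) xv = xv := by
      show g (q (g xv)) = xv
      rw [e, h.neg hq, eq', show act (toR p.val) xv = xv from (by decide +kernel : ∀ p : Fin 6, act (toR p.val) xv = xv) p,
        h.neg hg, e, neg_neg]
    have h2 := h.isPerm_of_fix hm hfix
    rw [h.col_mul (mul_mem hg hq) hg, h.col_mul hg hq, hqc, hc, hp] at h2
    exact Bool.false_ne_true h2

include h in
/-- The group is monomial after a base change. -/
theorem LinData.monomial : ∃ b : ZMod 3, ∀ g ∈ K, ∃ r : Fin 48, ∀ v, g (Lb b v) = Lb b (act r v) := by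
  classical
  let O : Finset V3 := Finset.univ.filter fun v => ∃ g ∈ K, g xv = v
  have hO : ∀ {v}, v ∈ O ↔ ∃ g ∈ K, g xv = v := fun {v} => by simp [O]
  have hmove : ∀ {v} {g : Perm V3}, g ∈ K → v ∈ O → g v ∈ O := fun {v g} hg hv => by
    obtain ⟨k, hk, rfl⟩ := hO.mp hv
    exact hO.mpr ⟨g * k, mul_mem hg hk, rfl⟩
  have hperm : ∀ (p : Fin 6) (v : V3), v ∈ O → permV p v ∈ O := fun p v hv => by
    obtain ⟨q, hq, e⟩ := h.perms (toR p.val) (by rw [toR]; show p.val % 48 < 6; omega)
    rw [permV_perm, ← e]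
    exact hmove hq hv
  let f : Fin 8 → Bool := fun i => decide (orbRep i ∈ O)
  have hpat : ∀ v, patMem f v = true ↔ v ∈ O := by
    intro v
    rw [patMem, Bool.or_eq_true, beq_iff_eq, List.any_eq_true]
    constructor
    · rintro (rfl | ⟨i, -, hi⟩)
      · exact hO.mpr ⟨1, one_mem K, rfl⟩
      · rw [Bool.and_eq_true, List.any_eq_true] at hi
        obtain ⟨hi, p, hp, e⟩ := hi
        rw [← beq_iff_eq.mp e]
        exact hperm ⟨p, List.mem_range.mp hp⟩ _ (of_decide_eq_true hi)
    · intro hv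
      rcases orbit_cover v with rfl | rfl | ⟨i, p, e⟩
      · obtain ⟨g, hg, e⟩ := hO.mp hv
        rw [← h.zero hg] at e
        exact absurd (g.injective e) (by decide)
      · exact Or.inl rfl
      · refine Or.inr ⟨i, List.mem_finRange i, ?_⟩
        rw [Bool.and_eq_true, List.any_eq_true]
        refine ⟨decide_eq_true ?_, p.val, List.mem_range.mpr p.isLt, beq_iff_eq.mpr e⟩
        obtain ⟨q, hq⟩ := (by decide +kernel : ∀ p : Fin 6, ∃ q : Fin 6, ∀ w : V3, permV q (permV p w) = w) p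
        have := hperm q v hv
        rwa [← e, hq] at this
  have h7 : f 7 = false := decide_eq_false fun hm => by
    obtain ⟨g, hg, e⟩ := hO.mp hm
    exact h.no_flat hg e
  have hs : f 0 = true → ∀ v, v ∈ O → -v ∈ O := fun h0 v hv => by
    obtain ⟨g, hg, e⟩ := hO.mp (of_decide_eq_true h0)
    obtain ⟨k, hk, rfl⟩ := hO.mp hv
    refine hO.mpr ⟨k * g, mul_mem hk hg, ?_⟩
    show k (g xv) = _
    rw [e, show orbRep 0 = -xv from rfl, h.neg hk]
  have ha : f 0 = false → ∀ v, v ∈ O → -v ∉ O := fun h0 v hv hv' => by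
    obtain ⟨k, hk, rfl⟩ := hO.mp hv
    obtain ⟨l, hl, e⟩ := hO.mp hv'
    refine of_decide_eq_false h0 (hO.mpr ⟨k⁻¹ * l, mul_mem (inv_mem hk) hl, ?_⟩)
    show k⁻¹ (l xv) = -xv
    rw [e, h.neg (inv_mem hk), Perm.inv_def, Equiv.symm_apply_apply]
  have hn : ∀ v w : V3, v = -w → decide (v ∈ O) = decide (-w ∈ O) := fun v w e => by rw [e]
  have hcard : patCard f = O.card := by
    rw [patCard, List.filter_congr (q := fun i => decide (vOf i ∈ O)) fun i _ => by
      rw [eq_comm, Bool.eq_iff_iff, decide_eq_true_iff]; exact (hpat _).symm]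
    have hl : ∀ P : V3 → Prop, ∀ [DecidablePred P],
        ((List.range 27).filter fun i => decide (P (vOf i))).length = (Finset.univ.filter P).card := by
      intro P _
      have hb : ((List.range 27).map vOf).Perm (Finset.univ : Finset V3).toList := by
        refine (List.perm_ext_iff_of_nodup (by decide +kernel) (Finset.nodup_toList _)).mpr fun v => ?_
        simp only [Finset.mem_toList, Finset.mem_univ, iff_true]
        exact (by decide +kernel : ∀ v : V3, v ∈ (List.range 27).map vOf) v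
      rw [Finset.card_def, Finset.filter_val, ← Multiset.coe_card, ← Finset.coe_toList, ← Multiset.coe_eq_coe.mpr hb,
        Multiset.filter_coe, Multiset.coe_card, Multiset.coe_card, List.filter_map, List.length_map]
      rfl
    rw [hl (fun v => v ∈ O)]
    congr 1
    simp
  -- the orbit formula
  have hK : Nat.card K = Nat.card (MulAction.stabilizer K xv) * O.card := by
    rw [← Fintype.card_coe O, ← Nat.card_eq_fintype_card (α := O)]
    have e : Nat.card O = Nat.card (MulAction.orbit K xv) := Nat.card_congr (Equiv.subtypeEquivRight fun v => by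
      rw [hO, MulAction.mem_orbit_iff]
      exact ⟨fun ⟨g, hg, e⟩ => ⟨⟨g, hg⟩, e⟩, fun ⟨g, e⟩ => ⟨g, g.2, e⟩⟩)
    rw [e, ← Nat.card_congr (MulAction.orbitProdStabilizerEquivGroup K xv), Nat.card_prod, mul_comm]
  have hne : ∀ q : ℕ, q = 5 ∨ q = 7 → ¬ q ∣ Nat.card K := by
    intro q hq hd
    haveI : Fact q.Prime := ⟨by rcases hq with rfl | rfl <;> norm_num⟩
    obtain ⟨g, hg⟩ := exists_prime_orderOf_dvd_card' q hd
    have hp : IsPGroup q (Subgroup.zpowers g) := IsPGroup.of_card (n := 1) (by rw [Nat.card_zpowers, hg, pow_one])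
    have hmod := hp.card_modEq_card_fixedPoints (α := V3)
    let F : AddSubgroup V3 :=
      { carrier := {v | (g : Perm V3) v = v}
        zero_mem' := h.zero g.2
        add_mem' := fun {a b} ha hb => by
          show (g : Perm V3) (a + b) = a + b
          rw [h.add _ g.2, show (g : Perm V3) a = a from ha, show (g : Perm V3) b = b from hb]
        neg_mem' := fun {a} ha => by
          show (g : Perm V3) (-a) = -a
          rw [h.neg g.2, show (g : Perm V3) a = a from ha] }
    have eF : Nat.card (MulAction.fixedPoints (Subgroup.zpowers g) V3) = Nat.card F :=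
      Nat.card_congr (Equiv.subtypeEquivRight fun v => by
        rw [MulAction.mem_fixedPoints]
        refine ⟨fun hv => hv ⟨g, Subgroup.mem_zpowers g⟩, fun hv => ?_⟩
        rintro ⟨y, hy⟩
        have hst : g ∈ MulAction.stabilizer K v := hv
        exact (Subgroup.zpowers_le.mpr hst) hy)
    rw [eF, show Nat.card V3 = 27 by rw [Nat.card_eq_fintype_card]; rfl] at hmod
    have hd27 : Nat.card F ∣ 3 ^ 3 := by
      have := F.card_addSubgroup_dvd_card
      rwa [show Nat.card V3 = 27 by rw [Nat.card_eq_fintype_card]; rfl] at this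
    obtain ⟨i, hi, hi'⟩ := (Nat.dvd_prime_pow Nat.prime_three).mp hd27
    rw [hi', Nat.ModEq] at hmod
    have htop : Nat.card F = 27 := by
      rcases hq with rfl | rfl <;> interval_cases i <;> simp_all
    have hg1 : g = 1 := by
      refine Subtype.ext (Equiv.ext fun v => ?_)
      have : F = ⊤ := AddSubgroup.eq_top_of_card_eq _ (by rw [htop, Nat.card_eq_fintype_card]; rfl)
      exact (this ▸ AddSubgroup.mem_top v : v ∈ F)
    rw [hg1, orderOf_one] at hg
    rcases hq with rfl | rfl <;> norm_num at hg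
  have h3 : ¬ 3 ∣ O.card := fun hd => h.nine (by
    rw [hK]
    show 3 * 3 ∣ _
    refine mul_dvd_mul ?_ hd
    obtain ⟨g, hg, e⟩ := h.perms 4 (by decide)
    let s : MulAction.stabilizer K xv := ⟨⟨g, hg⟩, show g xv = xv by rw [e]; decide +kernel⟩
    have ho : orderOf s = 3 := by
      haveI : Fact (Nat.Prime 3) := ⟨Nat.prime_three⟩
      refine orderOf_eq_prime (Subtype.ext (Subtype.ext (Equiv.ext fun v => ?_))) (fun e1 => ?_)
      · show g (g (g v)) = v
        rw [e, e, e]
        exact (by decide +kernel : ∀ v : V3, act 4 (act 4 (act 4 v)) = v) v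
      · have := congrArg (fun k : MulAction.stabilizer K xv => ((k : K) : Perm V3) (1, 0, 0)) e1
        change g (1, 0, 0) = (1, 0, 0) at this
        rw [e] at this
        exact absurd this (by decide +kernel)
    exact ho ▸ orderOf_dvd_natCard s)
  rcases pattern_ok f h7
    (fun h0 => by
      have hp : ∀ i j : Fin 8, -orbRep i = orbRep j → f i = f j := fun i j e => by
        simp only [f, decide_eq_decide]
        exact ⟨fun hv => e ▸ hs h0 _ hv, fun hv => by rw [← neg_neg (orbRep i), e]; exact hs h0 _ hv⟩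
      exact ⟨hp 1 2 (by decide +kernel), hp 3 4 (by decide +kernel), hp 5 6 (by decide +kernel)⟩)
    (fun h0 => by
      refine ⟨?_, ?_, ?_⟩ <;> simp only [f, decide_eq_true_iff] <;> rintro ⟨h1, h2⟩ <;>
        exact ha h0 _ h1 (by convert h2 using 1; decide +kernel))
    (hcard ▸ h3) (hcard ▸ fun hd => hne 5 (Or.inl rfl) (hK ▸ dvd_mul_of_dvd_right hd _))
    (hcard ▸ fun hd => hne 7 (Or.inr rfl) (hK ▸ dvd_mul_of_dvd_right hd _)) with hsmall | ⟨b, hb, hu⟩
  · refine ⟨0, fun g hg => ?_⟩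
    have h1 : ∀ v : V3, Lb 0 v = v := by decide +kernel
    simp only [h1]
    have hgx : g xv = xv ∨ g xv = -xv := by
      have := (hpat _).mpr (hO.mpr ⟨g, hg, rfl⟩)
      rw [patMem, Bool.or_eq_true, beq_iff_eq, List.any_eq_true] at this
      rcases this with e | ⟨i, -, hi⟩
      · exact Or.inl e
      · rw [Bool.and_eq_true, List.any_eq_true] at hi
        obtain ⟨hi, p, hp, e⟩ := hi
        by_cases hi0 : i = 0
        · subst hi0
          right
          rw [← beq_iff_eq.mp e]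
          exact (by decide +kernel : ∀ p ∈ List.range 6, permV p (orbRep 0) = -xv) p hp
        · rw [hsmall i hi0] at hi
          exact absurd hi Bool.false_ne_true
    rcases hgx with e | e
    · obtain ⟨r, -, hr⟩ := h.stab g hg e
      exact ⟨r, hr⟩
    · exact h.of_neg hg e
  · refine ⟨b, fun g hg => ?_⟩
    have hneg : ∀ v ∈ Ob b, -v ∈ Ob b := (by decide +kernel : ∀ b : ZMod 3, ∀ v ∈ Ob b, -v ∈ Ob b) b
    have hOb : ∀ v ∈ Ob b, g v ∈ Ob b := by
      have hstep : ∀ v ∈ O, g v ∈ Ob b ∧ g (-v) ∈ Ob b := fun v hv => by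
        have := hb _ ((hpat _).mpr (hmove hg hv))
        exact ⟨this, by rw [h.neg hg]; exact hneg _ this⟩
      intro v hv
      rw [Bool.or_eq_true, hpat, hpat] at hu
      have hcover : v = xv ∨ v = -xv ∨ ∃ p : Fin 6, v = permV p ((Ob b).getD 2 0) ∨ v = -permV p ((Ob b).getD 2 0) :=
        (by decide +kernel : ∀ b : ZMod 3, ∀ v ∈ Ob b, v = xv ∨ v = -xv ∨
          ∃ p : Fin 6, v = permV p ((Ob b).getD 2 0) ∨ v = -permV p ((Ob b).getD 2 0)) b v hv
      rcases hcover with rfl | rfl | ⟨p, hp⟩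
      · exact (hstep _ (hO.mpr ⟨1, one_mem K, rfl⟩)).1
      · exact (hstep _ (hO.mpr ⟨1, one_mem K, rfl⟩)).2
      · have hpn : ∀ w : V3, permV p (-w) = -permV p w :=
          (by decide +kernel : ∀ p : Fin 6, ∀ w : V3, permV p (-w) = -permV p w) p
        rcases hu with hu | hu <;> rcases hp with rfl | rfl
        · have := (hstep _ (hperm p _ hu)).2
          rwa [hpn, neg_neg] at this
        · have := (hstep _ (hperm p _ hu)).1
          rwa [hpn] at this
        · exact (hstep _ (hperm p _ hu)).1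
        · exact (hstep _ (hperm p _ hu)).2
    obtain ⟨m0, m1, m2⟩ := (by decide +kernel : ∀ b : ZMod 3, xv ∈ Ob b ∧ (Ob b).getD 2 0 ∈ Ob b ∧
      (Ob b).getD 3 0 ∈ Ob b) b
    have hcol : cols g = mcomp (g xv, g ((Ob b).getD 2 0), g ((Ob b).getD 3 0)) (frameInv b) := by
      unfold mcomp
      refine congrArg cols (funext fun v => ?_)
      have hbase : ∀ w, mapp (g xv, g ((Ob b).getD 2 0), g ((Ob b).getD 3 0)) w =
          g (mapp (xv, (Ob b).getD 2 0, (Ob b).getD 3 0) w) := by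
        intro w
        have hadd : ∀ u u', g (mapp (xv, (Ob b).getD 2 0, (Ob b).getD 3 0) (u + u')) =
            g (mapp (xv, (Ob b).getD 2 0, (Ob b).getD 3 0) u) + g (mapp (xv, (Ob b).getD 2 0, (Ob b).getD 3 0) u') :=
          fun u u' => by rw [mapp_add, h.add g hg]
        rw [← mapp_cols (f := fun u => g (mapp (xv, (Ob b).getD 2 0, (Ob b).getD 3 0) u)) hadd w]
        congr 1
        simp [cols, mapp]
      rw [hbase, frameInv_ok]
    have hall : ((Ob b).all fun o => (Ob b).elem (mapp (cols g) o)) = true := by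
      rw [List.all_eq_true]
      intro o ho
      rw [List.elem_eq_mem, decide_eq_true_iff, h.mapp_col hg]
      exact hOb o ho
    rw [hcol] at hall
    have hin := orbit_ok b _ (hOb _ m0) _ (hOb _ m1) _ (hOb _ m2) hall (hcol ▸ h.not_singular hg)
    rw [← hcol, inW, List.any_eq_true] at hin
    obtain ⟨r, -, e⟩ := hin
    refine ⟨toR r, fun v => ?_⟩
    rw [← h.mapp_col hg, beq_iff_eq.mp e, mapp_cols (fun u w => by rw [Lb_add, act_add, Lb_add]), (Lb_facts b).1]

end CfsgLib.Sym9Three
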