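import Cfsg.Agent.Lib.Sym9Three.Local

set_option autoImplicit false
set_option linter.style.haveILetI false

/-!
Orders of the normalizer of the translations and of centralizers inside it.
-/

namespace CfsgLib.Sym9Three

open Subgroup

universe u

variable {G : Type u} [Group G]

namespace Frame

variable (F : Frame G)

/-- The elements of the normalizer with a given property, counted in the model. -/
theorem card_filter (p : Mon → Prop) [DecidablePred p] (q : G → Prop) (hq : ∀ g, q g → g ∈ F.N)
    (hpq : ∀ m, m ∈ Sub F.k → (q (F.el m) ↔ p m)) :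
    Nat.card {g : G // q g} = (Finset.univ.filter fun m : Mon => inR F.k m.g = true ∧ p m).card := by
  classical
  rw [← Nat.card_eq_finsetCard]
  refine (Nat.card_congr (Equiv.ofBijective
    (fun m : ↥(Finset.univ.filter fun m : Mon => inR F.k m.g = true ∧ p m) =>
      (⟨F.el m.1, (hpq _ (Finset.mem_filter.mp m.2).2.1).mpr (Finset.mem_filter.mp m.2).2.2⟩ : {g : G // q g}))
    ⟨fun a b h => Subtype.ext (F.el_inj _ (Finset.mem_filter.mp a.2).2.1 _ (Finset.mem_filter.mp b.2).2.1
      (congrArg Subtype.val h)), fun z => ?_⟩)).symm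
  obtain ⟨m, hm, e⟩ := (F.mem_N _).mp (hq _ z.2)
  exact ⟨⟨m, Finset.mem_filter.mpr ⟨Finset.mem_univ _, hm, (hpq m hm).mp (e ▸ z.2)⟩⟩, Subtype.ext e⟩

/-- The order of the centralizer of an element whose centralizer normalizes the translations. -/
theorem card_cent {a : Mon} (ha : a ∈ Sub F.k) (hle : ∀ g, g * F.el a = F.el a * g → g ∈ F.N) :
    Nat.card (Subgroup.centralizer ({F.el a} : Set G)) =
      (Finset.univ.filter fun m : Mon => inR F.k m.g = true ∧ m * a = a * m).card := by
  rw [← F.card_filter (fun m => m * a = a * m) (fun g => g * F.el a = F.el a * g) hle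
    fun m hm => F.el_comm_iff hm ha]
  exact Nat.card_congr (Equiv.subtypeEquivRight fun g => Subgroup.mem_centralizer_singleton_iff)

/-- The order of the normalizer. -/
theorem card_N : Nat.card F.N = (Finset.univ.filter fun m : Mon => inR F.k m.g = true ∧ True).card := by
  rw [← F.card_filter (fun _ => True) (fun g => g ∈ F.N) (fun _ h => h) fun m hm => iff_true_intro (F.el_mem_N hm)]

theorem J_le : F.J ≤ F.N := Subgroup.le_normalizer

/-- The translations are normal if all their conjugates lie in the normalizer. -/
theorem J_normal [Finite G] (h : ∀ g u, g * F.j u * g⁻¹ ∈ F.N) : F.J.Normal := by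
  rw [← Subgroup.normalizer_eq_top_iff, eq_top_iff]
  exact fun g _ => F.mem_N_of_conj_le (h g)

end Frame

end CfsgLib.Sym9Three
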