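import Cfsg.Agent.Lib.Sym9Three.Inv9
import Mathlib.Algebra.BigOperators.Fin
import Mathlib.Algebra.Group.MinimalAxioms
import Mathlib.Tactic.LinearCombination
import Mathlib.Tactic.Ring

set_option autoImplicit false

/-!
The central extension by a group of order three whose Sylow subgroup is extraspecial: the transfer of the
bilinear cocycle of the normalizer.
-/

namespace CfsgLib.Sym9Three

universe u

/-- The bilinear cocycle on the normalizer. -/
def beta (p q : P18) : ZMod 3 := if p.2 then p.1.1 * (-q.1.2) else p.1.1 * q.1.2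

theorem beta_cocycle : ∀ a b c : P18, beta a b + beta (pm a b) c = beta b c + beta a (pm b c) := by decide +kernel

theorem beta_one : ∀ p : P18, beta (0, false) p = 0 ∧ beta p (0, false) = 0 := by decide +kernel

namespace Inv9

variable {G : Type u} [Group G] [Finite G] (D : Inv9 G)

/-- The transferred cocycle. -/
noncomputable def cyc (g h : G) : ZMod 3 :=
  let := Fintype.ofFinite (G ⧸ D.N)
  ∑ q : G ⧸ D.N, beta (D.co g (h • q)) (D.co h q)

theorem cyc_cocycle (g h k : G) : D.cyc g h + D.cyc (g * h) k = D.cyc h k + D.cyc g (h * k) := by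
  let := Fintype.ofFinite (G ⧸ D.N)
  simp only [cyc]
  rw [show ∑ q : G ⧸ D.N, beta (D.co g (h • q)) (D.co h q) =
      ∑ r : G ⧸ D.N, beta (D.co g (h • k • r)) (D.co h (k • r)) from
    (Equiv.sum_comp (MulAction.toPerm k) (fun q => beta (D.co g (h • q)) (D.co h q))).symm,
    ← Finset.sum_add_distrib, ← Finset.sum_add_distrib]
  refine Finset.sum_congr rfl fun r _ => ?_
  rw [D.co_mul g h, D.co_mul h k, mul_smul]
  exact beta_cocycle _ _ _

theorem cyc_one_left (h : G) : D.cyc 1 h = 0 := by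
  let := Fintype.ofFinite (G ⧸ D.N)
  exact Finset.sum_eq_zero fun q _ => by rw [D.co_one]; exact (beta_one _).1

theorem cyc_one_right (g : G) : D.cyc g 1 = 0 := by
  let := Fintype.ofFinite (G ⧸ D.N)
  exact Finset.sum_eq_zero fun q _ => by rw [D.co_one]; exact (beta_one _).2

theorem cyc_emb (v w : V2) : D.cyc (D.emb v) (D.emb w) = v.1 * w.2 := by
  let := Fintype.ofFinite (G ⧸ D.N)
  classical
  simp only [cyc]
  rw [Finset.sum_eq_single D.q0 (fun q _ hq => by rw [D.co_emb hq]; exact (beta_one _).2)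
    (fun h => absurd (Finset.mem_univ _) h), D.co_emb_q0, D.emb_smul_q0, D.co_emb_q0]
  rfl

/-- The extension. -/
@[ext]
structure Cov (D : Inv9 G) where
  /-- the image -/
  g : G
  /-- the central coordinate -/
  z : ZMod 3

noncomputable instance : Mul D.Cov := ⟨fun a b => ⟨a.g * b.g, a.z + b.z + D.cyc a.g b.g⟩⟩

instance : One D.Cov := ⟨⟨1, 0⟩⟩

noncomputable instance : Inv D.Cov := ⟨fun a => ⟨a.g⁻¹, -a.z - D.cyc a.g⁻¹ a.g⟩⟩

theorem mul_def (a b : D.Cov) : a * b = ⟨a.g * b.g, a.z + b.z + D.cyc a.g b.g⟩ := rfl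

theorem one_def : (1 : D.Cov) = ⟨1, 0⟩ := rfl

noncomputable instance : Group D.Cov :=
  Group.ofLeftAxioms
    (fun a b c => by
      apply Cov.ext
      · exact mul_assoc _ _ _
      · show a.z + b.z + D.cyc a.g b.g + c.z + D.cyc (a.g * b.g) c.g =
          a.z + (b.z + c.z + D.cyc b.g c.g) + D.cyc a.g (b.g * c.g)
        linear_combination D.cyc_cocycle a.g b.g c.g)
    (fun a => by
      apply Cov.ext
      · exact one_mul _
      · show 0 + a.z + D.cyc 1 a.g = a.z
        rw [D.cyc_one_left]; ring)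
    (fun a => by
      apply Cov.ext
      · exact inv_mul_cancel _
      · show -a.z - D.cyc a.g⁻¹ a.g + a.z + D.cyc a.g⁻¹ a.g = 0
        ring)

/-- The elements as pairs. -/
def covEquiv : D.Cov ≃ G × ZMod 3 where
  toFun a := (a.g, a.z)
  invFun p := ⟨p.1, p.2⟩
  left_inv _ := rfl
  right_inv _ := rfl

instance : Finite D.Cov := Finite.of_equiv _ D.covEquiv.symm

/-- The projection. -/
noncomputable def proj : D.Cov →* G where
  toFun a := a.g
  map_one' := rfl
  map_mul' _ _ := rfl

theorem proj_apply (a : D.Cov) : D.proj a = a.g := rfl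

/-- The central elements. -/
def zel (k : ZMod 3) : D.Cov := ⟨1, k⟩

theorem zel_mul (k : ZMod 3) (a : D.Cov) : D.zel k * a = ⟨a.g, k + a.z⟩ := by
  apply Cov.ext
  · exact one_mul _
  · show k + a.z + D.cyc 1 a.g = k + a.z
    rw [D.cyc_one_left, add_zero]

theorem zel_comm (k : ZMod 3) (a : D.Cov) : D.zel k * a = a * D.zel k := by
  rw [zel_mul]
  apply Cov.ext
  · exact (mul_one _).symm
  · show k + a.z = a.z + k + D.cyc a.g 1
    rw [D.cyc_one_right, add_zero, add_comm]

theorem zel_add (j k : ZMod 3) : D.zel (j + k) = D.zel j * D.zel k := (D.zel_mul j (D.zel k)).symm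

theorem eq_zel {a : D.Cov} (h : a.g = 1) : a = D.zel a.z := Cov.ext h rfl

theorem comm_solve : ∀ v : V2, v ≠ 0 → ∀ k : ZMod 3, ∃ w : V2, w.1 * v.2 - v.1 * w.2 = k := by decide +kernel

/-- All lifts of a nontrivial element of the subgroup are conjugate. -/
theorem lift_isConj {v : V2} (hv : v ≠ 0) (i j : ZMod 3) : IsConj (⟨D.emb v, i⟩ : D.Cov) ⟨D.emb v, j⟩ := by
  obtain ⟨w, hw⟩ := comm_solve v hv (j - i)
  refine isConj_iff.mpr ⟨⟨D.emb w, 0⟩, ?_⟩
  rw [mul_inv_eq_iff_eq_mul]
  apply Cov.ext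
  · show D.emb w * D.emb v = D.emb v * D.emb w
    rw [← D.emb_add, ← D.emb_add, add_comm]
  · show 0 + i + D.cyc (D.emb w) (D.emb v) = j + 0 + D.cyc (D.emb v) (D.emb w)
    rw [D.cyc_emb, D.cyc_emb]
    linear_combination hw

/-- An involution has exactly one lift that is an involution. -/
theorem lift_invol {a b : D.Cov} (ha : a * a = 1) (hb : b * b = 1) (h : a.g = b.g) : a = b := by
  apply Cov.ext h
  have e1 : a.z + a.z + D.cyc a.g a.g = 0 := congrArg Cov.z ha
  have e2 : b.z + b.z + D.cyc b.g b.g = 0 := congrArg Cov.z hb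
  rw [h] at e1
  have h2 : ∀ x y : ZMod 3, x + x = y + y → x = y := by decide +kernel
  exact h2 _ _ (by linear_combination e1 - e2)

theorem exists_lift_invol {g : G} (hg : g * g = 1) : ∃ a : D.Cov, a.g = g ∧ a * a = 1 :=
  ⟨⟨g, D.cyc g g⟩, rfl, Cov.ext hg (show D.cyc g g + D.cyc g g + D.cyc g g = 0 from
    (by decide +kernel : ∀ x : ZMod 3, x + x + x = 0) _)⟩

end Inv9

end CfsgLib.Sym9Three
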