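import Mathlib.GroupTheory.Sylow
import Mathlib.Data.ZMod.Basic
import Mathlib.GroupTheory.GroupAction.Quotient
import Mathlib.Algebra.BigOperators.Group.Finset.Basic

set_option autoImplicit false

/-!
An elementary abelian subgroup of order nine that is the centralizer of each of its nontrivial elements and is
inverted by an involution generating its normalizer over it.
-/

namespace CfsgLib.Sym9Three

/-- The coordinates. -/
abbrev V2 := ZMod 3 × ZMod 3

/-- The normalizer in coordinates. -/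
abbrev P18 := V2 × Bool

/-- The product of the normalizer in coordinates. -/
def pm (p q : P18) : P18 := (if p.2 then p.1 - q.1 else p.1 + q.1, xor p.2 q.2)

/-- The inverse of the normalizer in coordinates. -/
def pinv (p : P18) : P18 := (if p.2 then p.1 else -p.1, p.2)

theorem pm_assoc : ∀ p q r : P18, pm (pm p q) r = pm p (pm q r) := by decide +kernel

theorem pm_one : ∀ p : P18, pm (0, false) p = p ∧ pm p (0, false) = p ∧ pm (pinv p) p = (0, false) := by
  decide +kernel

universe u

/-- The data. -/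
structure Inv9 (G : Type u) [Group G] where
  /-- the elementary abelian subgroup -/
  emb : V2 → G
  emb_add : ∀ v w, emb (v + w) = emb v * emb w
  emb_inj : Function.Injective emb
  /-- the inverting involution -/
  t : G
  tt : t * t = 1
  t_emb : ∀ v, t * emb v = emb (-v) * t
  ctrl : ∀ (g : G) (v w : V2), v ≠ 0 → g * emb v * g⁻¹ = emb w → ∃ x : V2, g = emb x ∨ g = emb x * t
  cent : ∀ (g : G) (v : V2), v ≠ 0 → g * emb v = emb v * g → ∃ x : V2, g = emb x

namespace Inv9

variable {G : Type u} [Group G] (D : Inv9 G)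

theorem emb_zero : D.emb 0 = 1 := by
  have h := D.emb_add 0 0
  rw [add_zero] at h
  exact mul_left_cancel (a := D.emb 0) (by rw [mul_one]; exact h.symm)

theorem emb_neg (v : V2) : D.emb (-v) = (D.emb v)⁻¹ := by
  rw [eq_inv_iff_mul_eq_one, ← D.emb_add, neg_add_cancel, D.emb_zero]

/-- The normalizer from its coordinates. -/
def n2 (p : P18) : G := if p.2 then D.emb p.1 * D.t else D.emb p.1

theorem n2_mul (p q : P18) : D.n2 (pm p q) = D.n2 p * D.n2 q := by
  obtain ⟨v, e⟩ := p
  obtain ⟨w, f⟩ := q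
  cases e <;> cases f
  · exact D.emb_add v w
  · show D.emb (v + w) * D.t = D.emb v * (D.emb w * D.t)
    rw [D.emb_add, mul_assoc]
  · show D.emb (v - w) * D.t = D.emb v * D.t * D.emb w
    rw [sub_eq_add_neg, D.emb_add, mul_assoc, mul_assoc, ← D.t_emb]
  · show D.emb (v - w) = D.emb v * D.t * (D.emb w * D.t)
    rw [sub_eq_add_neg, D.emb_add, show D.emb v * D.t * (D.emb w * D.t) = D.emb v * (D.t * D.emb w) * D.t by group,
      D.t_emb, show D.emb v * (D.emb (-w) * D.t) * D.t = D.emb v * D.emb (-w) * (D.t * D.t) by group, D.tt,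
      mul_one]

theorem n2_one : D.n2 (0, false) = 1 := D.emb_zero

theorem t_notin (x : V2) : D.t ≠ D.emb x := by
  intro e
  have h := D.t_emb (1, 0)
  rw [e, ← D.emb_add, ← D.emb_add] at h
  have := D.emb_inj h
  revert this
  generalize x = y
  revert y
  decide +kernel

theorem n2_inj : Function.Injective D.n2 := by
  rintro ⟨v, e⟩ ⟨w, f⟩ h
  have key : ∀ v w : V2, D.emb v ≠ D.emb w * D.t := fun v w h => D.t_notin (-w + v) (by
    rw [D.emb_add, h, D.emb_neg, inv_mul_cancel_left])
  cases e <;> cases f <;> simp only [n2, Bool.false_eq_true, if_false, if_true] at h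
  · rw [D.emb_inj h]
  · exact absurd h (key v w)
  · exact absurd h.symm (key w v)
  · rw [D.emb_inj (mul_right_cancel h)]

/-- The normalizer. -/
def N : Subgroup G where
  carrier := Set.range D.n2
  mul_mem' := by
    rintro _ _ ⟨p, rfl⟩ ⟨q, rfl⟩
    exact ⟨pm p q, D.n2_mul p q⟩
  one_mem' := ⟨_, D.n2_one⟩
  inv_mem' := by
    rintro _ ⟨p, rfl⟩
    refine ⟨pinv p, eq_inv_iff_mul_eq_one.mpr ?_⟩
    rw [← D.n2_mul, (pm_one p).2.2, D.n2_one]

theorem mem_N_of_ctrl {g : G} {v w : V2} (hv : v ≠ 0) (h : g * D.emb v * g⁻¹ = D.emb w) : g ∈ D.N := by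
  obtain ⟨x, e | e⟩ := D.ctrl g v w hv h
  · exact ⟨(x, false), e.symm⟩
  · exact ⟨(x, true), e.symm⟩

theorem emb_mem (v : V2) : D.emb v ∈ D.N := ⟨(v, false), rfl⟩

theorem three_in_N : ∀ p : P18, pm (pm p p) p = (0, false) → p.2 = false := by decide +kernel

theorem emb_cube (v : V2) : D.emb v ^ 3 = 1 := by
  rw [pow_three, ← D.emb_add, ← D.emb_add, ← D.emb_zero]
  congr 1
  revert v
  decide +kernel

/-- The base point. -/
def q0 : G ⧸ D.N := ((1 : G) : G ⧸ D.N)

/-- A nontrivial element of the subgroup fixes only the base point. -/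
theorem free {v : V2} (hv : v ≠ 0) {q : G ⧸ D.N} (h : D.emb v • q = q) : q = D.q0 := by
  induction q using QuotientGroup.induction_on with
  | H g =>
    rw [MulAction.Quotient.smul_coe, smul_eq_mul, eq_comm, QuotientGroup.eq] at h
    obtain ⟨p, hp⟩ := h
    have h3 : (g⁻¹ * (D.emb v * g)) ^ 3 = 1 := by
      rw [show g⁻¹ * (D.emb v * g) = g⁻¹ * D.emb v * g⁻¹⁻¹ by group, conj_pow, D.emb_cube, mul_one, mul_inv_cancel]
    have hp2 : p.2 = false := three_in_N p (D.n2_inj (by
      rw [D.n2_mul, D.n2_mul, hp, D.n2_one, ← h3, pow_three, mul_assoc]))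
    obtain ⟨w, e⟩ := p
    obtain rfl : e = false := hp2
    refine QuotientGroup.eq.mpr ?_
    rw [mul_one]
    refine D.mem_N_of_ctrl (w := w) hv ?_
    rw [show D.emb w = g⁻¹ * (D.emb v * g) from hp]
    group

theorem emb_smul_q0 (v : V2) : D.emb v • D.q0 = D.q0 := by
  rw [q0, MulAction.Quotient.smul_coe, smul_eq_mul, mul_one, QuotientGroup.eq, mul_one]
  exact inv_mem (D.emb_mem v)

/-- Points in one orbit of the subgroup. -/
def orb : Setoid (G ⧸ D.N) where
  r q q' := ∃ v : V2, D.emb v • q = q'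
  iseqv :=
    { refl := fun q => ⟨0, by rw [D.emb_zero, one_smul]⟩
      symm := fun {q q'} ⟨v, h⟩ => ⟨-v, by rw [← h, smul_smul, ← D.emb_add, neg_add_cancel, D.emb_zero, one_smul]⟩
      trans := fun {a b c} ⟨v, h⟩ ⟨w, h'⟩ => ⟨w + v, by rw [D.emb_add, mul_smul, h, h']⟩ }

/-- The representative of the orbit. -/
noncomputable def base (q : G ⧸ D.N) : G ⧸ D.N := (Quotient.mk D.orb q).out

theorem base_spec (q : G ⧸ D.N) : ∃ v : V2, D.emb v • D.base q = q :=
  Quotient.exact (Quotient.out_eq (Quotient.mk D.orb q))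

theorem base_smul (v : V2) (q : G ⧸ D.N) : D.base (D.emb v • q) = D.base q := by
  have : Quotient.mk D.orb (D.emb v • q) = Quotient.mk D.orb q :=
    (Quotient.sound (show D.orb.r q (D.emb v • q) from ⟨v, rfl⟩)).symm
  rw [base, base, this]

/-- The shift from the representative. -/
noncomputable def shift (q : G ⧸ D.N) : V2 := (D.base_spec q).choose

theorem shift_spec (q : G ⧸ D.N) : D.emb (D.shift q) • D.base q = q := (D.base_spec q).choose_spec

open Classical in
/-- The section. -/
noncomputable def sec (q : G ⧸ D.N) : G := if q = D.q0 then 1 else D.emb (D.shift q) * (D.base q).out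

theorem sec_spec (q : G ⧸ D.N) : ((D.sec q : G) : G ⧸ D.N) = q := by
  unfold sec
  split
  · next h => exact h.symm
  · rw [← smul_eq_mul, ← MulAction.Quotient.smul_coe, QuotientGroup.out_eq', D.shift_spec]

theorem smul_ne_q0 {q : G ⧸ D.N} (hq : q ≠ D.q0) (v : V2) : D.emb v • q ≠ D.q0 := fun e => hq (by
  rw [← one_smul G q, ← D.emb_zero, ← neg_add_cancel v, D.emb_add, mul_smul, e, D.emb_smul_q0])

theorem sec_smul {q : G ⧸ D.N} (hq : q ≠ D.q0) (v : V2) : D.sec (D.emb v • q) = D.emb v * D.sec q := by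
  rw [sec, sec, if_neg hq, if_neg (D.smul_ne_q0 hq v), D.base_smul, ← mul_assoc, ← D.emb_add]
  congr 2
  have hb : D.base q ≠ D.q0 := fun e => hq (by rw [← D.shift_spec q, e, D.emb_smul_q0])
  by_contra hne
  refine hb (D.free (v := -(v + D.shift q) + D.shift (D.emb v • q)) (fun e => hne ?_) ?_)
  · rw [neg_add_eq_zero] at e
    exact e.symm
  · have h := D.shift_spec (D.emb v • q)
    have h2 : D.emb (v + D.shift q) • D.base q = D.emb v • q := by rw [D.emb_add, mul_smul, D.shift_spec]
    rw [D.base_smul] at h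
    rw [D.emb_add, mul_smul, h, ← h2, smul_smul, ← D.emb_add, neg_add_cancel, D.emb_zero, one_smul]

theorem co_exists (g : G) (q : G ⧸ D.N) : ∃ p : P18, g * D.sec q = D.sec (g • q) * D.n2 p := by
  have h : (D.sec (g • q))⁻¹ * (g * D.sec q) ∈ D.N := by
    rw [← QuotientGroup.eq, D.sec_spec, ← smul_eq_mul, ← MulAction.Quotient.smul_coe, D.sec_spec]
  obtain ⟨p, hp⟩ := h
  exact ⟨p, by rw [hp, mul_inv_cancel_left]⟩

/-- The component of an element at a point. -/
noncomputable def co (g : G) (q : G ⧸ D.N) : P18 := (D.co_exists g q).choose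

theorem co_spec (g : G) (q : G ⧸ D.N) : g * D.sec q = D.sec (g • q) * D.n2 (D.co g q) :=
  (D.co_exists g q).choose_spec

theorem co_eq {g : G} {q : G ⧸ D.N} {p : P18} (h : g * D.sec q = D.sec (g • q) * D.n2 p) : D.co g q = p :=
  D.n2_inj (mul_left_cancel ((D.co_spec g q).symm.trans h))

theorem co_mul (g h : G) (q : G ⧸ D.N) : D.co (g * h) q = pm (D.co g (h • q)) (D.co h q) := by
  apply D.co_eq
  rw [D.n2_mul, mul_smul, ← mul_assoc, ← D.co_spec, mul_assoc g, mul_assoc g, ← D.co_spec]

theorem co_one (q : G ⧸ D.N) : D.co 1 q = (0, false) :=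
  D.co_eq (by rw [one_smul, D.n2_one, one_mul, mul_one])

theorem co_emb_q0 (v : V2) : D.co (D.emb v) D.q0 = (v, false) := by
  apply D.co_eq
  rw [D.emb_smul_q0, sec, if_pos rfl, mul_one, one_mul]
  rfl

theorem co_emb {q : G ⧸ D.N} (hq : q ≠ D.q0) (v : V2) : D.co (D.emb v) q = (0, false) := by
  apply D.co_eq
  rw [D.sec_smul hq, D.n2_one, mul_one]

end Inv9

end CfsgLib.Sym9Three
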