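import Cfsg.Agent.Lib.Sym9Three.InvPhi
import Mathlib.GroupTheory.Transfer

set_option autoImplicit false
set_option linter.style.haveILetI false

/-!
The function on the extension is a generalized character: it is one on each elementary subgroup.
-/

namespace CfsgLib.Sym9Three

open Cfsg CfsgLib.CharTheory Subgroup
open scoped ComplexConjugate

universe u

theorem chi_ne_zero (k : ZMod 3) : chi k ≠ 0 := fun e => by
  have := chi_norm k
  rw [e, zero_mul] at this
  exact zero_ne_one this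

theorem chi_sum_mul : ∀ x : ZMod 3, x ≠ 0 → chi (-(x * 0)) + chi (-(x * 1)) + chi (-(x * 2)) = 0 := by
  intro x hx
  have hs : chi 0 + (chi 1 + chi (-1)) = 0 := by
    rw [chi_zero, chi_pair, if_neg (by decide : (1 : ZMod 3) ≠ 0)]; norm_num
  rcases z3_cases x with rfl | rfl | rfl
  · exact absurd rfl hx
  · norm_num
    rw [show (-2 : ZMod 3) = 1 from rfl]
    linear_combination hs
  · rw [show (2 : ZMod 3) * 0 = 0 from rfl, show -((2 : ZMod 3) * 1) = 1 from rfl,
      show -((2 : ZMod 3) * 2) = -1 from rfl, neg_zero]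
    linear_combination hs

namespace Inv9

variable {G : Type u} [Group G] [Fintype G] (D : Inv9 G)

/-- The inverse image of the subgroup. -/
noncomputable def PH : Subgroup D.Cov := D.A.comap D.proj

theorem mem_PH {a : D.Cov} : a ∈ D.PH ↔ ∃ v, a.g = D.emb v := by
  refine ⟨fun ⟨w, hw⟩ => ⟨Multiplicative.toAdd w, hw.symm⟩, fun ⟨v, hv⟩ => ⟨Multiplicative.ofAdd v, hv.symm⟩⟩

/-- An element of the inverse image. -/
noncomputable def el (v : V2) (k : ZMod 3) : D.PH := ⟨⟨D.emb v, k⟩, D.mem_PH.mpr ⟨v, rfl⟩⟩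

theorem el_mul (v w : V2) (i j : ZMod 3) : D.el v i * D.el w j = D.el (v + w) (i + j + v.1 * w.2) := by
  apply Subtype.ext
  apply Cov.ext
  · exact (D.emb_add v w).symm
  · show i + j + D.cyc (D.emb v) (D.emb w) = _
    rw [D.cyc_emb]; rfl

theorem el_one : D.el 0 0 = 1 := Subtype.ext (Cov.ext D.emb_zero rfl)

theorem el_bij : Function.Bijective fun p : V2 × ZMod 3 => D.el p.1 p.2 := by
  refine ⟨fun p q h => ?_, fun a => ?_⟩
  · have h' := congrArg Subtype.val h
    exact Prod.ext (D.emb_inj (congrArg Cov.g h')) (congrArg Cov.z h')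
  · obtain ⟨v, hv⟩ := D.mem_PH.mp a.2
    exact ⟨(v, (a : D.Cov).z), Subtype.ext (Cov.ext hv.symm rfl)⟩

theorem el_inv (v : V2) (k : ZMod 3) : (D.el v k)⁻¹ = D.el (-v) (-k - (-v).1 * v.2) := by
  apply inv_eq_of_mul_eq_one_left
  rw [D.el_mul, neg_add_cancel, ← D.el_one]
  congr 1
  ring

theorem el_conj (x w1 w2 k j : ZMod 3) :
    (D.el (w1, w2) j)⁻¹ * D.el (x, 0) k * D.el (w1, w2) j = D.el (x, 0) (k + x * w2) := by
  rw [mul_assoc, inv_mul_eq_iff_eq_mul, D.el_mul, D.el_mul]
  congr 1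
  · exact add_comm _ _
  · show k + j + x * w2 = j + (k + x * w2) + w1 * 0
    ring

/-- The abelian subgroup. -/
noncomputable def L : Subgroup D.PH where
  carrier := Set.range fun p : ZMod 3 × ZMod 3 => D.el (p.1, 0) p.2
  mul_mem' := by
    rintro _ _ ⟨p, rfl⟩ ⟨q, rfl⟩
    exact ⟨(p.1 + q.1, p.2 + q.2), by simp [D.el_mul]⟩
  one_mem' := ⟨(0, 0), D.el_one⟩
  inv_mem' := by
    rintro _ ⟨p, rfl⟩
    exact ⟨(-p.1, -p.2), by simp [D.el_inv]⟩

theorem card_L : Nat.card D.L = 9 := by
  have h : Function.Injective fun p : ZMod 3 × ZMod 3 => D.el (p.1, 0) p.2 := fun p q h => by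
    have := D.el_bij.1 (a₁ := ((p.1, 0), p.2)) (a₂ := ((q.1, 0), q.2)) h
    simp only [Prod.mk.injEq] at this
    exact Prod.ext this.1.1 this.2
  show Nat.card (Set.range fun p : ZMod 3 × ZMod 3 => D.el (p.1, 0) p.2) = 9
  rw [Nat.card_range_of_injective h, Nat.card_prod, Nat.card_zmod]

/-- Its linear character. -/
noncomputable def lam : D.L →* ℂˣ where
  toFun a := Units.mk0 (chi ((a : D.PH) : D.Cov).z) (chi_ne_zero _)
  map_one' := Units.ext chi_zero
  map_mul' a b := by
    obtain ⟨p, hp⟩ := a.2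
    obtain ⟨q, hq⟩ := b.2
    refine Units.ext ?_
    show chi (((a * b : D.L) : D.PH) : D.Cov).z = _
    rw [Subgroup.coe_mul, ← hp, ← hq, D.el_mul]
    show chi (p.2 + q.2 + p.1 * 0) = chi p.2 * chi q.2
    rw [mul_zero, add_zero, chi_add]

theorem ind_lam [Fintype D.PH] (v : V2) (k : ZMod 3) :
    indFun D.L (fun a => (D.lam a : ℂ)) (D.el v k) = if v = 0 then 3 * chi k else 0 := by
  classical
  by_cases hv2 : v.2 = 0
  · obtain ⟨x, y⟩ := v
    obtain rfl : y = 0 := hv2
    show (Nat.card D.L : ℂ)⁻¹ * _ = _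
    rw [D.card_L, ← Fintype.sum_bijective _ D.el_bij (fun p => extendByZero D.L (fun a => (D.lam a : ℂ))
      ((D.el p.1 p.2)⁻¹ * D.el (x, 0) k * D.el p.1 p.2)) _ (fun p => rfl)]
    have hterm : ∀ p : V2 × ZMod 3, extendByZero D.L (fun a => (D.lam a : ℂ))
        ((D.el p.1 p.2)⁻¹ * D.el (x, 0) k * D.el p.1 p.2) = chi (k + x * p.1.2) := by
      rintro ⟨⟨w1, w2⟩, j⟩
      rw [D.el_conj, extendByZero_of_mem D.L _ (show D.el (x, 0) (k + x * w2) ∈ D.L from ⟨(x, k + x * w2), rfl⟩)]
      rfl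
    have hu : ∀ g : ZMod 3 → ℂ, ∑ i : ZMod 3, g i = g 0 + g 1 + g 2 := fun g => Fin.sum_univ_three g
    rw [Finset.sum_congr rfl fun p _ => hterm p, Fintype.sum_prod_type, Fintype.sum_prod_type]
    simp only [Finset.sum_const, Finset.card_univ, ZMod.card, nsmul_eq_mul, hu, chi_add]
    by_cases hx : x = 0
    · subst hx
      refine Eq.trans ?_ (if_pos rfl).symm
      simp only [zero_mul, chi_zero]
      push_cast
      ring
    · rw [if_neg (fun e => hx (congrArg Prod.fst e))]
      have := chi_sum_mul (-x) (neg_ne_zero.mpr hx)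
      simp only [neg_mul, neg_neg] at this
      push_cast
      linear_combination (chi k * (3 / 3)) * this
  · rw [if_neg (fun e => hv2 (by rw [e]; rfl)), indFun_eq_zero_of_not_isConj]
    intro a ha
    obtain ⟨p, hp⟩ := ha
    obtain ⟨⟨w, j⟩, rfl⟩ := D.el_bij.2 a
    simp only [D.el_inv, D.el_mul] at hp
    have h2 := congrArg Prod.fst (D.el_bij.1 (a₁ := ((p.1, 0), p.2)) (a₂ := (_, _)) hp)
    have h3 := congrArg Prod.snd h2
    simp only [Prod.snd_add, Prod.snd_neg] at h3
    exact hv2 (by linear_combination -h3)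

variable {D} (K : D.Common)

theorem Common.psi_PH : IsGeneralizedCharacter D.PH fun a : D.PH => K.psi a := by
  haveI := Fintype.ofFinite D.PH
  obtain ⟨n, hn⟩ := K.degree_mod
  have hg : IsGeneralizedCharacter D.PH (indFun D.L fun a => (D.lam a : ℂ)) := by
    haveI := Fintype.ofFinite D.L
    exact isGenChar_indFun D.L (isGenChar_of_char (isCharacter_of_irr (isIrrCharacter_linear D.lam)))
  suffices h : (fun a : D.PH => K.psi a) = ((1 + 3 * n : ℤ) : ℂ) • indFun D.L fun a => (D.lam a : ℂ) by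
    rw [h]; exact isGenChar_intSmul _ hg
  funext a
  obtain ⟨⟨v, k⟩, rfl⟩ := D.el_bij.2 a
  rw [Pi.smul_apply, D.ind_lam, smul_eq_mul]
  show K.phi (D.emb v) * _ = _
  by_cases hv : v = 0
  · subst hv
    rw [if_pos rfl, D.emb_zero]
    have hF : ∀ l, D.F l 1 = 0 := fun l => by rw [← D.emb_zero, D.F_emb, (fv_facts.1 l).1, Int.cast_zero]
    have h1 : K.phi 1 = 3 + 9 * (n : ℂ) := by
      simp only [phi, Pi.add_apply, Pi.sub_apply, Pi.smul_apply, Finset.sum_apply, smul_eq_mul, hF, hn]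
      simp only [Finset.sum_const_zero]
      ring
    have hpow : ∀ m : ℕ, (D.zel k) ^ m = D.zel (m * k) := by
      intro m
      induction m with
      | zero => rw [pow_zero, Nat.cast_zero, zero_mul]; rfl
      | succ m ih => rw [pow_succ, ih, ← D.zel_add]; congr 1; push_cast; ring
    have hm : ((D.m0 : ℕ) : ZMod 3) ≠ 0 := fun e =>
      D.card_eq.2 ((ZMod.natCast_eq_zero_iff _ _).mp e)
    have hsq : ((D.m0 * D.m0 : ℕ) : ZMod 3) = 1 := by
      push_cast
      exact (by decide +kernel : ∀ m : ZMod 3, m ≠ 0 → m * m = 1) _ hm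
    have hz : ((D.el 0 k : D.PH) : D.Cov) = D.zel k := Cov.ext D.emb_zero rfl
    rw [h1, hz, hpow, hsq, one_mul]
    show _ * chi k = _
    push_cast
    ring
  · rw [if_neg hv, K.phi_emb hv, zero_mul, mul_zero]

theorem Common.psi_regular (E : Subgroup D.Cov) (hE : ∀ e ∈ E, ¬ D.Sing e.g) :
    IsGeneralizedCharacter E fun e : E => K.psi e := by
  haveI := Fintype.ofFinite E
  let f : E →* G := D.proj.comp E.subtype
  have hker : f.ker ≤ center E := fun x hx => mem_center_iff.mpr fun y => Subtype.ext (by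
    show (y : D.Cov) * x = x * y
    rw [D.eq_zel (a := (x : D.Cov)) hx, D.zel_comm])
  have hrange : Nat.card f.range ∣ D.m0 := by
    obtain ⟨he, -⟩ := D.card_eq
    have hd : Nat.card f.range ∣ 9 * D.m0 := he ▸ Subgroup.card_subgroup_dvd_card f.range
    have h3 : ¬ 3 ∣ Nat.card f.range := fun h3 => by
      haveI : Fact (Nat.Prime 3) := ⟨Nat.prime_three⟩
      obtain ⟨w, hy⟩ := exists_prime_orderOf_dvd_card' 3 h3
      obtain ⟨e, he'⟩ := w.2
      rw [← Subgroup.orderOf_coe] at hy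
      set y := (w : G)
      have hpow := D.sing_or_pow (g := y) (by rw [← he']; exact hE _ e.2)
      have := orderOf_dvd_of_pow_eq_one hpow
      rw [hy] at this
      exact D.card_eq.2 this
    refine Nat.Coprime.dvd_of_dvd_mul_left ?_ hd
    rw [show (9 : ℕ) = 3 ^ 2 by norm_num]
    exact ((Nat.prime_three.coprime_iff_not_dvd.mpr h3).symm).pow_right 2
  obtain ⟨t, ht⟩ : (center E).index ∣ D.m0 * D.m0 :=
    (Subgroup.index_dvd_of_le hker).trans (by rw [Subgroup.index_ker]; exact hrange.trans (dvd_mul_right _ _))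
  letI : CommGroup (center E) :=
    { (inferInstance : Group (center E)) with
      mul_comm := fun a b => Subtype.ext (mem_center_iff.mp b.2 (a : E)) }
  let q : E →* E := (center E).subtype.comp ((powMonoidHom t).comp (MonoidHom.transferCenterPow E))
  have hq : ∀ x : E, ((q x : E) : D.Cov) = (x : D.Cov) ^ (D.m0 * D.m0) := fun x => by
    simp only [q, MonoidHom.comp_apply, powMonoidHom_apply, Subgroup.coe_subtype, SubmonoidClass.coe_pow,
      MonoidHom.transferCenterPow_apply, ← pow_mul, ← ht]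
  have hone : ∀ x : E, ((q x : E) : D.Cov).g = 1 := fun x => by
    rw [hq, ← D.proj_apply, map_pow, pow_mul]
    show ((x : D.Cov).g ^ D.m0) ^ D.m0 = 1
    rw [D.sing_or_pow (hE _ x.2), one_pow]
  let lin : E →* ℂˣ :=
    { toFun := fun x => Units.mk0 (chi ((q x : E) : D.Cov).z) (chi_ne_zero _)
      map_one' := Units.ext (by rw [map_one]; exact chi_zero)
      map_mul' := fun x y => Units.ext (by
        show chi ((q (x * y) : E) : D.Cov).z = _
        rw [map_mul, Subgroup.coe_mul, mul_def]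
        show chi (_ + _ + D.cyc _ _) = _
        rw [hone x, hone y, D.cyc_one_left, add_zero, chi_add]
        rfl) }
  have hgen : IsGeneralizedCharacter E fun e : E => 2 + K.fn (f e) := by
    obtain ⟨a, b, ha, hb, hab⟩ := K.fn_genChar
    have h2 : IsGeneralizedCharacter E (((2 : ℤ) : ℂ) • fun _ : E => (1 : ℂ)) :=
      isGenChar_intSmul 2 (isGenChar_of_char isCharacter_one)
    have hfn : IsGeneralizedCharacter E fun e : E => K.fn (f e) :=
      ⟨_, _, isCharacter_comp ha f, isCharacter_comp hb f, by rw [hab]; rfl⟩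
    convert isGenChar_add h2 hfn using 1
    funext e
    simp
  convert isGenChar_mul hgen (isGenChar_of_char (isCharacter_of_irr (isIrrCharacter_linear lin))) using 1
  funext e
  show K.phi (e : D.Cov).g * chi _ = (2 + K.fn (f e)) * chi ((q e : E) : D.Cov).z
  rw [K.phi_reg (hE _ e.2), hq]
  rfl

/-- A nilpotent group containing a nontrivial element of the subgroup lies in it. -/
theorem nilpotent_le (H : Subgroup G) [Group.IsNilpotent H] {v : V2} (hv : v ≠ 0) (hH : D.emb v ∈ H) : H ≤ D.A := by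
  haveI : Nontrivial H := ⟨⟨⟨_, hH⟩, 1, fun e => D.emb_ne_one hv (congrArg Subtype.val e)⟩⟩
  obtain ⟨⟨⟨z, hzH⟩, hzc⟩, hne⟩ := Subgroup.ne_bot_iff_exists_ne_one.mp
    (Group.IsNilpotent.center_ne_bot (G := H))
  have hz1 : (⟨z, hzH⟩ : H) ≠ 1 := fun e => hne (Subtype.ext e)
  obtain ⟨x, hx⟩ := D.cent z v hv (congrArg Subtype.val (mem_center_iff.mp hzc ⟨_, hH⟩)).symm
  have hx0 : x ≠ 0 := fun e => hz1 (Subtype.ext (show z = 1 by rw [hx, e, D.emb_zero]))
  intro g hg
  obtain ⟨y, hy⟩ := D.cent g x hx0 (by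
    rw [← hx]; exact congrArg Subtype.val (mem_center_iff.mp hzc ⟨g, hg⟩))
  exact ⟨Multiplicative.ofAdd y, hy.symm⟩

theorem Common.psi_elementary (E : Subgroup D.Cov) (p : ℕ) (hp : p.Prime) (hel : IsElementary p E) :
    IsGeneralizedCharacter E fun e : E => K.psi e := by
  by_cases hE : ∀ e ∈ E, ¬ D.Sing e.g
  · exact K.psi_regular E hE
  push Not at hE
  obtain ⟨e, he, h, v, hv, hev⟩ := hE
  obtain ⟨k, -, hk⟩ : ∃ k : D.Cov, True ∧ k.g = h := ⟨⟨h, 0⟩, trivial, rfl⟩
  haveI := isNilpotent_of_elementary hp hel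
  let f : E →* G := D.proj.comp ((MulAut.conj k).toMonoidHom.comp E.subtype)
  haveI : Group.IsNilpotent f.range := Group.nilpotent_of_surjective f.rangeRestrict f.rangeRestrict_surjective
  have hle : f.range ≤ D.A := D.nilpotent_le f.range hv ⟨⟨e, he⟩, by
    show k.g * e.g * k.g⁻¹ = _
    rw [hk, hev]⟩
  let m : E →* D.PH := ((MulAut.conj k).toMonoidHom.comp E.subtype).codRestrict D.PH fun x => hle ⟨x, rfl⟩
  obtain ⟨a, b, ha, hb, hab⟩ := K.psi_PH
  refine ⟨_, _, isCharacter_comp ha m, isCharacter_comp hb m, funext fun x => ?_⟩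
  have := congrFun hab (m x)
  rw [← K.psi_class (x : D.Cov) k]
  exact this

theorem Common.psi_genChar : IsGeneralizedCharacter D.Cov K.psi :=
  isGenChar_of_elementary K.psi_class K.psi_elementary

end Inv9

end CfsgLib.Sym9Three
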