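import Cfsg.Agent.Lib.Sym9Three.InvChar

set_option autoImplicit false
set_option linter.style.haveILetI false

/-!
The common constituent of the four exceptional generalized characters takes the value one on the subgroup.
-/

namespace CfsgLib.Sym9Three

open Cfsg CfsgLib.CharTheory
open scoped ComplexConjugate

universe u

theorem common_entry {ι : Type*} [Fintype ι] [DecidableEq ι] (c : Fin 4 → ι → ℤ) (o : ι) (h1 : ∀ l, c l o = 1)
    (h3 : ∀ l, ∑ i, c l i * c l i = 3) (h2 : ∀ l m, l ≠ m → ∑ i, c l i * c m i = 2) :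
    ∃ p, p ≠ o ∧ ∃ e : ℤ, (e = 1 ∨ e = -1) ∧ ∀ l, c l p = e := by
  classical
  let s : Fin 4 → Finset ι := fun l => (Finset.univ.erase o).filter fun i => c l i ≠ 0
  have hsum : ∀ l m, ∑ i, c l i * c m i = 1 + ∑ i ∈ s l, c l i * c m i := by
    intro l m
    rw [← Finset.add_sum_erase _ _ (Finset.mem_univ o), h1, h1, mul_one]
    congr 1
    refine (Finset.sum_filter_of_ne (p := fun i => c l i ≠ 0) fun i _ h e => h ?_).symm
    rw [e, zero_mul]
  have hsq : ∀ l, ∀ i ∈ s l, c l i * c l i = 1 ∧ (c l i = 1 ∨ c l i = -1) := by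
    intro l i hi
    have hne : c l i ≠ 0 := (Finset.mem_filter.mp hi).2
    have hle : c l i * c l i ≤ 2 := by
      have h := hsum l l
      rw [h3] at h
      have := Finset.single_le_sum (f := fun i => c l i * c l i) (fun j _ => mul_self_nonneg _) hi
      linarith
    have hb : -1 ≤ c l i ∧ c l i ≤ 1 := ⟨by nlinarith, by nlinarith⟩
    rcases (show c l i = 1 ∨ c l i = -1 by omega) with e | e <;> rw [e] <;> norm_num
  have hcard : ∀ l, (s l).card = 2 := by
    intro l
    have h := hsum l l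
    rw [h3, Finset.sum_congr rfl (fun i hi => (hsq l i hi).1), Finset.sum_const, nsmul_one] at h
    omega
  have hmeet : ∀ l m, l ≠ m → ∃! i, i ∈ s l ∧ i ∈ s m ∧ c l i = c m i := by
    intro l m hlm
    have h := hsum l m
    rw [h2 l m hlm] at h
    have hone : ∑ i ∈ s l, c l i * c m i = 1 := by linarith
    obtain ⟨p, q, hpq, hs⟩ := Finset.card_eq_two.mp (hcard l)
    rw [hs, Finset.sum_pair hpq] at hone
    have hval : ∀ i ∈ s l, c l i * c m i = 0 ∨ (c l i * c m i = 1 ∧ i ∈ s m ∧ c l i = c m i) ∨ c l i * c m i = -1 := by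
      intro i hi
      by_cases hm : c m i = 0
      · exact Or.inl (by rw [hm, mul_zero])
      have him : i ∈ s m := Finset.mem_filter.mpr ⟨(Finset.mem_filter.mp hi).1, hm⟩
      rcases (hsq l i hi).2 with e | e <;> rcases (hsq m i him).2 with e' | e' <;> rw [e, e'] <;> simp [him]
    have hp : p ∈ s l := by rw [hs]; simp
    have hq : q ∈ s l := by rw [hs]; simp
    have hnot : ∀ i, i ∈ s l → i ∈ s m → c l i = c m i → c l i * c m i = 1 := fun i hi _ e => by
      rw [← e]; exact (hsq l i hi).1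
    rcases hval p hp with a | ⟨a, a1, a2⟩ | a <;> rcases hval q hq with b | ⟨b, b1, b2⟩ | b <;>
      simp only [a, b] at hone <;> norm_num at hone
    · refine ⟨q, ⟨hq, b1, b2⟩, fun i ⟨hi, hi', hie⟩ => ?_⟩
      have := hnot i hi hi' hie
      rw [hs, Finset.mem_insert, Finset.mem_singleton] at hi
      rcases hi with rfl | rfl
      · omega
      · rfl
    · refine ⟨p, ⟨hp, a1, a2⟩, fun i ⟨hi, hi', hie⟩ => ?_⟩
      have := hnot i hi hi' hie
      rw [hs, Finset.mem_insert, Finset.mem_singleton] at hi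
      rcases hi with rfl | rfl
      · rfl
      · omega
  -- a point in the supports of the first two
  have hinter : ∀ l m, l ≠ m → ∀ i j, i ∈ s l → i ∈ s m → j ∈ s l → j ∈ s m → i = j := by
    intro l m hlm i j hil him hjl hjm
    by_contra hij
    have hs : s l = {i, j} := (Finset.eq_of_subset_of_card_le (by
      intro x hx; rcases Finset.mem_insert.mp hx with rfl | hx'
      · exact hil
      · rw [Finset.mem_singleton.mp hx']; exact hjl) (by rw [hcard, Finset.card_pair hij])).symm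
    have h := hsum l m
    rw [h2 l m hlm, hs, Finset.sum_pair hij] at h
    rcases (hsq l i hil).2 with e | e <;> rcases (hsq m i him).2 with e' | e' <;>
      rcases (hsq l j hjl).2 with f | f <;> rcases (hsq m j hjm).2 with f' | f' <;>
      rw [e, e', f, f'] at h <;> norm_num at h
  obtain ⟨p, ⟨p0, p1, -⟩, -⟩ := hmeet 0 1 (by decide)
  have hall : ∀ l, p ∈ s l := by
    intro l
    by_contra hl
    have hl0 : l ≠ 0 := fun e => hl (e ▸ p0)
    have hl1 : l ≠ 1 := fun e => hl (e ▸ p1)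
    obtain ⟨q, ⟨ql, q0, -⟩, -⟩ := hmeet l 0 hl0
    obtain ⟨r, ⟨rl, r1, -⟩, -⟩ := hmeet l 1 hl1
    have hqp : q ≠ p := fun e => hl (e ▸ ql)
    have hrp : r ≠ p := fun e => hl (e ▸ rl)
    have hqr : q ≠ r := fun e => hqp (hinter 0 1 (by decide) q p q0 (e ▸ r1) p0 p1)
    obtain ⟨m, hm0, hm1, hml⟩ := (by decide : ∀ l : Fin 4, ∃ m : Fin 4, m ≠ 0 ∧ m ≠ 1 ∧ m ≠ l) l
    have hpair : ∀ (k : Fin 4) (a b : ι), a ≠ b → a ∈ s k → b ∈ s k → ∀ x, x ∈ s k → x = a ∨ x = b := by
      intro k a b hab ha hb x hx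
      have hs : s k = {a, b} := (Finset.eq_of_subset_of_card_le (by
        intro x hx; rcases Finset.mem_insert.mp hx with rfl | hx'
        · exact ha
        · rw [Finset.mem_singleton.mp hx']; exact hb) (by rw [hcard, Finset.card_pair hab])).symm
      rw [hs] at hx
      simpa using hx
    have h0 := hpair 0 p q (Ne.symm hqp) p0 q0
    have h1' := hpair 1 p r (Ne.symm hrp) p1 r1
    have hl' := hpair l q r hqr ql rl
    obtain ⟨a, ⟨am, a0, -⟩, -⟩ := hmeet m 0 hm0
    obtain ⟨b, ⟨bm, b1, -⟩, -⟩ := hmeet m 1 hm1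
    by_cases hpm : p ∈ s m
    · obtain ⟨x, ⟨xm, xl, -⟩, -⟩ := hmeet m l hml
      rcases hl' x xl with rfl | rfl
      · exact hqp (hinter m 0 hm0 x p xm q0 hpm p0)
      · exact hrp (hinter m 1 hm1 x p xm r1 hpm p1)
    · have ha : a = q := (h0 a a0).resolve_left fun e => hpm (e ▸ am)
      have hb : b = r := (h1' b b1).resolve_left fun e => hpm (e ▸ bm)
      exact hqr (hinter m l hml q r (ha ▸ am) ql (hb ▸ bm) rl)
  have hagree : ∀ l m, l ≠ m → c l p = c m p := fun l m hlm => by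
    obtain ⟨i, ⟨il, im, ie⟩, -⟩ := hmeet l m hlm
    rw [← hinter l m hlm i p il im (hall l) (hall m)]
    exact ie
  refine ⟨p, (Finset.mem_erase.mp (Finset.mem_filter.mp p0).1).1, c 0 p, (hsq 0 p p0).2, fun l => ?_⟩
  by_cases hl : l = 0
  · rw [hl]
  · exact hagree l 0 hl

theorem v2_sum (f : V2 → ℂ) :
    ∑ v : V2, f v = f (0, 0) + f (0, 1) + f (0, 2) + (f (1, 0) + f (1, 1) + f (1, 2)) + (f (2, 0) + f (2, 1) + f (2, 2)) := by
  have hu : ∀ g : ZMod 3 → ℂ, ∑ i : ZMod 3, g i = g 0 + g 1 + g 2 := fun g => Fin.sum_univ_three g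
  rw [Fintype.sum_prod_type, hu, hu, hu, hu]

theorem fv_table : (fv 0 (1, 0) = 3 ∧ fv 0 (0, 1) = 0 ∧ fv 0 (1, 1) = 3 ∧ fv 0 (1, 2) = 3) ∧
    (fv 1 (1, 0) = 0 ∧ fv 1 (0, 1) = 3 ∧ fv 1 (1, 1) = 3 ∧ fv 1 (1, 2) = 3) ∧
    (fv 2 (1, 0) = 3 ∧ fv 2 (0, 1) = 3 ∧ fv 2 (1, 1) = 3 ∧ fv 2 (1, 2) = 0) ∧
    (fv 3 (1, 0) = 3 ∧ fv 3 (0, 1) = 3 ∧ fv 3 (1, 1) = 0 ∧ fv 3 (1, 2) = 3) := by decide +kernel

theorem sum_values {X : V2 → ℂ} (hX : ∀ v, X (-v) = X v) (h : ∀ l, ∑ v : V2, (fv l v : ℂ) * X v = 18) :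
    ∀ v : V2, v ≠ 0 → X v = 1 := by
  have hz : ∀ l, fv l (0, 0) = 0 := fun l => (fv_facts.1 l).1
  have hn : ∀ l v, fv l (-v) = fv l v := fun l => (fv_facts.1 l).2
  have n1 : ((0, 2) : V2) = -(0, 1) := by decide
  have n2 : ((2, 0) : V2) = -(1, 0) := by decide
  have n3 : ((2, 1) : V2) = -(1, 2) := by decide
  have n4 : ((2, 2) : V2) = -(1, 1) := by decide
  obtain ⟨⟨a0, a1, a2, a3⟩, ⟨b0, b1, b2, b3⟩, ⟨c0, c1, c2, c3⟩, ⟨d0, d1, d2, d3⟩⟩ := fv_table
  have e : ∀ l, (fv l (1, 0) : ℂ) * X (1, 0) + (fv l (0, 1) : ℂ) * X (0, 1) + (fv l (1, 1) : ℂ) * X (1, 1) +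
      (fv l (1, 2) : ℂ) * X (1, 2) = 9 := fun l => by
    have h' := h l
    rw [v2_sum, n1, n2, n3, n4, hz, hn, hn, hn, hn, hX, hX, hX, hX, Int.cast_zero, zero_mul] at h'
    linear_combination h' / 2
  have e0 := e 0; have e1 := e 1; have e2 := e 2; have e3 := e 3
  simp only [a0, a1, a2, a3, Int.cast_zero, Int.cast_ofNat] at e0
  simp only [b0, b1, b2, b3, Int.cast_zero, Int.cast_ofNat] at e1
  simp only [c0, c1, c2, c3, Int.cast_zero, Int.cast_ofNat] at e2
  simp only [d0, d1, d2, d3, Int.cast_zero, Int.cast_ofNat] at e3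
  have r0 : X (1, 0) = 1 := by linear_combination (e0 + e1 + e2 + e3) / 9 - e1 / 3
  have r1 : X (0, 1) = 1 := by linear_combination (e0 + e1 + e2 + e3) / 9 - e0 / 3
  have r2 : X (1, 1) = 1 := by linear_combination (e0 + e1 + e2 + e3) / 9 - e3 / 3
  have r3 : X (1, 2) = 1 := by linear_combination (e0 + e1 + e2 + e3) / 9 - e2 / 3
  intro v hv
  have hc : ∀ v : V2, v ≠ 0 → (v = (1, 0) ∨ v = (0, 1) ∨ v = (1, 1) ∨ v = (1, 2)) ∨
      (v = -(1, 0) ∨ v = -(0, 1) ∨ v = -(1, 1) ∨ v = -(1, 2)) := by decide +kernel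
  rcases hc v hv with (rfl | rfl | rfl | rfl) | (rfl | rfl | rfl | rfl) <;> (try rw [hX]) <;> assumption

namespace Inv9

variable {G : Type u} [Group G] [Fintype G] (D : Inv9 G)

/-- The common constituent, with its sign. -/
structure Common (D : Inv9 G) where
  /-- the constituent -/
  χ : IrrCharacter G
  /-- the sign -/
  sg : ℂ
  sg_cases : sg = 1 ∨ sg = -1
  ne_one : (χ : G → ℂ) ≠ fun _ => 1
  inner : ∀ l, classInner (D.F l) (χ : G → ℂ) = sg

theorem exists_common : Nonempty D.Common := by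
  classical
  choose c hc1 hc2 hc3 using fun l => classInner_self_eq_sum_sq (D.F_isGenChar l)
  let o : IrrCharacter G := ⟨fun _ => 1, isIrrCharacter_one⟩
  have ho : ∀ l, c l o = 1 := fun l => by
    have h := hc2 l o
    rw [show (o : G → ℂ) = fun _ => 1 from rfl, D.inner_F_one] at h
    exact_mod_cast h.symm
  have hlm : ∀ l m, classInner (D.F l) (D.F m) = ((∑ i, c l i * c m i : ℤ) : ℂ) := fun l m => by
    rw [classInner_eq_sum_irr (D.F_class l)]
    push_cast
    refine Finset.sum_congr rfl fun i _ => ?_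
    rw [hc2, ← classInner_comm (D.F m), hc2, map_intCast]
  obtain ⟨p, hp, e, he, hall⟩ := common_entry c o ho (fun l => by
      have h := hlm l l; rw [D.inner_F_F, if_pos rfl] at h; exact_mod_cast h.symm)
    (fun l m hne => by have h := hlm l m; rw [D.inner_F_F, if_neg hne] at h; exact_mod_cast h.symm)
  exact ⟨{ χ := p
           sg := e
           sg_cases := by rcases he with rfl | rfl <;> simp
           ne_one := fun h => hp (Subtype.ext h)
           inner := fun l => by rw [hc2, hall] }⟩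

variable {D} (K : D.Common)

/-- The signed constituent. -/
noncomputable def Common.fn : G → ℂ := K.sg • (K.χ : G → ℂ)

theorem Common.sg_sq : K.sg * K.sg = 1 := by rcases K.sg_cases with e | e <;> rw [e] <;> norm_num

theorem Common.sg_conj : conj K.sg = K.sg := by rcases K.sg_cases with e | e <;> rw [e] <;> simp

theorem Common.fn_class : IsClassFunction G K.fn := isClassFunction_smul _ (isClassFunction_irr K.χ.2)

theorem Common.fn_genChar : IsGeneralizedCharacter G K.fn := by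
  rcases K.sg_cases with e | e
  · rw [fn, e, one_smul]; exact isGenChar_of_char (isCharacter_of_irr K.χ.2)
  · rw [fn, e, neg_one_smul]; exact isGenChar_neg (isGenChar_of_char (isCharacter_of_irr K.χ.2))

theorem Common.inner_fn : classInner K.fn K.fn = 1 := by
  rw [fn, classInner_smul_left, classInner_smul_right, classInner_irr_self K.χ.2, K.sg_conj, mul_one, K.sg_sq]

theorem Common.inner_one : classInner (fun _ => (1 : ℂ)) K.fn = 0 := by
  rw [fn, classInner_smul_right, classInner_irr_ne isIrrCharacter_one K.χ.2 (Ne.symm K.ne_one), mul_zero]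

theorem Common.inner_F (l : Fin 4) : classInner (D.F l) K.fn = 1 := by
  rw [fn, classInner_smul_right, K.inner, K.sg_conj, K.sg_sq]

theorem Common.fn_emb {v : V2} (hv : v ≠ 0) : K.fn (D.emb v) = 1 := by
  have h := sum_values (X := fun v => conj (K.fn (D.emb v)))
    (fun v => by rw [← D.t_emb_conj, K.fn_class])
    (fun l => by
      have := K.inner_F l
      rw [D.inner_F l K.fn_class] at this
      linear_combination 18 * this) v hv
  have := congrArg conj h
  simpa using this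

end Inv9

end CfsgLib.Sym9Three
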