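import Cfsg.Agent.Lib.Sym9Three.InvBrauer

set_option autoImplicit false
set_option linter.style.haveILetI false

/-!
A group with a self-centralizing subgroup of order nine inverted by an involution that generates its
normalizer has a linear character that is nontrivial on the involution.
-/

namespace CfsgLib.Sym9Three

open Cfsg CfsgLib.CharTheory
open scoped ComplexConjugate

universe u

/-- Class sums against a virtual character of norm one. -/
theorem class_pair_sum {H : Type u} [Group H] [Fintype H] {θ : H → ℂ} (h : IsGeneralizedCharacter H θ)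
    (h1 : classInner θ θ = 1) (a : H) [DecidablePred fun x => IsConj a x] :
    θ 1 ≠ 0 ∧ ∑ x ∈ Finset.univ.filter (fun x => IsConj a x), ∑ y ∈ Finset.univ.filter (fun y => IsConj a y),
      θ (x * y) = (Nat.card {x : H // IsConj a x} : ℂ) ^ 2 * (θ a ^ 2 / θ 1) := by
  rcases irr_or_neg_of_norm_one h h1 with hi | hi
  · have hd := irr_ne_zero hi
    refine ⟨hd, ?_⟩
    have := sum_class_class_char hi a a 1
    simp only [mul_one] at this
    rw [this]
    field_simp
  · have hd := irr_ne_zero hi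
    have hd' : θ 1 ≠ 0 := fun e => hd (by simp [e])
    refine ⟨hd', ?_⟩
    have := sum_class_class_char hi a a 1
    simp only [mul_one, Pi.neg_apply, Finset.sum_neg_distrib] at this
    rw [← neg_neg (∑ x ∈ Finset.univ.filter (fun x => IsConj a x), _), this]
    field_simp

namespace Inv9

variable {G : Type u} [Group G] [Fintype G] {D : Inv9 G} (K : D.Common)

theorem t_not_sing (D : Inv9 G) : ¬ D.Sing D.t := by
  rintro ⟨h, v, hv, e⟩
  have h2 : D.emb v * D.emb v = 1 := by rw [← e, conj_mul, D.tt, mul_one, mul_inv_cancel]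
  rw [← D.emb_add, ← D.emb_zero] at h2
  have h3 := D.emb_inj h2
  exact hv ((by decide +kernel : ∀ v : V2, v + v = 0 → v = 0) v h3)

theorem t_ne_one (D : Inv9 G) : D.t ≠ 1 := fun e => D.t_notin 0 (e.trans D.emb_zero.symm)

/-- The value on the extension at a product of two involutions. -/
theorem Common.psi_inverted {x z : D.Cov} (hx : x * z * x⁻¹ = z⁻¹) : K.psi z = K.phi z.g := by
  by_cases hs : D.Sing z.g
  · simp [psi, K.phi_sing hs]
  set n := D.m0 * D.m0 with hn
  have h1 : (z ^ n).g = 1 := by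
    rw [← D.proj_apply, map_pow, hn, pow_mul]
    show (z.g ^ D.m0) ^ D.m0 = 1
    rw [D.sing_or_pow hs, one_pow]
  have h2 : x * z ^ n * x⁻¹ = (z ^ n)⁻¹ := by rw [← conj_pow, hx, inv_pow]
  rw [D.eq_zel h1, ← D.zel_comm, mul_assoc, mul_inv_cancel, mul_one] at h2
  have h3 : D.zel ((z ^ n).z + (z ^ n).z) = D.zel 0 := by
    rw [D.zel_add]
    nth_rewrite 1 [h2]
    rw [inv_mul_cancel]; rfl
  have h4 : (z ^ n).z = 0 :=
    (by decide +kernel : ∀ x : ZMod 3, x + x = 0 → x = 0) _ (congrArg Cov.z h3)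
  show K.phi z.g * chi (z ^ (D.m0 * D.m0)).z = _
  rw [← hn, h4, chi_zero, mul_one]

/-- The value of the constituent at the identity. -/
theorem Common.degree_ne : K.fn 1 ≠ 0 ∧ 1 + K.fn 1 ≠ 0 ∧ 2 + K.fn 1 ≠ 0 := by
  obtain ⟨n, hn⟩ := K.degree_mod
  rw [hn]
  refine ⟨fun e => ?_, fun e => ?_, fun e => ?_⟩ <;>
  · have e' : ((1 : ℤ) : ℂ) + 9 * (n : ℂ) = 1 + 9 * (n : ℂ) := by norm_num
    norm_num at *
    norm_cast at e
    omega

/-- The third constituent. -/
noncomputable def Common.rest (l : Fin 4) : G → ℂ := D.F l - (fun _ => (1 : ℂ)) - K.fn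

theorem Common.rest_norm (l : Fin 4) : classInner (K.rest l) (K.rest l) = 1 := by
  have h11 : classInner (fun _ : G => (1 : ℂ)) (fun _ => (1 : ℂ)) = 1 := classInner_irr_self isIrrCharacter_one
  have hF : classInner (D.F l) (D.F l) = 3 := by rw [D.inner_F_F, if_pos rfl]
  have h1' : classInner (fun _ => (1 : ℂ)) (D.F l) = 1 := by rw [← classInner_comm, D.inner_F_one, map_one]
  have hK' : classInner K.fn (D.F l) = 1 := by rw [← classInner_comm, K.inner_F, map_one]
  have hK1 : classInner K.fn (fun _ => (1 : ℂ)) = 0 := by rw [← classInner_comm, K.inner_one, map_zero]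
  simp only [rest, classInner_sub_left, classInner_sub_right, hF, h1', hK', hK1, h11, D.inner_F_one, K.inner_F,
    K.inner_one, K.inner_fn]
  norm_num

theorem Common.rest_genChar (l : Fin 4) : IsGeneralizedCharacter G (K.rest l) :=
  isGenChar_sub (isGenChar_sub (D.F_isGenChar l) (isGenChar_of_char isCharacter_one)) K.fn_genChar

/-- The common constituent is linear, with value minus one at the involution. -/
theorem Common.linear : K.fn 1 = 1 ∧ K.fn D.t ≠ 1 := by
  classical
  haveI := Fintype.ofFinite D.Cov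
  obtain ⟨th, hth, hth2⟩ := D.exists_lift_invol D.tt
  set S := Finset.univ.filter (fun x => IsConj D.t x) with hS
  set c : ℂ := (Nat.card {x : G // IsConj D.t x} : ℂ) with hc
  have hcS : c = (S.card : ℂ) := by rw [hc, Nat.card_eq_fintype_card, Fintype.card_subtype]
  have htS : D.t ∈ S := Finset.mem_filter.mpr ⟨Finset.mem_univ _, IsConj.refl _⟩
  have hc0 : c ≠ 0 := by
    rw [hcS]; exact Nat.cast_ne_zero.mpr (Finset.card_pos.mpr ⟨_, htS⟩).ne'
  set a := K.fn 1 with ha
  set α := K.fn D.t with hα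
  obtain ⟨ha0, ha1, ha2⟩ := K.degree_ne
  rw [← ha] at ha0 ha1 ha2
  -- the constituents
  have hone : ∑ x ∈ S, ∑ y ∈ S, (fun _ : G => (1 : ℂ)) (x * y) = c ^ 2 := by
    simp [hcS, sq]
  have hfn : ∑ x ∈ S, ∑ y ∈ S, K.fn (x * y) = c ^ 2 * (α ^ 2 / a) :=
    (class_pair_sum K.fn_genChar K.inner_fn D.t).2
  have hF1 : ∀ l, D.F l 1 = 0 := fun l => by rw [← D.emb_zero, D.F_emb, (fv_facts.1 l).1, Int.cast_zero]
  have hFt : ∀ l, D.F l D.t = 0 := fun l => D.F_off l fun h v hv e => t_not_sing D ⟨h, v, hv, e⟩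
  have hFl : ∀ l, ∑ x ∈ S, ∑ y ∈ S, D.F l (x * y) = c ^ 2 * (1 + α ^ 2 / a - (1 + α) ^ 2 / (1 + a)) := by
    intro l
    have hr := (class_pair_sum (K.rest_genChar l) (K.rest_norm l) D.t).2
    have e1 : K.rest l D.t = -(1 + α) := by simp [rest, hFt, hα]; ring
    have e2 : K.rest l 1 = -(1 + a) := by simp [rest, hF1, ha]; ring
    rw [e1, e2] at hr
    simp only [rest, Pi.sub_apply, Finset.sum_sub_distrib] at hr
    rw [hone, hfn] at hr
    rw [div_neg, neg_sq] at hr
    linear_combination hr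
  -- the character on the extension
  have hpsi : ∑ x ∈ S, ∑ y ∈ S, K.phi (x * y) = c ^ 2 * ((2 + α) ^ 2 / (2 + a)) := by
    have h := (class_pair_sum K.psi_genChar K.psi_norm th).2
    have hinv : ∀ x, IsConj th x → x * x = 1 := fun x hx => by
      obtain ⟨k, rfl⟩ := isConj_iff.mp hx
      rw [conj_mul, hth2, mul_one, mul_inv_cancel]
    have hbij : ∀ f : G → ℂ, ∑ x ∈ Finset.univ.filter (fun x => IsConj th x), f x.g = ∑ x ∈ S, f x := by
      intro f
      refine Finset.sum_bij (fun x _ => x.g) (fun x hx => ?_) (fun x hx y hy e => ?_) (fun y hy => ?_) (fun x _ => rfl)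
      · refine Finset.mem_filter.mpr ⟨Finset.mem_univ _, ?_⟩
        obtain ⟨k, rfl⟩ := isConj_iff.mp (Finset.mem_filter.mp hx).2
        exact isConj_iff.mpr ⟨k.g, by rw [← hth]; rfl⟩
      · exact D.lift_invol (hinv x (Finset.mem_filter.mp hx).2) (hinv y (Finset.mem_filter.mp hy).2) e
      · obtain ⟨k, rfl⟩ := isConj_iff.mp (Finset.mem_filter.mp hy).2
        exact ⟨⟨k, 0⟩ * th * (⟨k, 0⟩ : D.Cov)⁻¹,
          Finset.mem_filter.mpr ⟨Finset.mem_univ _, isConj_iff.mpr ⟨_, rfl⟩⟩, by rw [← hth]; rfl⟩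
    have hprod : ∀ x y, IsConj th x → IsConj th y → K.psi (x * y) = K.phi (x.g * y.g) := fun x y hx hy => by
      refine K.psi_inverted (x := x) ?_
      rw [mul_inv_rev, inv_eq_of_mul_eq_one_right (hinv x hx), inv_eq_of_mul_eq_one_right (hinv y hy),
        ← mul_assoc, hinv x hx, one_mul]
    have hsum : ∑ x ∈ Finset.univ.filter (fun x => IsConj th x),
        ∑ y ∈ Finset.univ.filter (fun y => IsConj th y), K.psi (x * y) = ∑ x ∈ S, ∑ y ∈ S, K.phi (x * y) := by
      rw [← hbij fun x => ∑ y ∈ S, K.phi (x * y)]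
      refine Finset.sum_congr rfl fun x hx => ?_
      rw [← hbij fun y => K.phi (x.g * y)]
      exact Finset.sum_congr rfl fun y hy => hprod x y (Finset.mem_filter.mp hx).2 (Finset.mem_filter.mp hy).2
    have hcard : (Nat.card {x : D.Cov // IsConj th x} : ℂ) = c := by
      have := hbij fun _ => 1
      simp only [Finset.sum_const, nsmul_one] at this
      rw [hcS, Nat.card_eq_fintype_card, Fintype.card_subtype, ← this]
    have hval : K.psi th = 2 + α := by
      rw [K.psi_inverted (x := th) (by rw [mul_inv_cancel_right]; exact (inv_eq_of_mul_eq_one_right hth2).symm),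
        hth, K.phi_reg (t_not_sing D)]
    have hval1 : K.psi 1 = 2 + a := by
      have hn : ¬ D.Sing (1 : D.Cov).g := by
        rintro ⟨h, v, hv, e⟩
        rw [one_def] at e
        exact D.emb_ne_one hv (by rw [← e]; group)
      rw [K.psi_inverted (x := 1) (by simp), K.phi_reg hn, one_def]
    rw [hsum, hcard, hval, hval1] at h
    exact h
  -- the exceptional sums are positive
  have hdiff : α ≠ a := by
    intro e
    obtain ⟨l, hl⟩ := fv_facts.2.2.2.2 (1, 0) (by decide +kernel)
    have h0 := hFl l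
    have hz : c ^ 2 * (1 + a ^ 2 / a - (1 + a) ^ 2 / (1 + a)) = 0 := by
      field_simp
      ring
    rw [e, hz] at h0
    have hnn : ∀ g : G, ∃ r : ℕ, D.F l g = r := fun g => by
      by_cases hg : D.Sing g
      · obtain ⟨h, v, hv, e⟩ := hg
        rw [← D.F_class l g h, e, D.F_emb]
        refine ⟨(fv l v).toNat, ?_⟩
        rw [← Int.cast_natCast]
        congr 1
        rw [Int.toNat_of_nonneg]
        unfold fv; split <;> norm_num
      · exact ⟨0, by rw [D.F_off l fun h v hv e => hg ⟨h, v, hv, e⟩, Nat.cast_zero]⟩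
    choose r hr using hnn
    simp only [hr] at h0
    norm_cast at h0
    rw [Finset.sum_eq_zero_iff] at h0
    have hmem : D.t * D.emb (1, 0) ∈ S := by
      refine Finset.mem_filter.mpr ⟨Finset.mem_univ _, isConj_iff.mpr ⟨D.emb (1, 0), ?_⟩⟩
      rw [← D.emb_neg, mul_assoc, D.t_emb, neg_neg, ← mul_assoc, ← D.emb_add, ← neg_neg ((1, 0) : V2) ,
        D.t_emb]
      congr 2
    have h1 := Finset.sum_eq_zero_iff.mp (h0 D.t htS) _ hmem
    have h2 := hr (D.t * (D.t * D.emb (1, 0)))
    rw [← mul_assoc, D.tt, one_mul, D.F_emb, hl] at h2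
    rw [← mul_assoc, D.tt, one_mul] at h1
    rw [h1] at h2
    norm_num at h2
  -- the identity
  have hphi : ∑ x ∈ S, ∑ y ∈ S, K.phi (x * y) =
      2 * c ^ 2 + c ^ 2 * (α ^ 2 / a) - 4 / 3 * (c ^ 2 * (1 + α ^ 2 / a - (1 + α) ^ 2 / (1 + a))) := by
    simp only [phi, Pi.add_apply, Pi.sub_apply, Pi.smul_apply, Finset.sum_apply, smul_eq_mul,
      Finset.sum_sub_distrib, Finset.sum_add_distrib, ← Finset.mul_sum, Fin.sum_univ_four]
    rw [hone, hfn, hFl, hFl, hFl, hFl]
    ring
  rw [hphi] at hpsi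
  field_simp at hpsi
  have key : c ^ 2 * ((a - 1) * (α - a) ^ 2) = 0 := by
    linear_combination (c ^ 2 / 2 : ℂ) * hpsi
  rcases mul_eq_zero.mp key with h | h
  · exact absurd h (pow_ne_zero 2 hc0)
  rcases mul_eq_zero.mp h with h | h
  · have h1 : a = 1 := sub_eq_zero.mp h
    exact ⟨h1, fun e => hdiff (e.trans h1.symm)⟩
  · exact absurd (sub_eq_zero.mp (pow_eq_zero_iff two_ne_zero |>.mp h)) hdiff

/-- The linear character. -/
theorem exists_hom (D : Inv9 G) :
    ∃ φ : G →* ℂˣ, φ D.t ≠ 1 ∧ ∀ v, φ (D.emb v) = 1 := by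
  obtain ⟨K⟩ := D.exists_common
  obtain ⟨h1, ht⟩ := K.linear
  have hchar : IsCharacter G K.fn := by
    rcases K.sg_cases with e | e
    · rw [Common.fn, e, one_smul]; exact isCharacter_of_irr K.χ.2
    · exfalso
      obtain ⟨d, hd, hd'⟩ := irr_degree_pos K.χ.2
      rw [Common.fn, e, Pi.smul_apply, hd', smul_eq_mul, neg_one_mul, neg_eq_iff_eq_neg] at h1
      have h2 : ((d : ℤ) : ℂ) = ((-1 : ℤ) : ℂ) := by push_cast; exact h1
      have h3 : (d : ℤ) = -1 := Int.cast_injective h2
      omega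
  obtain ⟨φ, hφ⟩ := exists_hom_of_degree_one hchar h1
  refine ⟨φ, fun e => ht (by rw [hφ]; simp [e]), fun v => Units.ext ?_⟩
  by_cases hv : v = 0
  · rw [hv, D.emb_zero, map_one]
  · have := K.fn_emb hv
    rw [hφ] at this
    simp only at this
    rw [this, Units.val_one]

end Inv9

end CfsgLib.Sym9Three
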