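import Cfsg.Agent.Lib.Sym9Three.InvCommon
import Cfsg.Agent.Lib.Sym9Three.Cover
import Cfsg.Agent.Lib.CharTheory.Brauer
import Cfsg.Agent.Lib.CharTheory.Schur

set_option autoImplicit false
set_option linter.style.haveILetI false

/-!
An irreducible character of the extension with the values of twice the principal character plus the common
constituent.
-/

namespace CfsgLib.Sym9Three

open Cfsg CfsgLib.CharTheory
open scoped ComplexConjugate

universe u

namespace Inv9

variable {G : Type u} [Group G] [Fintype G] (D : Inv9 G)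

/-- A conjugate of a nontrivial element of the subgroup. -/
def Sing (g : G) : Prop := ∃ (h : G) (v : V2), v ≠ 0 ∧ h * g * h⁻¹ = D.emb v

theorem Sing_conj {g : G} (k : G) (hg : D.Sing g) : D.Sing (k * g * k⁻¹) := by
  obtain ⟨h, v, hv, e⟩ := hg
  refine ⟨h * k⁻¹, v, hv, ?_⟩
  rw [← e]; group

theorem emb_ne_one {v : V2} (hv : v ≠ 0) : D.emb v ≠ 1 := fun e => hv (D.emb_inj (e.trans D.emb_zero.symm))

/-- The subgroup is a Sylow subgroup. -/
theorem exists_sylow : ∃ P : Sylow 3 G, (P : Subgroup G) = D.A := by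
  have hv : ((1, 0) : V2) ≠ 0 := by decide +kernel
  haveI : Fact (Nat.Prime 3) := ⟨Nat.prime_three⟩
  obtain ⟨P, hP⟩ := (IsPGroup.of_card (p := 3) (n := 2) (G := D.A) D.card_A).exists_le_sylow
  refine ⟨P, ?_⟩
  by_contra hne
  have hlt : D.A < (P : Subgroup G) := lt_of_le_of_ne hP (Ne.symm hne)
  haveI : Group.IsNilpotent (P : Subgroup G) := P.2.isNilpotent
  have hlt' : D.A.subgroupOf (P : Subgroup G) < ⊤ :=
    lt_top_iff_ne_top.mpr fun e => hne (le_antisymm (Subgroup.subgroupOf_eq_top.mp e) hP)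
  obtain ⟨⟨g, hgP⟩, hgn, hgA⟩ := SetLike.exists_of_lt (Group.normalizerCondition_of_isNilpotent _ hlt')
  obtain ⟨w, hw⟩ := (Subgroup.mem_normalizer_iff.mp hgn ⟨D.emb (1, 0), hP ⟨Multiplicative.ofAdd (1, 0), rfl⟩⟩).mp
    ⟨Multiplicative.ofAdd (1, 0), rfl⟩
  obtain ⟨x, e | e⟩ := D.ctrl g (1, 0) (Multiplicative.toAdd w) hv hw.symm
  · exact hgA ⟨Multiplicative.ofAdd x, e.symm⟩
  · refine D.t_notin 0 ?_
    have htP : D.t ∈ (P : Subgroup G) := by
      have hx : D.emb x ∈ (P : Subgroup G) := hP ⟨Multiplicative.ofAdd x, rfl⟩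
      have := mul_mem (inv_mem hx) hgP
      rwa [e, inv_mul_cancel_left] at this
    obtain ⟨k, hk⟩ := P.2 ⟨D.t, htP⟩
    have h' : D.t ^ 3 ^ k = 1 := congrArg Subtype.val hk
    rw [D.emb_zero]
    have hodd : 3 ^ k % 2 = 1 := Nat.odd_iff.mp ((by decide : Odd 3).pow)
    rwa [← Nat.div_add_mod (3 ^ k) 2, hodd, pow_succ, pow_mul, pow_two, D.tt, one_pow, one_mul] at h'

/-- The index of the subgroup. -/
noncomputable def m0 (_D : Inv9 G) : ℕ := Nat.card G / 9

theorem card_eq : Nat.card G = 9 * D.m0 ∧ ¬ 3 ∣ D.m0 := by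
  haveI : Fact (Nat.Prime 3) := ⟨Nat.prime_three⟩
  obtain ⟨P, hP⟩ := D.exists_sylow
  have h9 : Nat.card (P : Subgroup G) = 9 := by rw [hP]; exact D.card_A
  have he : Nat.card G = 9 * D.m0 :=
    (Nat.mul_div_cancel' (h9 ▸ Subgroup.card_subgroup_dvd_card (P : Subgroup G))).symm
  refine ⟨he, fun h3 => ?_⟩
  have hf := Sylow.card_eq_multiplicity P
  rw [h9, show (9 : ℕ) = 3 ^ 2 by norm_num] at hf
  have h27 : 3 ^ 3 ∣ Nat.card G := by
    rw [he]; obtain ⟨j, hj⟩ := h3; rw [hj]; exact ⟨j, by ring⟩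
  rw [(Nat.prime_three).pow_dvd_iff_le_factorization Nat.card_pos.ne', ← Nat.pow_right_injective (le_refl 2 |>.trans
    (by norm_num : 2 ≤ 3)) hf] at h27
  omega

/-- An element is conjugate into the subgroup or has order dividing its index. -/
theorem sing_or_pow {g : G} (hg : ¬ D.Sing g) : g ^ D.m0 = 1 := by
  haveI : Fact (Nat.Prime 3) := ⟨Nat.prime_three⟩
  obtain ⟨he, h3⟩ := D.card_eq
  by_cases hd : 3 ∣ orderOf g
  · exfalso
    set y := g ^ (orderOf g / 3) with hy
    have hy3 : orderOf y = 3 := by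
      rw [hy]
      refine orderOf_pow_orderOf_div ?_ hd
      exact (orderOf_pos g).ne'
    obtain ⟨Q, hQ⟩ := (IsPGroup.of_card (p := 3) (n := 1) (G := Subgroup.zpowers y) (by
      rw [Nat.card_zpowers, hy3, pow_one])).exists_le_sylow
    obtain ⟨P, hP⟩ := D.exists_sylow
    obtain ⟨h, hh⟩ := MulAction.exists_smul_eq G Q P
    have hyA : h * y * h⁻¹ ∈ D.A := by
      rw [← hP, ← hh, Sylow.coe_subgroup_smul, Subgroup.mem_pointwise_smul_iff_inv_smul_mem]
      simpa [MulAut.smul_def, mul_assoc] using hQ (Subgroup.mem_zpowers y)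
    obtain ⟨w, hw⟩ := hyA
    have hw0 : Multiplicative.toAdd w ≠ 0 := fun e => by
      have h1 : h * y * h⁻¹ = 1 := by rw [← hw]; show D.emb _ = 1; rw [e, D.emb_zero]
      rw [conj_eq_one_iff] at h1
      rw [h1, orderOf_one] at hy3
      norm_num at hy3
    have hcomm : h * g * h⁻¹ * D.emb (Multiplicative.toAdd w) = D.emb (Multiplicative.toAdd w) * (h * g * h⁻¹) := by
      rw [show D.emb (Multiplicative.toAdd w) = h * y * h⁻¹ from hw]
      have hc : g * y = y * g := (Commute.self_pow g _).eq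
      calc h * g * h⁻¹ * (h * y * h⁻¹) = h * (g * y) * h⁻¹ := by group
        _ = _ := by rw [hc]; group
    obtain ⟨x, hx⟩ := D.cent _ _ hw0 hcomm
    refine hg ⟨h, x, fun e => ?_, hx⟩
    rw [e, D.emb_zero, conj_eq_one_iff] at hx
    rw [hx, orderOf_one] at hd
    norm_num at hd
  · have hdvd : orderOf g ∣ 9 * D.m0 := he ▸ orderOf_dvd_natCard g
    have hcop : (orderOf g).Coprime 9 := by
      rw [show (9 : ℕ) = 3 ^ 2 by norm_num]
      exact ((Nat.prime_three.coprime_iff_not_dvd.mpr hd).symm).pow_right 2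
    exact orderOf_dvd_iff_pow_eq_one.mp (hcop.dvd_of_dvd_mul_left hdvd)

theorem emb_sing {v : V2} (hv : v ≠ 0) : D.Sing (D.emb v) := ⟨1, v, hv, by group⟩

variable {D} (K : D.Common)

/-- The class function on the group. -/
noncomputable def Common.phi : G → ℂ :=
  (2 : ℂ) • (fun _ => (1 : ℂ)) + K.fn - ((1 : ℂ) / 3) • ∑ l, D.F l

theorem Common.phi_class : IsClassFunction G K.phi :=
  isClassFunction_sub (isClassFunction_add (isClassFunction_smul _ isClassFunction_one) K.fn_class)
    (isClassFunction_smul _ (isClassFunction_sum _ _ fun l _ => D.F_class l))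

theorem Common.phi_emb {v : V2} (hv : v ≠ 0) : K.phi (D.emb v) = 0 := by
  simp only [phi, Pi.add_apply, Pi.sub_apply, Pi.smul_apply, Finset.sum_apply, smul_eq_mul, D.F_emb, K.fn_emb hv]
  rw [show ∑ l, (fv l v : ℂ) = ((9 : ℤ) : ℂ) by rw [← fv_facts.2.2.2.1 v hv]; push_cast; rfl]
  norm_num

theorem Common.phi_sing {g : G} (hg : D.Sing g) : K.phi g = 0 := by
  obtain ⟨h, v, hv, e⟩ := hg
  rw [← K.phi_class g h, e, K.phi_emb hv]

theorem Common.phi_reg {g : G} (hg : ¬ D.Sing g) : K.phi g = 2 + K.fn g := by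
  have h0 : ∀ l, D.F l g = 0 := fun l => D.F_off l fun h v hv e => hg ⟨h, v, hv, e⟩
  simp [phi, h0]

theorem Common.phi_norm : classInner K.phi K.phi = 1 := by
  have hF : classInner (∑ l, D.F l) (∑ l, D.F l) = 36 := by
    rw [classInner_sum_left, Finset.sum_congr rfl fun l _ => classInner_sum_right _ (D.F l) _]
    simp only [D.inner_F_F, Fin.sum_univ_four]
    norm_num [Fin.ext_iff]
  have h1 : classInner (∑ l, D.F l) (fun _ => (1 : ℂ)) = 4 := by
    rw [classInner_sum_left]; simp [D.inner_F_one]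
  have h1' : classInner (fun _ => (1 : ℂ)) (∑ l, D.F l) = 4 := by rw [← classInner_comm, h1, map_ofNat]
  have hK : classInner (∑ l, D.F l) K.fn = 4 := by
    rw [classInner_sum_left]; simp [K.inner_F]
  have hK' : classInner K.fn (∑ l, D.F l) = 4 := by rw [← classInner_comm, hK, map_ofNat]
  have h11 : classInner (fun _ : G => (1 : ℂ)) (fun _ => (1 : ℂ)) = 1 := classInner_irr_self isIrrCharacter_one
  have hK1 : classInner K.fn (fun _ => (1 : ℂ)) = 0 := by rw [← classInner_comm, K.inner_one, map_zero]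
  simp only [phi, classInner_sub_left, classInner_sub_right, classInner_add_left, classInner_add_right,
    classInner_smul_left, classInner_smul_right, hF, h1, h1', hK, hK', h11, hK1, K.inner_one, K.inner_fn,
    map_ofNat, map_div₀, map_one]
  norm_num

/-- The value of the common constituent at the identity is one modulo nine. -/
theorem Common.degree_mod : ∃ n : ℤ, K.fn 1 = 1 + 9 * (n : ℂ) := by
  haveI := Fintype.ofFinite D.A
  have hres : IsGeneralizedCharacter D.A (fun a : D.A => K.fn a) := by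
    obtain ⟨a, b, ha, hb, e⟩ := K.fn_genChar
    exact ⟨_, _, isCharacter_restrict ha D.A, isCharacter_restrict hb D.A, by rw [e]; rfl⟩
  obtain ⟨n, hn⟩ := (isGenChar_iff_coeff_int.mp hres).2 _ isIrrCharacter_one
  refine ⟨n - 1, ?_⟩
  have hsum : ∑ a : D.A, K.fn a * conj (1 : ℂ) = K.fn 1 + 8 := by
    simp only [map_one, mul_one]
    rw [← D.coord.sum_comp]
    simp only [D.coord_val]
    rw [← Finset.add_sum_erase _ _ (Finset.mem_univ (0 : V2)), D.emb_zero,
      Finset.sum_congr rfl (fun v hv => K.fn_emb (Finset.mem_erase.mp hv).1), Finset.sum_const,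
      Finset.card_erase_of_mem (Finset.mem_univ _), Finset.card_univ, show Fintype.card V2 = 9 from rfl]
    norm_num
  rw [classInner, D.card_A, hsum] at hn
  push_cast at hn ⊢
  linear_combination 9 * hn

/-- The function on the extension. -/
noncomputable def Common.psi : D.Cov → ℂ := fun a => K.phi a.g * chi ((a ^ (D.m0 * D.m0)).z)

theorem Common.psi_class : IsClassFunction D.Cov K.psi := by
  intro a k
  show K.phi (k.g * a.g * k.g⁻¹) * _ = _
  rw [K.phi_class a.g k.g]
  by_cases hs : D.Sing a.g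
  · simp [psi, K.phi_sing hs]
  · unfold psi
    congr 2
    have h1 : (a ^ (D.m0 * D.m0)).g = 1 := by
      rw [← D.proj_apply, map_pow, pow_mul]
      show (a.g ^ D.m0) ^ D.m0 = 1
      rw [D.sing_or_pow hs, one_pow]
    rw [conj_pow, D.eq_zel h1, ← D.zel_comm, mul_assoc, mul_inv_cancel, mul_one]

theorem Common.psi_norm [Fintype D.Cov] : classInner K.psi K.psi = 1 := by
  have hp : ∀ a : D.Cov, K.psi a * conj (K.psi a) = K.phi a.g * conj (K.phi a.g) := fun a => by
    rw [psi, map_mul]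
    linear_combination (K.phi a.g * conj (K.phi a.g)) * chi_norm ((a ^ (D.m0 * D.m0)).z)
  have h := K.phi_norm
  rw [classInner] at h ⊢
  rw [Nat.card_congr D.covEquiv, Nat.card_prod, Finset.sum_congr rfl (fun a _ => hp a),
    show ∑ a : D.Cov, K.phi a.g * conj (K.phi a.g) = ∑ p : G × ZMod 3, K.phi p.1 * conj (K.phi p.1) from
      Fintype.sum_equiv D.covEquiv _ _ (fun a => rfl), Fintype.sum_prod_type,
    show Nat.card (ZMod 3) = 3 from Nat.card_zmod 3]
  simp only [Finset.sum_const, Finset.card_univ, ZMod.card, nsmul_eq_mul]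
  rw [← Finset.mul_sum]
  push_cast
  linear_combination h

end Inv9

end CfsgLib.Sym9Three
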