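import Cfsg.Agent.Lib.Sym9Three.SixFusion
import Cfsg.Agent.Lib.Sym9Three.ScAut
import Cfsg.Agent.Lib.Signalizer.Coprime

set_option autoImplicit false
set_option linter.style.haveILetI false
set_option synthInstance.maxSize 4000

/-!
The centralizer of four commuting conjugates of the sign change of one block.
-/

namespace CfsgLib.Sym9Three

open Subgroup Equiv Equiv.Perm

theorem conj_line : ∀ v : V3, v.1 = v.2.1 → v ≠ 0 → v = ev ∨ v = -ev ∨ ¬ eType v := by decide +kernel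

theorem ev_double : (2 : ℕ) • ev = -ev := by decide +kernel

theorem line_span : ∀ v : V3, v.1 = v.2.1 → ∃ i j : Fin 3,
    v = i.val • ((1, 1, 0) : V3) + j.val • ev := by decide +kernel

theorem line_card : Fintype.card {v : V3 // v.1 = v.2.1} = 9 := by decide +kernel

universe u

variable {G : Type u} [Group G] [Finite G]

namespace Frame

variable {F : Frame G} (hk : F.k = 3) (D : SixData F)

omit [Finite G] in
theorem SixData.pqr_list {h : Perm (Fin 6)} (hp : h * D.p = D.p * h) (hq : h * D.q = D.q * h) (hr : h * D.r = D.r * h) :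
    h = 1 ∨ h = D.p ∨ h = D.q ∨ h = D.r ∨ h = D.p * D.q ∨ h = D.p * D.r ∨ h = D.q * D.r ∨ h = D.p * D.q * D.r := by
  have := D.pack.2.2.2.2.2.2.2.1 h hp hq hr
  simpa only [List.mem_cons, List.not_mem_nil, or_false] using this

omit [Finite G] in
theorem SixData.comm_of_list {g : G} {h : Perm (Fin 6)} (hp : h * D.p = D.p * h) (hq : h * D.q = D.q * h)
    (hr : h * D.r = D.r * h) (gp : g * D.Φ D.p = D.Φ D.p * g) (gq : g * D.Φ D.q = D.Φ D.q * g)
    (gr : g * D.Φ D.r = D.Φ D.r * g) : g * D.Φ h = D.Φ h * g := by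
  have cp : Commute g (D.Φ D.p) := gp
  have cq : Commute g (D.Φ D.q) := gq
  have cr : Commute g (D.Φ D.r) := gr
  rcases D.pqr_list hp hq hr with rfl | rfl | rfl | rfl | rfl | rfl | rfl | rfl <;>
    (try simp only [map_one, map_mul, one_mul, mul_one]) <;>
    first
    | exact gp
    | exact gq
    | exact gr
    | exact (cp.mul_right cq).eq
    | exact (cp.mul_right cr).eq
    | exact (cq.mul_right cr).eq
    | exact ((cp.mul_right cq).mul_right cr).eq

include hk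

omit [Finite G] in
theorem SixData.r_conj : IsConj (D.Φ D.p) (D.Φ D.r) ∧ IsConj (D.Φ D.p) (D.Φ D.q) := by
  obtain ⟨⟨h1, h2, -⟩, -⟩ := D.pack
  have hq : IsConj (D.Φ D.p) (D.Φ D.q) :=
    isConj_iff.mpr ⟨D.Φ D.π, by rw [mul_inv_eq_iff_eq_mul, ← map_mul, h1, map_mul]⟩
  exact ⟨hq.trans (isConj_iff.mpr ⟨D.Φ D.π, by rw [mul_inv_eq_iff_eq_mul, ← map_mul, h2, map_mul]⟩), hq⟩

omit [Finite G] in
theorem SixData.list_sq {h : Perm (Fin 6)} (hp : h * D.p = D.p * h) (hq : h * D.q = D.q * h) (hr : h * D.r = D.r * h) :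
    h * h = 1 := by
  have hp2 : D.p * D.p = 1 := (D.invol_of_el hk D.hp (by decide +kernel) (by decide +kernel)).1
  have hq2 : D.q * D.q = 1 := (D.invol_of_el hk D.hq (by decide +kernel) (by decide +kernel)).1
  have hr2 : D.r * D.r = 1 := by
    obtain ⟨⟨-, h2, -⟩, -⟩ := D.pack
    have e : D.r = D.π * D.q * D.π⁻¹ := by rw [h2, mul_inv_cancel_right]
    rw [e, conj_mul, hq2, mul_one, mul_inv_cancel]
  obtain ⟨cpq, cpr, cqr⟩ := D.pack.2.2.2.1
  have hmul : ∀ {a b : Perm (Fin 6)}, a * b = b * a → a * a = 1 → b * b = 1 → a * b * (a * b) = 1 := by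
    intro a b hab ha hb
    calc a * b * (a * b) = a * (b * a) * b := by group
      _ = (a * a) * (b * b) := by rw [← hab]; group
      _ = 1 := by rw [ha, hb, one_mul]
  rcases D.pqr_list hp hq hr with rfl | rfl | rfl | rfl | rfl | rfl | rfl | rfl
  · rw [one_mul]
  · exact hp2
  · exact hq2
  · exact hr2
  · exact hmul cpq hp2 hq2
  · exact hmul cpr hp2 hr2
  · exact hmul cqr hq2 hr2
  · exact hmul ((show Commute (D.p * D.q) D.r from Commute.mul_left cpr cqr).eq) (hmul cpq hp2 hq2) hr2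

/-- The centralizer of the four involutions. -/
theorem SixData.cent_four {g : G} (gp : g * D.Φ D.p = D.Φ D.p * g) (gq : g * D.Φ D.q = D.Φ D.q * g)
    (gr : g * D.Φ D.r = D.Φ D.r * g) (g3 : g * F.el rt3 = F.el rt3 * g) :
    ∃ y, (y * D.p = D.p * y ∧ y * D.q = D.q * y ∧ y * D.r = D.r * y) ∧ (g = D.Φ y ∨ g = F.el rt3 * D.Φ y) := by
  classical
  haveI : Fact (Nat.Prime 3) := ⟨Nat.prime_three⟩
  have hev : ev ≠ (0 : V3) := fusion_facts.2.2.1
  set Y := Subgroup.centralizer ({D.Φ D.p, D.Φ D.q, D.Φ D.r} : Set G) with hY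
  have hmemY : ∀ z, z ∈ Y ↔ z * D.Φ D.p = D.Φ D.p * z ∧ z * D.Φ D.q = D.Φ D.q * z ∧ z * D.Φ D.r = D.Φ D.r * z := fun z => by
    rw [hY, Subgroup.mem_centralizer_iff]
    simp [eq_comm]
  set VS := Subgroup.centralizer ({D.p, D.q, D.r} : Set (Perm (Fin 6))) with hVS
  have hmemVS : ∀ z, z ∈ VS ↔ z * D.p = D.p * z ∧ z * D.q = D.q * z ∧ z * D.r = D.r * z := fun z => by
    rw [hVS, Subgroup.mem_centralizer_iff]
    simp [eq_comm]
  have hphiY : ∀ h ∈ VS, D.Φ h ∈ Y := by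
    intro h hh
    obtain ⟨a, b, c⟩ := (hmemVS h).mp hh
    exact (hmemY _).mpr ⟨by rw [← map_mul, a, map_mul], by rw [← map_mul, b, map_mul], by rw [← map_mul, c, map_mul]⟩
  set V := (VS.map D.Φ).subgroupOf Y with hV
  have hVmem : ∀ z : Y, z ∈ V ↔ ∃ h ∈ VS, D.Φ h = (z : G) := fun z => by
    rw [hV, Subgroup.mem_subgroupOf, Subgroup.mem_map]
  have hVcent : ∀ v ∈ V, ∀ z : Y, z * v = v * z := by
    intro v hv z
    obtain ⟨h, hh, e⟩ := (hVmem v).mp hv
    obtain ⟨a, b, c⟩ := (hmemY _).mp z.2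
    obtain ⟨h1, h2, h3⟩ := (hmemVS h).mp hh
    refine Subtype.ext ?_
    show (z : G) * v = v * z
    rw [← e]
    exact D.comm_of_list h1 h2 h3 a b c
  haveI hVn : V.Normal := ⟨fun v hv z => by rw [hVcent v hv z, mul_inv_cancel_right]; exact hv⟩
  set π := QuotientGroup.mk' V with hπ
  have hone : ∀ z : Y, π z = 1 ↔ z ∈ V := fun z => by rw [← MonoidHom.mem_ker, hπ, QuotientGroup.ker_mk']
  have heY : F.j ev ∈ Y := (hmemY _).mpr ⟨(D.comm_ev _).symm, (D.comm_ev _).symm, (D.comm_ev _).symm⟩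
  set e : Y := ⟨F.j ev, heY⟩ with he
  -- the centralizer of the translation
  have hCY : ∀ z : Y, (z : G) * F.j ev = F.j ev * z → ∃ h ∈ VS, ∃ i : Fin 3, (z : G) = D.Φ h * F.j (i.val • ev) := by
    intro z hz
    obtain ⟨y, i, hy⟩ := D.split _ hz
    obtain ⟨a, b, c⟩ := (hmemY _).mp z.2
    have hji : ∀ t, F.j (i.val • ev) * D.Φ t = D.Φ t * F.j (i.val • ev) := fun t => by
      rw [F.j_nsmul]; exact ((Commute.pow_right (D.comm_ev t) _).eq).symm
    have key : ∀ t, (z : G) * D.Φ t = D.Φ t * z → y * t = t * y := by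
      intro t ht
      rw [hy, mul_assoc, hji, ← mul_assoc, ← mul_assoc, mul_left_inj, ← map_mul, ← map_mul] at ht
      exact D.inj ht
    exact ⟨y, (hmemVS y).mpr ⟨key _ a, key _ b, key _ c⟩, i, hy⟩
  have hinvV : ∀ v : Y, v ∈ V → (v : G) * v = 1 ∧ (v : G) * F.j ev = F.j ev * v := by
    intro v hv
    obtain ⟨h, hh, e'⟩ := (hVmem v).mp hv
    obtain ⟨h1, h2, h3⟩ := (hmemVS h).mp hh
    rw [← e', ← map_mul, D.list_sq hk h1 h2 h3, map_one]
    exact ⟨rfl, D.comm_ev h⟩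
  have hVX : ∀ v : Y, v ∈ V → (v : G) ^ 3 = 1 → v = 1 := fun v hv h3 => Subtype.ext (by
    rw [pow_three', (hinvV v hv).1, one_mul] at h3
    exact h3)
  set X := Subgroup.zpowers (π e) with hX
  have heo : orderOf (π e) = 3 := by
    refine orderOf_eq_prime ?_ fun h => ?_
    · rw [← map_pow, hone]
      rw [show e ^ 3 = 1 from Subtype.ext (F.j_cube ev)]
      exact one_mem V
    · exact F.j_ne_one hev (congrArg Subtype.val (hVX e ((hone e).mp h) (F.j_cube ev)))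
  have hX3 : Nat.card X = 3 := by rw [hX, Nat.card_zpowers, heo]
  have hXC : Subgroup.centralizer (X : Set (Y ⧸ V)) = X := by
    refine le_antisymm (fun a ha => ?_) (fun a ha => Subgroup.mem_centralizer_iff.mpr fun b hb => ?_)
    · obtain ⟨z, rfl⟩ := QuotientGroup.mk'_surjective V a
      have hc := Subgroup.mem_centralizer_iff.mp ha _ (Subgroup.mem_zpowers (π e))
      have hv : (z * e * z⁻¹ * e⁻¹ : Y) ∈ V := by
        rw [← hone, map_mul, map_mul, map_mul, map_inv, map_inv, ← hc, mul_inv_cancel_right, mul_inv_cancel]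
      set v : Y := z * e * z⁻¹ * e⁻¹ with hvdef
      have hze : (z : G) * F.j ev * (z : G)⁻¹ = (v : G) * F.j ev := by
        show _ = (z : G) * F.j ev * (z : G)⁻¹ * (F.j ev)⁻¹ * F.j ev
        group
      have hv1 : v = 1 := hVX v hv (by
        have h3 : ((z : G) * F.j ev * (z : G)⁻¹) ^ 3 = 1 := by rw [conj_pow, F.j_cube]; group
        rw [hze, (show Commute (v : G) (F.j ev) from (hinvV v hv).2).mul_pow, F.j_cube, mul_one] at h3
        exact h3)
      rw [hv1, Subgroup.coe_one, one_mul, mul_inv_eq_iff_eq_mul] at hze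
      obtain ⟨h, hh, i, hz⟩ := hCY z hze
      have e1 : π z = π e ^ i.val := by
        rw [show z = ⟨D.Φ h, hphiY h hh⟩ * e ^ i.val from Subtype.ext (by
          rw [hz, F.j_nsmul]; rfl), map_mul, map_pow, (hone _).mpr ((hVmem _).mpr ⟨h, hh, rfl⟩), one_mul]
      exact e1 ▸ Subgroup.pow_mem _ (Subgroup.mem_zpowers _) _
    · obtain ⟨i, rfl⟩ := Subgroup.mem_zpowers_iff.mp ha
      obtain ⟨j, rfl⟩ := Subgroup.mem_zpowers_iff.mp hb
      rw [← zpow_add, ← zpow_add, add_comm]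
  -- the acting group
  obtain ⟨k, hk'⟩ := D.hπ
  set K := D.Φ k with hK
  have hKev : K * F.j ev = F.j ev * K := D.comm_ev k
  let R : Subgroup G :=
    { carrier := {z | ∃ v : V3, v.1 = v.2.1 ∧ K * F.j v * K⁻¹ = z}
      mul_mem' := by
        rintro _ _ ⟨v, hv, rfl⟩ ⟨w, hw, rfl⟩
        exact ⟨v + w, by simp [hv, hw], by rw [F.j_add, conj_mul]⟩
      one_mem' := ⟨0, rfl, by rw [F.j_zero]; group⟩
      inv_mem' := by
        rintro _ ⟨v, hv, rfl⟩
        exact ⟨-v, by simp [hv], by rw [F.j_neg]; group⟩ }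
  have hRe : F.j ev ∈ R := ⟨ev, rfl, by rw [hKev, mul_inv_cancel_right]⟩
  have hRea : Cfsg.IsElementaryAbelian 3 R := by
    refine ⟨⟨⟨?_⟩⟩, ?_⟩
    · rintro ⟨_, v, hv, rfl⟩ ⟨_, w, hw, rfl⟩
      refine Subtype.ext ?_
      show K * F.j v * K⁻¹ * (K * F.j w * K⁻¹) = K * F.j w * K⁻¹ * (K * F.j v * K⁻¹)
      rw [conj_mul, conj_mul, F.J_comm (F.j_mem v) (F.j_mem w)]
    · rintro _ ⟨v, hv, rfl⟩
      rw [conj_pow, F.j_cube]; group
  have hRY : ∀ x ∈ R, ∀ z ∈ Y, x * z * x⁻¹ ∈ Y := by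
    have hgen : ∀ z ∈ Y, D.Φ D.π * z * (D.Φ D.π)⁻¹ ∈ Y := by
      intro z hz
      obtain ⟨a, b, c⟩ := (hmemY z).mp hz
      obtain ⟨⟨e1, e2, e3⟩, -⟩ := D.pack
      have key : ∀ {s t : Perm (Fin 6)}, D.π * s = t * D.π → z * D.Φ s = D.Φ s * z →
          D.Φ D.π * z * (D.Φ D.π)⁻¹ * D.Φ t = D.Φ t * (D.Φ D.π * z * (D.Φ D.π)⁻¹) := by
        intro s t h hs
        have ht : D.Φ t = D.Φ D.π * D.Φ s * (D.Φ D.π)⁻¹ := by
          rw [← map_inv, ← map_mul, ← map_mul, h, mul_inv_cancel_right]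
        rw [ht, conj_mul, conj_mul, hs]
      exact (hmemY _).mpr ⟨key e3 c, key e1 a, key e2 b⟩
    intro x hx z hz
    obtain ⟨v, hv, rfl⟩ := hx
    obtain ⟨i, j, hvij⟩ := line_span v hv
    rw [hvij, F.j_add, F.j_nsmul, F.j_nsmul, ← conj_mul, ← conj_pow, ← conj_pow, hk', hKev, mul_inv_cancel_right]
    have h1 : F.j ev ^ j.val * z * (F.j ev ^ j.val)⁻¹ ∈ Y := mul_mem (mul_mem (Subgroup.pow_mem _ heY _) hz)
      (inv_mem (Subgroup.pow_mem _ heY _))
    have h2 : ∀ n : ℕ, ∀ z ∈ Y, D.Φ D.π ^ n * z * (D.Φ D.π ^ n)⁻¹ ∈ Y := by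
      intro n
      induction n with
      | zero => intro z hz; simpa using hz
      | succ n ih => intro z hz; simpa [pow_succ, mul_assoc] using ih _ (hgen z hz)
    simpa [mul_assoc] using h2 i.val _ h1
  let cy : R → MulAut Y := fun x =>
    { toFun := fun z => ⟨(x : G) * z * (x : G)⁻¹, hRY x x.2 z z.2⟩
      invFun := fun z => ⟨((x⁻¹ : R) : G) * z * ((x⁻¹ : R) : G)⁻¹, hRY _ (x⁻¹ : R).2 z z.2⟩
      left_inv := fun z => Subtype.ext (by simp [mul_assoc])
      right_inv := fun z => Subtype.ext (by simp [mul_assoc])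
      map_mul' := fun a b => Subtype.ext (by simp [mul_assoc]) }
  have hcyV : ∀ x : R, V.map (cy x : Y →* Y) = V := by
    intro x
    refine Subgroup.eq_of_le_of_card_ge ?_ (by rw [Subgroup.card_map_of_injective (cy x).injective])
    rintro _ ⟨v, hv, rfl⟩
    obtain ⟨h, hh, e'⟩ := (hVmem v).mp hv
    obtain ⟨w, hw, ew⟩ := x.2
    obtain ⟨i, j, hvij⟩ := line_span w hw
    have hxe : (x : G) = D.Φ D.π ^ i.val * F.j ev ^ j.val := by
      rw [← ew, hvij, F.j_add, F.j_nsmul, F.j_nsmul, ← conj_mul, ← conj_pow, ← conj_pow, hk', hKev, mul_inv_cancel_right]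
    set h' := D.π ^ i.val * h * (D.π ^ i.val)⁻¹ with hh'
    refine (hVmem _).mpr ⟨h', ?_, ?_⟩
    · have hVπ : ∀ h ∈ VS, D.π * h * D.π⁻¹ ∈ VS := by
        intro h hh
        obtain ⟨a, b, c⟩ := (hmemVS h).mp hh
        obtain ⟨⟨e1, e2, e3⟩, -⟩ := D.pack
        have key : ∀ {s t : Perm (Fin 6)}, D.π * s = t * D.π → h * s = s * h →
            D.π * h * D.π⁻¹ * t = t * (D.π * h * D.π⁻¹) := by
          intro s t ht hs
          rw [show t = D.π * s * D.π⁻¹ by rw [ht, mul_inv_cancel_right], conj_mul, conj_mul, hs]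
        exact (hmemVS _).mpr ⟨key e3 c, key e1 a, key e2 b⟩
      have : ∀ n : ℕ, ∀ h ∈ VS, D.π ^ n * h * (D.π ^ n)⁻¹ ∈ VS := by
        intro n
        induction n with
        | zero => intro h hh; simpa using hh
        | succ n ih => intro h hh; simpa [pow_succ, mul_assoc] using ih _ (hVπ h hh)
      exact this i.val h hh
    · show D.Φ h' = (x : G) * v * (x : G)⁻¹
      have hc : F.j ev ^ j.val * D.Φ h = D.Φ h * F.j ev ^ j.val := ((Commute.pow_right (D.comm_ev h) _).eq).symm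
      rw [hh', map_mul, map_mul, map_inv, map_pow, hxe, ← e']
      calc D.Φ D.π ^ i.val * D.Φ h * (D.Φ D.π ^ i.val)⁻¹
          = D.Φ D.π ^ i.val * (D.Φ h * F.j ev ^ j.val * (F.j ev ^ j.val)⁻¹) * (D.Φ D.π ^ i.val)⁻¹ := by group
        _ = D.Φ D.π ^ i.val * F.j ev ^ j.val * D.Φ h * (D.Φ D.π ^ i.val * F.j ev ^ j.val)⁻¹ := by rw [← hc]; group
  let φ : R →* MulAut (Y ⧸ V) := MonoidHom.mk' (fun x => QuotientGroup.congr V V (cy x) (hcyV x)) fun x x' => by
    refine MulEquiv.ext fun q => QuotientGroup.induction_on q fun z => congrArg π (Subtype.ext ?_)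
    show ((x * x' : R) : G) * z * ((x * x' : R) : G)⁻¹ = (x : G) * ((x' : G) * z * (x' : G)⁻¹) * (x : G)⁻¹
    rw [Subgroup.coe_mul]
    group
  have hR9 : Nat.card R = 9 := by
    rw [← line_card, ← Nat.card_eq_fintype_card]
    refine (Nat.card_congr (Equiv.ofBijective
      (fun v : {v : V3 // v.1 = v.2.1} => (⟨K * F.j v.1 * K⁻¹, v.1, v.2, rfl⟩ : R))
      ⟨fun a b h => Subtype.ext (F.j_inj (mul_left_cancel (mul_right_cancel (congrArg Subtype.val h)))), fun z => ?_⟩)).symm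
    obtain ⟨v, hv, e'⟩ := z.2
    exact ⟨⟨v, hv⟩, Subtype.ext e'⟩
  have hXn : X.Normal := by
    refine sc_three_normal_of_action X hX3 hXC (P := R) (IsPGroup.of_card (n := 2) hR9) φ fun U hU hUR => ?_
    set Ut := U.comap π with hUt
    set Ug := Ut.map Y.subtype with hUg
    have hcU : ¬ 3 ∣ Nat.card Ug := by
      intro h3
      rw [hUg, Subgroup.card_map_of_injective Y.subtype_injective] at h3
      obtain ⟨⟨z, hz⟩, hzo⟩ := exists_prime_orderOf_dvd_card' 3 h3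
      rw [Subgroup.orderOf_mk] at hzo
      have hz3 : z ^ 3 = 1 := by rw [← hzo]; exact pow_orderOf_eq_one z
      have hπz : π z ^ 3 = 1 := by rw [← map_pow, hz3, map_one]
      have hd := Nat.dvd_gcd (orderOf_dvd_of_pow_eq_one hπz) (Subgroup.orderOf_dvd_natCard U hz)
      rw [Nat.gcd_comm, hU.gcd_eq_one] at hd
      have hzV := (hone z).mp (orderOf_eq_one_iff.mp (Nat.eq_one_of_dvd_one hd))
      have := hVX z hzV (congrArg Subtype.val hz3)
      rw [this, orderOf_one] at hzo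
      norm_num at hzo
    have hRU : R ≤ Subgroup.normalizer (Ug : Set G) := by
      have key : ∀ x : R, ∀ z ∈ Ug, (x : G) * z * (x : G)⁻¹ ∈ Ug := by
        rintro x _ ⟨z, hz, rfl⟩
        refine ⟨cy x z, ?_, rfl⟩
        show π (cy x z) ∈ U
        rw [← hUR x]
        exact ⟨π z, hz, rfl⟩
      intro x hx
      rw [Subgroup.mem_normalizer_iff]
      refine fun z => ⟨key ⟨x, hx⟩ z, fun hz => ?_⟩
      have := key (⟨x, hx⟩⁻¹ : R) _ hz
      simpa [mul_assoc] using this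
    have hle : Ug ≤ Subgroup.centralizer ({F.j ev} : Set G) := by
      rw [CfsgLib.Signalizer.gen_index hRea hcU hRU, iSup_le_iff]
      rintro ⟨B, hBR, hB⟩ x ⟨hxU, hxB⟩
      obtain ⟨a, haB, ha1⟩ : ∃ a ∈ B, a ≠ 1 := by
        by_contra h
        push Not at h
        have : B = ⊥ := (Subgroup.eq_bot_iff_forall B).mpr h
        rw [this, Subgroup.relIndex_bot_left, hR9] at hB
        norm_num at hB
      have hxa := Subgroup.mem_centralizer_iff.mp hxB a haB
      obtain ⟨v, hv, rfl⟩ := hBR haB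
      have hv0 : v ≠ 0 := fun e' => ha1 (by rw [e', F.j_zero]; group)
      have hev' : F.j ev ∈ R := hRe
      rw [Subgroup.mem_centralizer_singleton_iff]
      rcases conj_line v hv hv0 with rfl | rfl | hne
      · rw [hKev, mul_inv_cancel_right] at hxa
        exact hxa.symm
      · rw [F.j_neg, show K * (F.j ev)⁻¹ * K⁻¹ = (K * F.j ev * K⁻¹)⁻¹ by group, hKev, mul_inv_cancel_right] at hxa
        have hc : Commute x (F.j ev)⁻¹ := hxa.symm
        simpa using hc.inv_right.eq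
      · have hxN : K⁻¹ * x * K ∈ F.N := F.good hv0 (fun _ => hne) _ (by
          calc K⁻¹ * x * K * F.j v = K⁻¹ * (x * (K * F.j v * K⁻¹)) * K := by group
            _ = F.j v * (K⁻¹ * x * K) := by rw [← hxa]; group)
        obtain ⟨w, hw⟩ : ∃ w, F.j w = K⁻¹ * (x * F.j ev * x⁻¹ * (F.j ev)⁻¹) * K := by
          obtain ⟨m, hm, em⟩ := (F.mem_N _).mp hxN
          refine ⟨act m.g ev + -ev, ?_⟩
          have hKi : (F.j ev)⁻¹ * K = K * (F.j ev)⁻¹ := ((Commute.inv_right (show Commute K (F.j ev) from hKev)).eq).symm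
          rw [F.j_add, F.j_neg, ← F.el_conj hm, em,
            show K⁻¹ * (x * F.j ev * x⁻¹ * (F.j ev)⁻¹) * K = K⁻¹ * x * (F.j ev * x⁻¹) * ((F.j ev)⁻¹ * K) by group, hKi,
            show K⁻¹ * x * K * F.j ev * (K⁻¹ * x * K)⁻¹ = K⁻¹ * x * (K * F.j ev * K⁻¹) * x⁻¹ * K by group, hKev,
            mul_inv_cancel_right]
          group
        have hcU' : x * F.j ev * x⁻¹ * (F.j ev)⁻¹ ∈ Ug := by
          have h1 := (Subgroup.mem_normalizer_iff.mp (hRU hev') _).mp (inv_mem hxU)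
          have h2 := mul_mem hxU h1
          simpa [mul_assoc] using h2
        have hc3 : (x * F.j ev * x⁻¹ * (F.j ev)⁻¹) ^ 3 = 1 := by
          have := F.j_cube w
          rw [hw, show K⁻¹ * (x * F.j ev * x⁻¹ * (F.j ev)⁻¹) * K = K⁻¹ * (x * F.j ev * x⁻¹ * (F.j ev)⁻¹) * K⁻¹⁻¹ by
            rw [inv_inv], conj_pow, inv_inv] at this
          calc (x * F.j ev * x⁻¹ * (F.j ev)⁻¹) ^ 3
              = K * (K⁻¹ * (x * F.j ev * x⁻¹ * (F.j ev)⁻¹) ^ 3 * K) * K⁻¹ := by group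
            _ = 1 := by rw [this]; group
        have hd := Nat.dvd_gcd (orderOf_dvd_of_pow_eq_one hc3) (Subgroup.orderOf_dvd_natCard Ug hcU')
        rw [(Nat.prime_three.coprime_iff_not_dvd.mpr hcU).gcd_eq_one] at hd
        have h1 := orderOf_eq_one_iff.mp (Nat.eq_one_of_dvd_one hd)
        exact mul_inv_eq_iff_eq_mul.mp (mul_inv_eq_one.mp h1)
    rw [Subgroup.eq_bot_iff_forall]
    intro q hq
    obtain ⟨z, rfl⟩ := QuotientGroup.mk'_surjective V q
    obtain ⟨h, hh, i, hz⟩ := hCY z (Subgroup.mem_centralizer_singleton_iff.mp (hle ⟨z, hq, rfl⟩))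
    have hzp : π z = π e ^ i.val := by
      rw [show z = ⟨D.Φ h, hphiY h hh⟩ * e ^ i.val from Subtype.ext (by rw [hz, F.j_nsmul]; rfl), map_mul, map_pow,
        (hone _).mpr ((hVmem _).mpr ⟨h, hh, rfl⟩), one_mul]
    have hd := Nat.dvd_gcd (Subgroup.orderOf_dvd_natCard U hq)
      (show orderOf (π z) ∣ 3 by rw [hzp]; exact (orderOf_pow_dvd _).trans (dvd_of_eq heo))
    rw [hU.gcd_eq_one] at hd
    exact orderOf_eq_one_iff.mp (Nat.eq_one_of_dvd_one hd)
  -- conclusion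
  set gY : Y := ⟨g, (hmemY g).mpr ⟨gp, gq, gr⟩⟩ with hgY
  obtain ⟨i, hi⟩ := mem_powers_iff_mem_zpowers.mpr (hXn.conj_mem _ (Subgroup.mem_zpowers (π e)) (π gY))
  have hv : (gY * e * gY⁻¹ * (e ^ (i % 3))⁻¹ : Y) ∈ V := by
    rw [← hone, map_mul, map_mul, map_mul, map_inv, map_inv, map_pow,
      show π e ^ (i % 3) = π e ^ i by rw [← heo, pow_mod_orderOf], show π e ^ i = π gY * π e * (π gY)⁻¹ from hi]
    exact mul_inv_cancel _
  set n := i % 3 with hn
  have hge : g * F.j ev * g⁻¹ = F.j ev ^ n := by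
    obtain ⟨h1, h2⟩ := hinvV _ hv
    set v : Y := gY * e * gY⁻¹ * (e ^ n)⁻¹ with hvdef
    have hve : g * F.j ev * g⁻¹ = (v : G) * F.j ev ^ n := by
      show _ = g * F.j ev * g⁻¹ * (F.j ev ^ n)⁻¹ * F.j ev ^ n
      group
    have hv1 : v = 1 := hVX v hv (by
      have h3 : (g * F.j ev * g⁻¹) ^ 3 = 1 := by rw [conj_pow, F.j_cube]; group
      rw [hve, (Commute.pow_right (show Commute (v : G) (F.j ev) from h2) n).mul_pow, ← pow_mul, mul_comm n,
        pow_mul, F.j_cube, one_pow, mul_one] at h3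
      exact h3)
    rw [hve, hv1, Subgroup.coe_one, one_mul]
  have hn3 : n < 3 := Nat.mod_lt _ (by norm_num)
  interval_cases n
  · rw [pow_zero, conj_eq_one_iff] at hge
    exact absurd hge (F.j_ne_one hev)
  · rw [pow_one, mul_inv_eq_iff_eq_mul] at hge
    obtain ⟨y, hy⟩ := D.mem g hge g3
    refine ⟨y, ⟨D.inj ?_, D.inj ?_, D.inj ?_⟩, Or.inl hy.symm⟩ <;> rw [map_mul, map_mul, hy]
    exacts [gp, gq, gr]
  · have ht3 : F.el rt3 * F.el rt3 = 1 := F.el_sq_one (F.mem_all hk _) (by decide +kernel)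
    have ht3e : F.el rt3 * F.j ev * (F.el rt3)⁻¹ = (F.j ev)⁻¹ := by
      rw [F.el_conj (F.mem_all hk _), show act rt3.g ev = -ev from ev_sign.1, F.j_neg]
    set g' := F.el rt3 * g with hg'
    have h1 : g' * F.j ev = F.j ev * g' := by
      have e2 : F.j ev ^ 2 = (F.j ev)⁻¹ := eq_inv_of_mul_eq_one_left (by rw [← pow_succ]; exact F.j_cube ev)
      rw [e2] at hge
      have : g' * F.j ev * g'⁻¹ = F.j ev := by
        calc g' * F.j ev * g'⁻¹ = F.el rt3 * (g * F.j ev * g⁻¹) * (F.el rt3)⁻¹ := by rw [hg']; group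
          _ = (F.el rt3 * F.j ev * (F.el rt3)⁻¹)⁻¹ := by rw [hge]; group
          _ = F.j ev := by rw [ht3e, inv_inv]
      exact mul_inv_eq_iff_eq_mul.mp this
    have h2 : g' * F.el rt3 = F.el rt3 * g' := by rw [hg', mul_assoc, g3]
    obtain ⟨y, hy⟩ := D.mem g' h1 h2
    have hc : ∀ t, g * D.Φ t = D.Φ t * g → y * t = t * y := fun t ht => D.inj (by
      rw [map_mul, map_mul, hy, hg', mul_assoc, ht, ← mul_assoc, ← D.comm_t3, mul_assoc])
    refine ⟨y, ⟨hc _ gp, hc _ gq, hc _ gr⟩, Or.inr ?_⟩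
    rw [hy, hg', ← mul_assoc, ht3, one_mul]

end Frame

end CfsgLib.Sym9Three
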