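import Cfsg.Agent.Lib.Sym9Three.SixCoords

set_option autoImplicit false
set_option linter.style.haveILetI false
set_option synthInstance.maxSize 4000

/-!
The conjugates of the sign change of one block in the centralizer of a translation moving one block.
-/

namespace CfsgLib.Sym9Three

open Subgroup Equiv Equiv.Perm

theorem six_invol_fix : ∀ u : Perm (Fin 6), u * u = 1 → u ≠ 1 →
    (fixCount u = 0 ∨ fixCount u = 2 ∨ fixCount u = 4) ∧ (fixCount u = 2 → sign u = 1) ∧ (sign u = 1 → fixCount u = 2) := by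
  decide +kernel

theorem six_rep_fix : fixCount (swap (0 : Fin 6) 1) = 4 ∧ fixCount (swap (0 : Fin 6) 1 * swap 2 3) = 2 ∧
    fixCount (swap (0 : Fin 6) 1 * swap 2 3 * swap 4 5) = 0 := by decide +kernel

theorem six_conj_of_fix {u v : Perm (Fin 6)} (hu : u * u = 1) (hu1 : u ≠ 1) (hv : v * v = 1) (hv1 : v ≠ 1)
    (h : fixCount u = fixCount v) : ∃ k, k * u = v * k := by
  obtain ⟨a, ha⟩ := six_invol_classes u hu hu1
  obtain ⟨b, hb⟩ := six_invol_classes v hv hv1
  obtain ⟨h4, h2, h0⟩ := six_rep_fix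
  refine ⟨b⁻¹ * a, ?_⟩
  have key : ∀ R : Perm (Fin 6), a * u = R * a → b * v = R * b → b⁻¹ * a * u = v * (b⁻¹ * a) := by
    intro R e1 e2
    rw [show v = b⁻¹ * R * b by rw [mul_assoc, ← e2, inv_mul_cancel_left], mul_assoc b⁻¹ a u, e1]
    group
  rcases ha with e1 | e1 | e1 <;> rcases hb with e2 | e2 | e2 <;> first
    | exact key _ e1 e2
    | (have f1 := fixCount_conj e1; have f2 := fixCount_conj e2; rw [f1, f2] at h; simp only [h4, h2, h0] at h; omega)

theorem eps_line : ∀ v : V3, v.1 = 0 → eType v → ∃ r : Fin 48, act r ev = v ∧ rot r * rot 6 = rot 6 * rot r := by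
  decide +kernel

theorem fusion_facts : ((1, 1, 0) : V3) ≠ 0 ∧ ((0, 1, 0) : V3) ≠ 0 ∧ ev ≠ (0 : V3) ∧
    tr (1, 1, 0) * rot 1 = rot 1 * tr (1, 1, 0) ∧ tr (0, 1, 0) * rot 6 = rot 6 * tr (0, 1, 0) ∧
    rot 6 * rot 12 = rot 18 ∧ rt3 * rot 6 = rot 30 ∧ rt3 * rot 18 = rot 42 ∧ rt3 * rot 1 = rot 25 ∧
    rot 18 * tr ev = tr ev * rot 18 := by decide +kernel

theorem thirty_conj : ∃ n : Fin 48, rot n * rot 30 = rot 18 * rot n := by decide +kernel

theorem block_conj : ∃ n : Fin 48, rot n * rot 6 = rot 24 * rot n := by decide +kernel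

universe u

variable {G : Type u} [Group G] [Finite G]

namespace Frame

variable {F : Frame G} (hk : F.k = 3) (D : SixData F)

include hk D

omit [Finite G] in
theorem SixData.phi_sq {y : Perm (Fin 6)} (h : y * y = 1) : D.Φ y * D.Φ y = 1 := by rw [← map_mul, h, map_one]

omit [Finite G] in
theorem SixData.preimage {m : Mon} (h1 : m * tr ev = tr ev * m) (h2 : m * rt3 = rt3 * m) :
    ∃ y, D.Φ y = F.el m :=
  D.mem _ ((F.el_comm_iff (F.mem_all hk _) (F.mem_all hk _)).mpr h1)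
    ((F.el_comm_iff (F.mem_all hk _) (F.mem_all hk _)).mpr h2)

omit [Finite G] in
theorem SixData.invol_of_el {y : Perm (Fin 6)} {r : Fin 48} (hy : D.Φ y = F.el (rot r)) (h2 : rot r * rot r = 1)
    (h1 : rot r ≠ 1) : y * y = 1 ∧ y ≠ 1 := by
  refine ⟨D.inj ?_, fun e => h1 (F.el_inj _ (F.mem_all hk _) 1 (one_mem _) ?_)⟩
  · rw [map_mul, map_one, hy, F.el_sq_one (F.mem_all hk _) h2]
  · rw [← hy, e, map_one, F.el_one]

omit [Finite G] in
theorem SixData.sign_odd {y : Perm (Fin 6)} {r : Fin 48} (hy : D.Φ y = F.el (rot r)) (h2 : rot r * rot r = 1)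
    (h1 : rot r ≠ 1) {v : V3} (hv : v.2.2 = 0) (hv0 : v ≠ 0) (hc : tr v * rot r = rot r * tr v) : sign y = -1 := by
  obtain ⟨hy2, hy1⟩ := D.invol_of_el hk hy h2 h1
  obtain ⟨c, hcv⟩ := D.preimage hk (flat_facts v hv).2 (flat_facts v hv).1
  refine six_odd_of_cent_three y hy2 hy1 ⟨c, D.inj ?_, fun e => F.j_ne_one hv0 ?_, D.inj ?_⟩
  · rw [map_mul, map_mul, map_one, hcv, ← pow_three']
    exact F.j_cube v
  · show F.el (tr v) = 1
    rw [← hcv, e, map_one]
  · rw [map_mul, map_mul, hcv, hy, (F.el_comm_iff (F.mem_all hk _) (F.mem_all hk _)).mpr hc]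

theorem SixData.eps_not_eighteen : ¬ IsConj (F.el (rot 6)) (F.el (rot 18)) := by
  intro h
  obtain ⟨g, v, hv, hgu, hgz⟩ := F.eps_conj_data hk h (F.j_cube ev)
    ((F.el_comm_iff (tr_mem_Sub _ _) (F.mem_all hk _)).mpr fusion_facts.2.2.2.2.2.2.2.2.2.symm)
  have hv0 : v ≠ 0 := fun e => by
    rw [e, F.j_zero, conj_eq_one_iff] at hgz
    exact F.j_ne_one fusion_facts.2.2.1 hgz
  by_cases he : eType v
  · obtain ⟨r, hr, hr6⟩ := eps_line v hv he
    have hrc := (F.el_comm_iff (F.mem_all hk _) (F.mem_all hk _)).mpr hr6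
    set R := F.el (rot r) with hR
    have hRz : R * F.j ev * R⁻¹ = F.j v := by rw [hR, F.el_conj (F.mem_all hk _), hr]
    have hg' : R⁻¹ * g * F.j ev = F.j ev * (R⁻¹ * g) := by
      rw [← hRz] at hgz
      calc R⁻¹ * g * F.j ev = R⁻¹ * (g * F.j ev * g⁻¹) * g := by group
        _ = F.j ev * (R⁻¹ * g) := by rw [hgz]; group
    obtain ⟨y, i, e⟩ := D.split _ hg'
    have hpq : D.Φ (D.p * D.q) = F.el (rot 18) := by
      rw [map_mul, D.hp, D.hq, ← F.el_mul _ (F.mem_all hk _) _ (F.mem_all hk _), fusion_facts.2.2.2.2.2.1]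
    have hz : F.j (i.val • ev) * D.Φ (D.p * D.q) = D.Φ (D.p * D.q) * F.j (i.val • ev) := by
      rw [F.j_nsmul]
      exact ((Commute.pow_right (D.comm_ev (D.p * D.q)) _).eq).symm
    have e1 : R⁻¹ * g * F.el (rot 18) * (R⁻¹ * g)⁻¹ = F.el (rot 6) := by
      calc R⁻¹ * g * F.el (rot 18) * (R⁻¹ * g)⁻¹ = R⁻¹ * (g * F.el (rot 18) * g⁻¹) * R := by group
        _ = F.el (rot 6) := by rw [hgu, mul_assoc, ← hrc, inv_mul_cancel_left]
    rw [e, ← hpq, ← D.hp, mul_assoc (D.Φ y), hz, ← mul_assoc, mul_inv_rev, ← mul_assoc, mul_inv_cancel_right,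
      ← map_inv, ← map_mul, ← map_mul] at e1
    have e2 := congrArg sign (D.inj e1)
    have hq : sign D.q = -1 := D.sign_odd hk D.hq (by decide +kernel) (by decide +kernel) (v := (1, 0, 0)) rfl
      axis_facts.2.1 axis_facts.2.2.2.2.1
    have hp : sign D.p = -1 := D.sign_odd hk D.hp (by decide +kernel) (by decide +kernel) (v := (0, 1, 0)) rfl
      axis_facts.1 axis_facts.2.2.2.1
    rw [map_mul, map_mul, map_inv, hp, map_mul, hp, hq] at e2
    simp at e2
  · obtain ⟨n, hn, rfl⟩ := (F.mem_N g).mp (F.ctrl_target (F.good hv0 fun _ => he) hgz)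
    refine (eps_sep n).2.2.1 (F.el_inj _ (F.mem_all hk _) _ (F.mem_all hk _) ?_)
    rw [F.el_mul _ hn _ (F.mem_all hk _), F.el_mul _ (F.mem_all hk _) _ hn, ← hgu]
    group

/-- An involution of the symmetric group is conjugate to one of three special ones. -/
theorem SixData.class_cases {y : Perm (Fin 6)} (h2 : y * y = 1) (h1 : y ≠ 1) :
    ∃ r ∈ ([6, 18, 1] : List (Fin 48)), ∃ k : Perm (Fin 6), D.Φ k * D.Φ y * (D.Φ k)⁻¹ = F.el (rot r) ∧
      (r = 6 → fixCount y = fixCount D.p) := by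
  obtain ⟨hp2, hp1⟩ := D.invol_of_el hk D.hp (by decide +kernel) (by decide +kernel)
  obtain ⟨s0, hs0⟩ := D.preimage hk (sign_flat 1 (by simp)).2 (sign_flat 1 (by simp)).1
  obtain ⟨hs2, hs1⟩ := D.invol_of_el hk hs0 (by decide +kernel) (by decide +kernel)
  have hpq : D.Φ (D.p * D.q) = F.el (rot 18) := by
    rw [map_mul, D.hp, D.hq, ← F.el_mul _ (F.mem_all hk _) _ (F.mem_all hk _), fusion_facts.2.2.2.2.2.1]
  obtain ⟨hpq2, hpq1⟩ := D.invol_of_el hk hpq (by decide +kernel) (by decide +kernel)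
  have sp : sign D.p = -1 := D.sign_odd hk D.hp (by decide +kernel) (by decide +kernel) (v := (0, 1, 0)) rfl
    axis_facts.1 axis_facts.2.2.2.1
  have sq : sign D.q = -1 := D.sign_odd hk D.hq (by decide +kernel) (by decide +kernel) (v := (1, 0, 0)) rfl
    axis_facts.2.1 axis_facts.2.2.2.2.1
  have ss : sign s0 = -1 := D.sign_odd hk hs0 (by decide +kernel) (by decide +kernel) (v := (1, 1, 0)) rfl
    fusion_facts.1 fusion_facts.2.2.2.1
  have fpq : fixCount (D.p * D.q) = 2 := (six_invol_fix _ hpq2 hpq1).2.2 (by rw [map_mul, sp, sq]; simp)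
  have fp : fixCount D.p ≠ 2 := fun e => by
    have := (six_invol_fix _ hp2 hp1).2.1 e
    rw [sp] at this
    exact absurd this (by decide)
  have fs : fixCount s0 ≠ 2 := fun e => by
    have := (six_invol_fix _ hs2 hs1).2.1 e
    rw [ss] at this
    exact absurd this (by decide)
  have fne : fixCount D.p ≠ fixCount s0 := fun e => by
    obtain ⟨k, hk'⟩ := six_conj_of_fix hp2 hp1 hs2 hs1 e
    refine (F.eps_not_conj hk).1 (isConj_iff.mpr ⟨D.Φ k, ?_⟩)
    rw [← D.hp, ← hs0, mul_inv_eq_iff_eq_mul, ← map_mul, hk', map_mul]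
  have hconj : ∀ {z : Perm (Fin 6)} {r : Fin 48}, z * z = 1 → z ≠ 1 → D.Φ z = F.el (rot r) →
      fixCount y = fixCount z → ∃ k : Perm (Fin 6), D.Φ k * D.Φ y * (D.Φ k)⁻¹ = F.el (rot r) := by
    intro z r hz2 hz1 hz e
    obtain ⟨k, hk'⟩ := six_conj_of_fix h2 h1 hz2 hz1 e
    exact ⟨k, by rw [← hz, mul_inv_eq_iff_eq_mul, ← map_mul, hk', map_mul]⟩
  have fy := (six_invol_fix y h2 h1).1
  have fp' := (six_invol_fix _ hp2 hp1).1
  have fs' := (six_invol_fix _ hs2 hs1).1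
  rcases (by omega : fixCount y = fixCount D.p ∨ fixCount y = fixCount s0 ∨ fixCount y = fixCount (D.p * D.q))
    with e | e | e
  · obtain ⟨k, e'⟩ := hconj hp2 hp1 D.hp e
    exact ⟨6, by simp, k, e', fun _ => e⟩
  · obtain ⟨k, e'⟩ := hconj hs2 hs1 hs0 e
    exact ⟨1, by simp, k, e', fun h => absurd h (by decide)⟩
  · obtain ⟨k, e'⟩ := hconj hpq2 hpq1 hpq e
    exact ⟨18, by simp, k, e', fun h => absurd h (by decide)⟩

theorem SixData.invol_of_conj {y : Perm (Fin 6)} (h : IsConj (F.el (rot 6)) (D.Φ y)) : y * y = 1 ∧ y ≠ 1 := by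
  obtain ⟨g, hg⟩ := isConj_iff.mp h
  refine ⟨D.inj ?_, fun e => ?_⟩
  · rw [map_mul, map_one, ← hg, conj_mul, F.el_sq_one (F.mem_all hk _) (by decide +kernel), mul_one, mul_inv_cancel]
  · rw [e, map_one, conj_eq_one_iff] at hg
    exact absurd (congrArg Mon.g (F.el_inj _ (F.mem_all hk _) 1 (one_mem _) (hg.trans F.el_one.symm))) (by decide)

/-- The conjugates in the symmetric group. -/
theorem SixData.fix_of_conj {y : Perm (Fin 6)} (h : IsConj (F.el (rot 6)) (D.Φ y)) : fixCount y = fixCount D.p := by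
  obtain ⟨h2, h1⟩ := D.invol_of_conj hk h
  obtain ⟨r, hr, k, e, hr6⟩ := D.class_cases hk h2 h1
  have hc : IsConj (F.el (rot 6)) (F.el (rot r)) := h.trans (isConj_iff.mpr ⟨_, e⟩)
  simp only [List.mem_cons, List.not_mem_nil, or_false] at hr
  rcases hr with rfl | rfl | rfl
  · exact hr6 rfl
  · exact absurd hc (D.eps_not_eighteen hk)
  · exact absurd hc (F.eps_not_conj hk).1

/-- The conjugates in the coset of the sign change of the last block. -/
theorem SixData.eq_one_of_conj_coset {y : Perm (Fin 6)} (h : IsConj (F.el (rot 6)) (F.el rt3 * D.Φ y)) : y = 1 := by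
  by_contra h1
  obtain ⟨g, hg⟩ := isConj_iff.mp h
  have hsq : F.el rt3 * D.Φ y * (F.el rt3 * D.Φ y) = 1 := by
    rw [← hg, conj_mul, F.el_sq_one (F.mem_all hk _) (by decide +kernel), mul_one, mul_inv_cancel]
  have h2 : y * y = 1 := by
    refine D.inj ?_
    rw [show F.el rt3 * D.Φ y * (F.el rt3 * D.Φ y) = F.el rt3 * (D.Φ y * F.el rt3) * D.Φ y by group, D.comm_t3,
      ← mul_assoc, F.el_sq_one (F.mem_all hk _) (by decide +kernel), one_mul] at hsq
    rw [map_mul, map_one, hsq]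
  obtain ⟨r, hr, k, e, -⟩ := D.class_cases hk h2 h1
  have hc : IsConj (F.el (rot 6)) (F.el (rt3 * rot r)) := h.trans (isConj_iff.mpr ⟨D.Φ k, by
    rw [F.el_mul _ (F.mem_all hk _) _ (F.mem_all hk _), ← e, ← mul_assoc, D.comm_t3]
    group⟩)
  simp only [List.mem_cons, List.not_mem_nil, or_false] at hr
  rcases hr with rfl | rfl | rfl
  · rw [fusion_facts.2.2.2.2.2.2.1] at hc
    obtain ⟨n, hn⟩ := thirty_conj
    exact D.eps_not_eighteen hk (hc.trans (F.isConj_el (F.mem_all hk _) (F.mem_all hk _) (F.mem_all hk _) hn))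
  · rw [fusion_facts.2.2.2.2.2.2.2.1] at hc
    exact (F.eps_not_conj hk).2.2 hc
  · rw [fusion_facts.2.2.2.2.2.2.2.2.1] at hc
    exact (F.eps_not_conj hk).2.1 hc

end Frame

end CfsgLib.Sym9Three
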