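import Cfsg.Agent.Lib.Sym9Three.InvMain
import Cfsg.Agent.Lib.PComplement
import Cfsg.Agent.S3805

set_option autoImplicit false
set_option linter.style.haveILetI false

/-!
A self-centralizing subgroup of order nine with small centralizers and an automizer of exponent two and
order at most four is normal.
-/

namespace CfsgLib.Sym9Three

open CfsgLib.ThreeCC Subgroup

universe u

variable {G : Type u} [Group G] [Finite G]

theorem not_isCyclic_of_exp_three {A : Subgroup G} (hexp : ∀ a ∈ A, a ^ 3 = 1) (hcard : 3 < Nat.card A) :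
    ¬ IsCyclic A := fun hc => by
  obtain ⟨⟨a, ha⟩, hgen⟩ := hc.exists_generator
  have h1 : orderOf (⟨a, ha⟩ : A) = Nat.card A := orderOf_eq_card_of_forall_mem_zpowers hgen
  have h2 : orderOf (⟨a, ha⟩ : A) ∣ 3 := orderOf_dvd_of_pow_eq_one (Subtype.ext (hexp a ha))
  have := Nat.le_of_dvd (by norm_num) h2
  omega

/-- The setting from a self-centralizing subgroup of order nine. -/
theorem exists_setting (A : Subgroup G) (hcard : Nat.card A = 9) (hab : ∀ a ∈ A, ∀ b ∈ A, a * b = b * a)
    (hexp : ∀ a ∈ A, a ^ 3 = 1) (hself : Subgroup.centralizer (A : Set G) ≤ A)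
    (hcent : ∀ a ∈ A, a ≠ 1 → Subgroup.centralizer ({a} : Set G) ≤ Subgroup.normalizer (A : Set G))
    (h27 : ¬ 27 ∣ Nat.card (Subgroup.normalizer (A : Set G))) :
    ∃ d : Setting G, (d.T : Subgroup G) = A := by
  haveI : Fact (Nat.Prime 3) := ⟨Nat.prime_three⟩
  obtain ⟨P, hP⟩ := (IsPGroup.of_card (p := 3) (n := 2) (G := A) hcard).exists_le_sylow
  have hPA : (P : Subgroup G) = A := by
    by_contra hne
    have hlt : A.subgroupOf (P : Subgroup G) < ⊤ :=
      lt_top_iff_ne_top.mpr fun e => hne (le_antisymm (Subgroup.subgroupOf_eq_top.mp e) hP)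
    haveI : Group.IsNilpotent (P : Subgroup G) := P.2.isNilpotent
    have h := Group.normalizerCondition_of_isNilpotent _ hlt
    have hsub : (Subgroup.normalizer ((A.subgroupOf (P : Subgroup G) : Subgroup (P : Subgroup G)) : Set (P : Subgroup G))).map
        (P : Subgroup G).subtype ≤ Subgroup.normalizer (A : Set G) := by
      rintro _ ⟨n, hn, rfl⟩
      rw [Subgroup.mem_normalizer_iff]
      intro z
      refine ⟨fun hz => (Subgroup.mem_normalizer_iff.mp hn ⟨z, hP hz⟩).mp hz, fun hz => ?_⟩
      have hzP : z ∈ (P : Subgroup G) := by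
        have := mul_mem (mul_mem (inv_mem n.2) (hP hz)) n.2
        simpa [mul_assoc] using this
      exact (Subgroup.mem_normalizer_iff.mp hn ⟨z, hzP⟩).mpr hz
    have hd := Subgroup.card_dvd_of_le hsub
    rw [Subgroup.card_map_of_injective (P : Subgroup G).subtype_injective] at hd
    have hlt2 := Subgroup.card_le_card_group
      (Subgroup.normalizer ((A.subgroupOf (P : Subgroup G) : Subgroup (P : Subgroup G)) : Set (P : Subgroup G)))
    obtain ⟨j, hj⟩ := (P.2.to_subgroup
      (Subgroup.normalizer ((A.subgroupOf (P : Subgroup G) : Subgroup (P : Subgroup G)) : Set (P : Subgroup G)))).exists_card_eq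
    have h9 : Nat.card (A.subgroupOf (P : Subgroup G)) = 9 := by
      rw [Nat.card_congr (Subgroup.subgroupOfEquivOfLe hP).toEquiv, hcard]
    have hgt : 9 < 3 ^ j := by
      rw [← hj]
      by_contra hle
      exact h.ne (Subgroup.eq_of_le_of_card_ge h.le (by rw [h9]; omega))
    have h3 : 3 ≤ j := by
      by_contra h3
      interval_cases j <;> norm_num at hgt
    exact h27 ((show (27 : ℕ) = 3 ^ 3 by norm_num) ▸ (pow_dvd_pow 3 h3).trans (hj ▸ hd))
  exact ⟨{ T := P
           ab := hPA ▸ hab
           exp := hPA ▸ hexp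
           self := hPA ▸ hself
           cent := hPA ▸ hcent }, hPA⟩

variable (d : Setting G)

/-- Burnside's criterion in a normal subgroup meeting the normalizer in the Sylow subgroup. -/
theorem top_of_burnside (hnc : ¬ IsCyclic (d.T : Subgroup G)) (H : Subgroup G) [H.Normal]
    (hTH : (d.T : Subgroup G) ≤ H)
    (hNH : ∀ n ∈ Subgroup.normalizer ((d.T : Subgroup G) : Set G), n ∈ H → n ∈ (d.T : Subgroup G)) :
    Subgroup.normalizer ((d.T : Subgroup G) : Set G) = ⊤ := by
  haveI : Fact (Nat.Prime 3) := ⟨Nat.prime_three⟩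
  let TH : Sylow 3 H := d.T.subtype hTH
  have hmem : ∀ z : H, z ∈ (TH : Subgroup H) ↔ (z : G) ∈ (d.T : Subgroup G) := fun z => Iff.rfl
  have hle : Subgroup.normalizer ((TH : Subgroup H) : Set H) ≤ Subgroup.centralizer ((TH : Subgroup H) : Set H) := by
    intro n hn
    have hnN : (n : G) ∈ Subgroup.normalizer ((d.T : Subgroup G) : Set G) := by
      rw [Subgroup.mem_normalizer_iff]
      intro z
      refine ⟨fun hz => (Subgroup.mem_normalizer_iff.mp hn ⟨z, hTH hz⟩).mp hz, fun hz => ?_⟩
      have hzH : z ∈ H := by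
        have := mul_mem (mul_mem (inv_mem n.2) (hTH hz)) n.2
        simpa [mul_assoc] using this
      exact (Subgroup.mem_normalizer_iff.mp hn ⟨z, hzH⟩).mpr hz
    exact Subgroup.mem_centralizer_iff.mpr fun z hz => Subtype.ext (d.ab _ hz _ (hNH _ hnN n.2))
  obtain ⟨Q, U, hU, hcompl⟩ := CfsgLib.hasNormalPComplement_of_normalizer_le_centralizer TH hle
  haveI := hU
  have hUcop : (Nat.card U).Coprime 3 := by
    rw [Nat.coprime_comm, Nat.prime_three.coprime_iff_not_dvd]
    intro h
    apply Q.not_dvd_index
    have h2 := hcompl.card_mul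
    have : (Q : Subgroup H).index = Nat.card U := by
      apply Nat.eq_of_mul_eq_mul_left (Nat.card_pos (α := (Q : Subgroup H)))
      rw [(Q : Subgroup H).card_mul_index, ← h2, mul_comm]
    rw [this]; exact h
  have hU1 : U = ⊥ := by
    have h1 := CfsgLib.map_pPrimeCore_le 3 H
    have h2 : Cfsg.pPrimeCore 3 G = ⊥ := d.normal_coprime_eq_bot hnc _ (CfsgLib.card_pPrimeCore_coprime 3)
    rw [h2, le_bot_iff, Subgroup.map_eq_bot_iff_of_injective _ H.subtype_injective] at h1
    have h3 := CfsgLib.le_pPrimeCore hUcop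
    rwa [h1, le_bot_iff] at h3
  have hQtop : (Q : Subgroup H) = ⊤ := by
    have := hcompl.sup_eq_top
    rwa [hU1, bot_sup_eq] at this
  have hTtop : (TH : Subgroup H) = ⊤ := Subgroup.eq_top_of_card_eq _ (by
    rw [TH.card_eq_multiplicity, ← Q.card_eq_multiplicity, hQtop, Subgroup.card_top])
  have hHT : H ≤ (d.T : Subgroup G) := fun z hz => (hmem ⟨z, hz⟩).mp (hTtop ▸ Subgroup.mem_top _)
  refine (Subgroup.normalizer_eq_top_iff).mpr ?_
  rw [le_antisymm hTH hHT]
  infer_instance

theorem three_pow_add (u : G) (hu : u ^ 3 = 1) (a b : ZMod 3) : u ^ (a + b).val = u ^ a.val * u ^ b.val := by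
  rw [ZMod.val_add, ← pow_add, ← pow_eq_pow_mod _ hu]

/-- An automizer of order two. -/
theorem top_of_order_two (hcard : Nat.card (d.T : Subgroup G) = 9) {t : G}
    (ht : t ∈ Subgroup.normalizer ((d.T : Subgroup G) : Set G)) (htT : t ∉ (d.T : Subgroup G)) (htt : t * t = 1)
    (hN : ∀ n ∈ Subgroup.normalizer ((d.T : Subgroup G) : Set G),
      n ∈ (d.T : Subgroup G) ∨ n * t ∈ (d.T : Subgroup G))
    (hNcard : Nat.card (Subgroup.normalizer ((d.T : Subgroup G) : Set G)) = 18) :
    Subgroup.normalizer ((d.T : Subgroup G) : Set G) = ⊤ := by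
  classical
  haveI : Fact (Nat.Prime 3) := ⟨Nat.prime_three⟩
  set N := Subgroup.normalizer ((d.T : Subgroup G) : Set G) with hNdef
  have hnc : ¬ IsCyclic (d.T : Subgroup G) := not_isCyclic_of_exp_three d.exp (by rw [hcard]; norm_num)
  have htinv : t⁻¹ = t := inv_eq_of_mul_eq_one_right htt
  have htA : ∀ a ∈ (d.T : Subgroup G), t * a * t ∈ (d.T : Subgroup G) := fun a ha => by
    have := (Subgroup.mem_normalizer_iff.mp ht a).mp ha
    rwa [htinv] at this
  have hNlist : ∀ n ∈ N, ∃ a ∈ (d.T : Subgroup G), n = a ∨ n = a * t := fun n hn => by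
    rcases hN n hn with h | h
    · exact ⟨n, h, Or.inl rfl⟩
    · exact ⟨n * t, h, Or.inr (by rw [mul_assoc, htt, mul_one])⟩
  letI : CommGroup (d.T : Subgroup G) :=
    { (inferInstance : Group (d.T : Subgroup G)) with
      mul_comm := fun a b => Subtype.ext (d.ab a a.2 b b.2) }
  let f : (d.T : Subgroup G) →* (d.T : Subgroup G) :=
    { toFun := fun a => a * ⟨t * a * t, htA a a.2⟩
      map_one' := Subtype.ext (show 1 * (t * 1 * t) = (1 : G) by rw [one_mul, mul_one, htt])
      map_mul' := fun a b => by
        have e : (⟨t * (a * b : (d.T : Subgroup G)) * t, htA _ (a * b).2⟩ : (d.T : Subgroup G)) =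
            ⟨t * a * t, htA a a.2⟩ * ⟨t * b * t, htA b b.2⟩ := Subtype.ext (by
          show t * ((a : G) * b) * t = t * a * t * (t * b * t)
          rw [show t * (a : G) * t * (t * b * t) = t * a * (t * t) * b * t by group, htt, mul_one]
          group)
        show a * b * _ = _
        rw [e]; exact mul_mul_mul_comm _ _ _ _ }
  by_cases hfix : ∃ w ∈ (d.T : Subgroup G), w ≠ 1 ∧ t * w * t = w
  · obtain ⟨w, hw, hw1, hwt⟩ := hfix
    set M := (MonoidHom.transfer f).ker with hM
    have hwM : w ∉ M := fun hmem => by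
      rw [hM, MonoidHom.mem_ker, MonoidHom.transfer_eq_pow] at hmem
      swap
      · intro k g₀ hk
        by_cases h1 : w ^ k = 1
        · rw [h1]; group
        have hg0 : g₀⁻¹ ∈ N := d.ctrl (pow_mem hw k) h1 (by rwa [inv_inv])
        obtain ⟨a, ha, e⟩ := hNlist _ hg0
        have hc : g₀⁻¹ * w = w * g₀⁻¹ := by
          rcases e with e | e
          · rw [e]; exact d.ab a ha w hw
          · rw [e]
            calc a * t * w = a * (t * w * t) * t := by rw [show a * (t * w * t) * t = a * (t * w) * (t * t) by group, htt]; group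
              _ = w * (a * t) := by rw [hwt, d.ab a ha w hw]; group
        have hck : g₀⁻¹ * w ^ k = w ^ k * g₀⁻¹ := (Commute.pow_right hc k).eq
        rw [hck, inv_mul_cancel_right]
      set n := (d.T : Subgroup G).index
      have e := congrArg Subtype.val hmem
      replace e : w ^ n * (t * w ^ n * t) = 1 := e
      have hc : t * w ^ n * t = w ^ n := by
        have hct : Commute t w := by
          show t * w = w * t
          conv_rhs => rw [← hwt]
          rw [mul_assoc (t * w), htt, mul_one]
        rw [(hct.pow_right n).eq, mul_assoc, htt, mul_one]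
      rw [hc, ← pow_add, ← two_mul] at e
      have h3 := orderOf_dvd_of_pow_eq_one e
      rw [orderOf_eq_prime (d.exp w hw) hw1] at h3
      rcases (Nat.prime_three.dvd_mul).mp h3 with h | h
      · norm_num at h
      · exact d.T.not_dvd_index h
    obtain ⟨v, hv, hv1, hvt⟩ : ∃ v ∈ (d.T : Subgroup G), v ≠ 1 ∧ t * v * t = v⁻¹ := by
      by_contra hno
      push Not at hno
      refine htT (d.self (Subgroup.mem_centralizer_iff.mpr fun a ha => ?_))
      by_contra hat
      refine hno (a * (t * a * t)⁻¹) (mul_mem ha (inv_mem (htA a ha))) (fun e => hat ?_) ?_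
      · rw [mul_inv_eq_one] at e
        calc a * t = t * a * t * t := by rw [← e]
          _ = t * a := by rw [mul_assoc, htt, mul_one]
      · simp only [mul_inv_rev, inv_inv, htinv]
        rw [show t * (a * (t * (a⁻¹ * t))) * t = t * a * t * a⁻¹ * (t * t) by group, htt, mul_one]
    have hvM : v ∈ M := by
      rw [hM, MonoidHom.mem_ker]
      set φ := MonoidHom.transfer f
      have h2 : φ v * φ v = 1 := by
        have := congrArg φ hvt
        rw [map_mul, map_mul, map_inv, mul_comm (φ t) (φ v), mul_assoc, ← map_mul, htt, map_one, mul_one] at this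
        rw [eq_inv_iff_mul_eq_one] at this
        exact this
      have h3 : φ v * φ v * φ v = 1 := by rw [← map_mul, ← map_mul, ← pow_three', d.exp v hv, map_one]
      rwa [h2, one_mul] at h3
    refine d.top_of_self_centralizing hnc (by rw [← hNdef, hNcard]; norm_num) (by rw [← hNdef, hNcard]; norm_num)
      M hv hv1 hvM fun m hm hmv => ?_
    have hmN : m ∈ N := d.cent v hv hv1 (Subgroup.mem_centralizer_singleton_iff.mpr hmv)
    obtain ⟨a, ha, e⟩ := hNlist m hmN
    rcases e with rfl | rfl
    · -- the part in the Sylow subgroup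
      set T' := (d.T : Subgroup G) ⊓ M with hT'
      have hd : Nat.card T' ∣ 3 ^ 2 := by
        have := Subgroup.card_dvd_of_le (inf_le_left : T' ≤ (d.T : Subgroup G))
        rwa [hcard] at this
      obtain ⟨i, hi, he⟩ := (Nat.dvd_prime_pow Nat.prime_three).mp hd
      have hle : Subgroup.zpowers v ≤ T' := Subgroup.zpowers_le.mpr ⟨hv, hvM⟩
      have hz : Nat.card (Subgroup.zpowers v) = 3 := by rw [Nat.card_zpowers, orderOf_eq_prime (d.exp v hv) hv1]
      have hi1 : i ≤ 1 := by
        by_contra h
        have : T' = (d.T : Subgroup G) := Subgroup.eq_of_le_of_card_ge inf_le_left (by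
          rw [he, hcard, show i = 2 by omega]; norm_num)
        exact hwM ((this ▸ inf_le_right : (d.T : Subgroup G) ≤ M) hw)
      have hzT : Subgroup.zpowers v = T' := Subgroup.eq_of_le_of_card_ge hle (by
        rw [he, hz]; interval_cases i <;> norm_num)
      rw [hzT]; exact ⟨ha, hm⟩
    · exfalso
      have h : v⁻¹ = v := by
        rw [← hvt]
        have h1 : a * (t * v) = v * (a * t) := by rw [← mul_assoc]; exact hmv
        rw [← mul_assoc v, d.ab v hv a ha, mul_assoc a v] at h1
        rw [mul_left_cancel h1, mul_assoc, htt, mul_one]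
      rw [inv_eq_iff_mul_eq_one] at h
      have h3 := d.exp v hv
      rw [pow_three', h, one_mul] at h3
      exact hv1 h3
  · push Not at hfix
    have hinv : ∀ a ∈ (d.T : Subgroup G), t * a * t = a⁻¹ := fun a ha => by
      by_contra h
      refine hfix (a * (t * a * t)) (mul_mem ha (htA a ha)) (fun e => h (eq_inv_of_mul_eq_one_right e)) ?_
      rw [show t * (a * (t * a * t)) * t = t * a * t * a * (t * t) by group, htt, mul_one,
        d.ab (t * a * t) (htA a ha) a ha]
    obtain ⟨u, hu, hu1⟩ : ∃ u ∈ (d.T : Subgroup G), u ≠ 1 :=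
      (d.T : Subgroup G).ne_bot_iff_exists_ne_one.mp (fun e => by rw [e, Subgroup.card_bot] at hcard; norm_num at hcard)
        |>.elim fun a ha => ⟨a, a.2, fun e => ha (Subtype.ext e)⟩
    have hu3 := d.exp u hu
    obtain ⟨v, hv, hvu⟩ : ∃ v ∈ (d.T : Subgroup G), v ∉ Subgroup.zpowers u := by
      by_contra hno
      push Not at hno
      have := Nat.le_of_dvd (Nat.card_pos) (Subgroup.card_dvd_of_le (H := (d.T : Subgroup G)) hno)
      rw [hcard, Nat.card_zpowers, orderOf_eq_prime hu3 hu1] at this
      omega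
    have hv3 := d.exp v hv
    let emb : V2 → G := fun x => u ^ x.1.val * v ^ x.2.val
    have hadd : ∀ x y, emb (x + y) = emb x * emb y := fun x y => by
      show u ^ (x.1 + y.1).val * v ^ (x.2 + y.2).val = _
      rw [three_pow_add u hu3, three_pow_add v hv3]
      exact Commute.mul_mul_mul_comm (d.ab _ (pow_mem hu _) _ (pow_mem hv _)) _ _
    have hzero : ∀ x, emb x = 1 → x = 0 := fun x hx => by
      have h2 : x.2 = 0 := by
        by_contra h2
        have hmem : v ^ x.2.val ∈ Subgroup.zpowers u := by
          rw [eq_inv_of_mul_eq_one_right hx]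
          exact inv_mem (pow_mem (Subgroup.mem_zpowers u) _)
        rcases z3_cases x.2 with e | e | e
        · exact h2 e
        · rw [e, show (1 : ZMod 3).val = 1 from rfl, pow_one] at hmem
          exact hvu hmem
        · rw [e, show (2 : ZMod 3).val = 2 from rfl] at hmem
          refine hvu ?_
          rw [show v = (v ^ 2)⁻¹ by rw [eq_inv_iff_mul_eq_one, ← pow_succ', hv3]]
          exact inv_mem hmem
      have h1 : u ^ x.1.val = 1 := by simpa [emb, h2] using hx
      have h3 := orderOf_dvd_of_pow_eq_one h1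
      rw [orderOf_eq_prime hu3 hu1] at h3
      exact Prod.ext ((ZMod.val_eq_zero _).mp (Nat.eq_zero_of_dvd_of_lt h3 (ZMod.val_lt _))) h2
    have hneg : ∀ x, emb (-x) = (emb x)⁻¹ := fun x => by
      rw [eq_inv_iff_mul_eq_one, ← hadd, neg_add_cancel]
      simp [emb]
    have hinj : Function.Injective emb := fun x y h => by
      rw [← sub_eq_zero]
      apply hzero
      rw [sub_eq_add_neg, hadd, hneg, h, mul_inv_cancel]
    have hmemT : ∀ x, emb x ∈ (d.T : Subgroup G) := fun x => mul_mem (pow_mem hu _) (pow_mem hv _)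
    have hsurj : ∀ a ∈ (d.T : Subgroup G), ∃ x, a = emb x := by
      intro a ha
      let e : V2 → (d.T : Subgroup G) := fun x => ⟨emb x, hmemT x⟩
      have he : Function.Bijective e := by
        refine (Nat.bijective_iff_injective_and_card e).mpr ⟨fun x y h => hinj (congrArg Subtype.val h), ?_⟩
        rw [hcard, Nat.card_eq_fintype_card]; rfl
      obtain ⟨x, hx⟩ := he.2 ⟨a, ha⟩
      exact ⟨x, (congrArg Subtype.val hx).symm⟩
    have hne : ∀ x : V2, x ≠ 0 → emb x ≠ 1 := fun x hx e => hx (hzero x e)
    let D : Inv9 G :=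
      { emb := emb
        emb_add := hadd
        emb_inj := hinj
        t := t
        tt := htt
        t_emb := fun x => by
          rw [hneg, ← hinv _ (hmemT x), mul_assoc (t * emb x), htt, mul_one]
        ctrl := fun g x y hx h => by
          obtain ⟨a, ha, e⟩ := hNlist g (d.ctrl (hmemT x) (hne x hx) (h ▸ hmemT y))
          obtain ⟨z, rfl⟩ := hsurj a ha
          exact ⟨z, e⟩
        cent := fun g x hx h => by
          obtain ⟨a, ha, e⟩ := hNlist g (d.cent _ (hmemT x) (hne x hx) (Subgroup.mem_centralizer_singleton_iff.mpr h))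
          obtain ⟨z, rfl⟩ := hsurj a ha
          refine ⟨z, e.resolve_right fun e' => hne x hx ?_⟩
          rw [e'] at h
          have h1 : emb z * (t * emb x) = emb z * (emb x * t) := by
            calc emb z * (t * emb x) = emb z * t * emb x := (mul_assoc _ _ _).symm
              _ = emb x * (emb z * t) := h
              _ = emb x * emb z * t := (mul_assoc _ _ _).symm
              _ = emb z * emb x * t := by rw [d.ab _ (hmemT x) _ (hmemT z)]
              _ = _ := mul_assoc _ _ _
          have h2 : (emb x)⁻¹ = emb x := by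
            rw [← hinv _ (hmemT x), mul_left_cancel h1, mul_assoc, htt, mul_one]
          rw [inv_eq_iff_mul_eq_one] at h2
          have h3 := d.exp _ (hmemT x)
          rwa [pow_three', h2, one_mul] at h3 }
    haveI := Fintype.ofFinite G
    obtain ⟨φ, hφt, hφe⟩ := D.exists_hom
    refine top_of_burnside d hnc φ.ker (fun a ha => ?_) fun n hn hnH => ?_
    · obtain ⟨x, rfl⟩ := hsurj a ha
      exact hφe x
    · obtain ⟨a, ha, e⟩ := hNlist n hn
      rcases e with rfl | rfl
      · exact ha
      · exfalso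
        obtain ⟨x, rfl⟩ := hsurj a ha
        rw [MonoidHom.mem_ker, map_mul, show φ (emb x) = 1 from hφe x, one_mul] at hnH
        exact hφt hnH

/-- An automizer of exponent two and order at most four. -/
theorem top_of_small (hcard : Nat.card (d.T : Subgroup G) = 9)
    (hsq : ∀ n ∈ Subgroup.normalizer ((d.T : Subgroup G) : Set G), n * n ∈ (d.T : Subgroup G))
    (hN : Nat.card (Subgroup.normalizer ((d.T : Subgroup G) : Set G)) ∣ 36) :
    Subgroup.normalizer ((d.T : Subgroup G) : Set G) = ⊤ := by
  classical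
  set N := Subgroup.normalizer ((d.T : Subgroup G) : Set G) with hNdef
  have hnc : ¬ IsCyclic (d.T : Subgroup G) := not_isCyclic_of_exp_three d.exp (by rw [hcard]; norm_num)
  have hTN : (d.T : Subgroup G) ≤ N := Subgroup.le_normalizer
  set T' := (d.T : Subgroup G).subgroupOf N with hT'
  have hcT' : Nat.card T' = 9 := by rw [hT', Nat.card_congr (Subgroup.subgroupOfEquivOfLe hTN).toEquiv, hcard]
  have hmul := T'.card_mul_index
  rw [hcT'] at hmul
  have hidx : T'.index ∣ 4 := by
    rw [← hmul] at hN
    exact Nat.dvd_of_mul_dvd_mul_left (by norm_num) (hN : 9 * T'.index ∣ 9 * 4)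
  rcases (Nat.dvd_prime_pow Nat.prime_two).mp (show T'.index ∣ 2 ^ 2 from hidx) with ⟨i, hi, he⟩
  interval_cases i
  · refine top_of_burnside d hnc ⊤ le_top fun n hn _ => ?_
    have := Subgroup.index_eq_one.mp he
    exact (show (⟨n, hn⟩ : N) ∈ T' from this ▸ Subgroup.mem_top _)
  · haveI : Fact (Nat.Prime 2) := ⟨Nat.prime_two⟩
    have h2 : 2 ∣ Nat.card N := ⟨9, by rw [← hmul, he]; norm_num⟩
    obtain ⟨⟨t, ht⟩, hto⟩ := exists_prime_orderOf_dvd_card' 2 h2
    rw [Subgroup.orderOf_mk] at hto
    have htt : t * t = 1 := by rw [← pow_two, ← hto, pow_orderOf_eq_one]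
    have htT : t ∉ (d.T : Subgroup G) := fun h => by
      have h3 := orderOf_dvd_of_pow_eq_one (d.exp t h)
      rw [hto] at h3
      norm_num at h3
    refine top_of_order_two d hcard ht htT htt (fun n hn => ?_) (by rw [← hNdef, ← hmul, he]; norm_num)
    by_cases h : n ∈ (d.T : Subgroup G)
    · exact Or.inl h
    · right
      have := (Subgroup.mul_mem_iff_of_index_two (by rw [he, pow_one] : T'.index = 2) (a := ⟨n, hn⟩) (b := ⟨t, ht⟩))
      exact this.mpr ⟨fun h' => absurd h' h, fun h' => absurd h' htT⟩
  · haveI hn : T'.Normal := ⟨fun z hz g => (Subgroup.mem_normalizer_iff.mp g.2 z).mp hz⟩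
    refine Cfsg.Agent.S3805.result d.T ⟨⟨⟨fun a b => Subtype.ext (d.ab a a.2 b b.2)⟩⟩, d.exp⟩ hcard
      (le_antisymm d.self fun z hz => Subgroup.mem_centralizer_iff.mpr fun y hy => d.ab y hy z hz) ?_ d.cent
    have h4 : Nat.card (N ⧸ T') = 4 := by rw [← Subgroup.index, he]; norm_num
    haveI : Nontrivial (N ⧸ T') := Finite.one_lt_card_iff_nontrivial.mp (by rw [h4]; norm_num)
    refine ⟨h4, (Monoid.exponent_eq_prime_iff Nat.prime_two).mpr fun q hq => ?_⟩
    induction q using QuotientGroup.induction_on with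
    | H n =>
      refine orderOf_eq_prime ?_ hq
      rw [pow_two]
      exact (QuotientGroup.eq_one_iff (n * n)).mpr (hsq n n.2)

end CfsgLib.Sym9Three
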