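import Cfsg.Agent.Lib.Sym9Three.Count
import Mathlib.GroupTheory.Sylow

set_option autoImplicit false
set_option linter.style.haveILetI false
set_option synthInstance.maxSize 4000

/-!
Fusion of involutions when all sign changes are realized.
-/

namespace CfsgLib.Sym9Three

open Subgroup

/-- A subgroup containing all elements of three-power order normalizing it absorbs them up to conjugation. -/
theorem exists_conj_mem {G : Type*} [Group G] [Finite G] (C B : Subgroup G) (hBC : B ≤ C) (hB : IsPGroup 3 B)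
    (hmax : ∀ y ∈ C, y ∈ Subgroup.normalizer (B : Set G) → (∃ n : ℕ, y ^ 3 ^ n = 1) → y ∈ B)
    {z : G} (hz : z ∈ C) (hzp : ∃ n : ℕ, z ^ 3 ^ n = 1) : ∃ c ∈ C, c * z * c⁻¹ ∈ B := by
  haveI : Fact (Nat.Prime 3) := ⟨Nat.prime_three⟩
  obtain ⟨S, hS⟩ := (hB.comap_of_injective C.subtype C.subtype_injective).exists_le_sylow
  have hSB : (S : Subgroup C) ≤ B.comap C.subtype := by
    by_contra hne
    have hlt : (B.comap C.subtype).subgroupOf (S : Subgroup C) < ⊤ :=
      lt_top_iff_ne_top.mpr fun e => hne (Subgroup.subgroupOf_eq_top.mp e)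
    haveI : Group.IsNilpotent (S : Subgroup C) := S.2.isNilpotent
    obtain ⟨⟨g, hgS⟩, hgn, hgP⟩ := SetLike.exists_of_lt (Group.normalizerCondition_of_isNilpotent _ hlt)
    refine hgP (hmax (g : G) g.2 ?_ ?_)
    · rw [Subgroup.mem_normalizer_iff]
      intro b
      refine ⟨fun hb => ?_, fun hb => ?_⟩
      · exact (Subgroup.mem_normalizer_iff.mp hgn ⟨⟨b, hBC hb⟩, hS hb⟩).mp hb
      · have hbC : b ∈ C := by
          have := mul_mem (mul_mem (inv_mem g.2) (hBC hb)) g.2
          simpa [mul_assoc] using this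
        have hbS : (⟨b, hbC⟩ : C) ∈ (S : Subgroup C) := by
          have hw : g * ⟨b, hbC⟩ * g⁻¹ ∈ (S : Subgroup C) := hS hb
          have := mul_mem (mul_mem (inv_mem hgS) hw) hgS
          simpa [mul_assoc] using this
        exact (Subgroup.mem_normalizer_iff.mp hgn ⟨⟨b, hbC⟩, hbS⟩).mpr hb
    · obtain ⟨n, hn⟩ := S.2 ⟨g, hgS⟩
      exact ⟨n, congrArg (fun w : (S : Subgroup C) => ((w : C) : G)) hn⟩
  obtain ⟨n, hn⟩ := hzp
  have hZ : IsPGroup 3 (Subgroup.zpowers (⟨z, hz⟩ : C)) := fun w => ⟨n, by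
    obtain ⟨_, i, rfl⟩ := w
    refine Subtype.ext (Subtype.ext ?_)
    show (z ^ i) ^ 3 ^ n = 1
    rw [← zpow_natCast, ← zpow_mul, mul_comm, zpow_mul, zpow_natCast, hn, one_zpow]⟩
  obtain ⟨S', hS'⟩ := hZ.exists_le_sylow
  obtain ⟨c, hc⟩ := MulAction.exists_smul_eq C S' S
  refine ⟨c, c.2, hSB (hc ▸ ?_ : c * ⟨z, hz⟩ * c⁻¹ ∈ (S : Subgroup C))⟩
  rw [Sylow.coe_subgroup_smul]
  exact Subgroup.smul_mem_pointwise_smul _ (MulAut.conj c) (S' : Subgroup C) (hS' (Subgroup.mem_zpowers _))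

/-- The projection to the rotations. -/
def projR : Mon →* Mon where
  toFun m := rot m.g
  map_one' := rfl
  map_mul' a b := (rot_mul a.g b.g).symm

theorem g_eq_zero {m : Mon} {n : ℕ} (hn : (rot m.g) ^ (3 ^ n) = 1) (h8 : (rot m.g) ^ 8 = 1) : m.g = 0 := by
  have h := Nat.dvd_gcd (orderOf_dvd_of_pow_eq_one hn) (orderOf_dvd_of_pow_eq_one h8)
  rw [Nat.Coprime.gcd_eq_one (Nat.Coprime.pow_left n (by norm_num))] at h
  exact congrArg Mon.g (orderOf_eq_one_iff.mp (Nat.eq_one_of_dvd_one h))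

/-- The eighth power. -/
def eighth (m : Mon) : Mon := m * m * (m * m) * (m * m * (m * m))

theorem eighth_eq (m : Mon) : eighth m = m ^ 8 := by simp [eighth, pow_succ, mul_assoc]

theorem line_stab_two : ∀ v : V3, v.1 = 0 → v ≠ 0 → ∀ r : Fin 48, act r v = v → eighth (rot r) = 1 := by
  decide +kernel

theorem cent_eps : ∀ m : Mon, m * rot 6 = rot 6 * m → m.v.1 = 0 ∧ eighth (rot m.g) = 1 := by decide +kernel

theorem eps_sep : ∀ n : Mon, n * rot 1 ≠ rot 6 * n ∧ n * rot 25 ≠ rot 6 * n ∧ n * rot 18 ≠ rot 6 * n ∧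
    n * rot 42 ≠ rot 6 * n := by decide +kernel

theorem diag_line : ∀ r : Fin 48, ∀ v : V3, act r xv = v → v.1 ≠ 0 := by decide +kernel

universe u

variable {G : Type u} [Group G] [Finite G]

namespace Frame

variable (F : Frame G)

omit [Finite G] in
theorem mem_all (hk : F.k = 3) (m : Mon) : m ∈ Sub F.k := by rw [hk]; rfl

omit [Finite G] in
theorem el_pow {m : Mon} (hm : m ∈ Sub F.k) (n : ℕ) : F.el (m ^ n) = F.el m ^ n := by
  induction n with
  | zero => rw [pow_zero, pow_zero, F.el_one]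
  | succ n ih => rw [pow_succ, pow_succ, F.el_mul _ (pow_mem hm n) _ hm, ih]

omit [Finite G] in
/-- An element of three-power order of the model with rotation of two-power order is a translation. -/
theorem g_zero_of_el {m : Mon} (hm : m ∈ Sub F.k) (h8 : eighth (rot m.g) = 1) (h : ∃ n : ℕ, F.el m ^ 3 ^ n = 1) :
    m = tr m.v := by
  obtain ⟨n, hn⟩ := h
  rw [← F.el_pow hm] at hn
  have e := congrArg projR (F.el_inj _ (pow_mem hm _) 1 (one_mem _) (hn.trans F.el_one.symm))
  rw [map_pow, map_one] at e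
  have h0 := g_eq_zero (m := m) e (by rw [← eighth_eq]; exact h8)
  conv_lhs => rw [mon_split m, h0, show rot 0 = (1 : Mon) from rfl, mul_one]

omit [Finite G] in
theorem isPGroup_le_J {B : Subgroup G} (hB : B ≤ F.J) : IsPGroup 3 B := fun ⟨z, hz⟩ => ⟨1, Subtype.ext (by
  obtain ⟨v, rfl⟩ := (F.mem_J z).mp (hB hz)
  rw [pow_one, Subgroup.coe_pow, Subgroup.coe_one]
  exact F.j_cube v)⟩

/-- Elements of three-power order centralizing a translation on two blocks are conjugate there into the translations. -/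
theorem conj_into_J {v : V3} (hv1 : v.1 = 0) (hv : v ≠ 0) {y : G} (hy : y * F.j v = F.j v * y)
    (hyp : ∃ n : ℕ, y ^ 3 ^ n = 1) : ∃ c, c * F.j v = F.j v * c ∧ c * y * c⁻¹ ∈ F.J := by
  obtain ⟨c, hc, hcy⟩ := exists_conj_mem (Subgroup.centralizer ({F.j v} : Set G)) F.J
    (fun z hz => Subgroup.mem_centralizer_singleton_iff.mpr (F.J_comm hz (F.j_mem v)))
    (F.isPGroup_le_J le_rfl)
    (fun z hz hzN hzp => by
      obtain ⟨m, hm, e, hr⟩ := F.exists_of_comm hzN (Subgroup.mem_centralizer_singleton_iff.mp hz)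
      rw [← e] at hzp ⊢
      rw [F.g_zero_of_el hm (line_stab_two v hv1 hv _ hr) hzp]
      exact F.j_mem _)
    (Subgroup.mem_centralizer_singleton_iff.mpr hy) hyp
  exact ⟨c, Subgroup.mem_centralizer_singleton_iff.mp hc, hcy⟩

/-- A cycle of blocks is not conjugate to a translation on two blocks. -/
theorem cycle_not_line (hk : F.k = 3) {v : V3} (hv1 : v.1 = 0) : ¬ IsConj (F.el (rot 4)) (F.j v) := by
  intro h
  have h4 := F.mem_all hk (rot 4)
  obtain ⟨g, hg⟩ := isConj_iff.mp h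
  have hv : v ≠ 0 := fun e => by
    rw [e, F.j_zero, conj_eq_one_iff] at hg
    exact absurd (congrArg Mon.g (F.el_inj _ h4 1 (one_mem _) (hg.trans F.el_one.symm))) (by decide)
  have hy : g * F.j xv * g⁻¹ * F.j v = F.j v * (g * F.j xv * g⁻¹) := by
    rw [← hg]
    have hc : F.j xv * F.el (rot 4) = F.el (rot 4) * F.j xv :=
      (F.el_comm_iff (tr_mem_Sub _ _) h4).mpr (by decide +kernel)
    calc g * F.j xv * g⁻¹ * (g * F.el (rot 4) * g⁻¹) = g * (F.j xv * F.el (rot 4)) * g⁻¹ := by group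
      _ = g * (F.el (rot 4) * F.j xv) * g⁻¹ := by rw [hc]
      _ = g * F.el (rot 4) * g⁻¹ * (g * F.j xv * g⁻¹) := by group
  obtain ⟨c, hcv, hcy⟩ := F.conj_into_J hv1 hv hy ⟨1, by rw [pow_one, conj_pow, F.j_cube]; group⟩
  obtain ⟨w, hw⟩ := (F.mem_J _).mp hcy
  have hN : c * g ∈ F.N := F.ctrl_source (v := xv) (v' := w) F.good_x (by rw [show F.j w = _ from hw]; group)
  have e : c * g * F.el (rot 4) * (c * g)⁻¹ = F.j v := by
    calc c * g * F.el (rot 4) * (c * g)⁻¹ = c * (g * F.el (rot 4) * g⁻¹) * c⁻¹ := by group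
      _ = F.j v := by rw [hg, hcv, mul_inv_cancel_right]
  obtain ⟨n, hn, en⟩ := (F.mem_N _).mp hN
  rw [← en, ← F.el_inv hn, ← F.el_mul _ hn _ h4, ← F.el_mul _ (mul_mem hn h4) _ (inv_mem hn)] at e
  have e' := congrArg projR (F.el_inj _ (mul_mem (mul_mem hn h4) (inv_mem hn)) _ (tr_mem_Sub _ _) e)
  rw [map_mul, map_mul, map_inv] at e'
  exact absurd (congrArg Mon.g (conj_eq_one_iff.mp e')) (by decide)

/-- An element of order three centralizing a conjugate of the sign change of one block. -/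
theorem eps_conj_data (hk : F.k = 3) {u z : G} (hu : IsConj (F.el (rot 6)) u) (hz : z ^ 3 = 1) (hc : z * u = u * z) :
    ∃ g v, v.1 = 0 ∧ g * u * g⁻¹ = F.el (rot 6) ∧ g * z * g⁻¹ = F.j v := by
  have h6 := F.mem_all hk (rot 6)
  obtain ⟨d, hd⟩ := isConj_iff.mp hu
  let B : Subgroup G :=
    { carrier := {y | ∃ v : V3, v.1 = 0 ∧ F.j v = y}
      mul_mem' := by
        rintro _ _ ⟨v, hv, rfl⟩ ⟨w, hw, rfl⟩
        exact ⟨v + w, by simp [hv, hw], F.j_add v w⟩
      one_mem' := ⟨0, rfl, F.j_zero⟩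
      inv_mem' := by
        rintro _ ⟨v, hv, rfl⟩
        exact ⟨-v, by simp [hv], F.j_neg v⟩ }
  have hy : d⁻¹ * z * d ∈ Subgroup.centralizer ({F.el (rot 6)} : Set G) := by
    rw [Subgroup.mem_centralizer_singleton_iff]
    rw [← hd] at hc
    calc d⁻¹ * z * d * F.el (rot 6) = d⁻¹ * (z * (d * F.el (rot 6) * d⁻¹)) * d := by group
      _ = F.el (rot 6) * (d⁻¹ * z * d) := by rw [hc]; group
  obtain ⟨c, hcC, v, hv, hcz⟩ := exists_conj_mem (Subgroup.centralizer ({F.el (rot 6)} : Set G)) B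
    (by
      rintro _ ⟨v, hv, rfl⟩
      exact Subgroup.mem_centralizer_singleton_iff.mpr ((F.el_comm_iff (tr_mem_Sub _ _) h6).mpr
        ((by decide +kernel : ∀ v : V3, v.1 = 0 → tr v * rot 6 = rot 6 * tr v) v hv)))
    (F.isPGroup_le_J (by rintro _ ⟨v, hv, rfl⟩; exact F.j_mem v))
    (fun y hy hyN hyp => by
      obtain ⟨w, hw, ew⟩ := (Subgroup.mem_normalizer_iff.mp hyN (F.j (0, 1, 1))).mp ⟨_, rfl, rfl⟩
      have hyN' : y ∈ F.N := F.ctrl_source (v := (0, 1, 1)) (v' := w)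
        (F.good (by decide +kernel) fun _ => by decide +kernel) ew.symm
      obtain ⟨m, hm, rfl⟩ := (F.mem_N y).mp hyN'
      obtain ⟨h0, h8⟩ := cent_eps m ((F.el_comm_iff hm h6).mp (Subgroup.mem_centralizer_singleton_iff.mp hy))
      exact ⟨m.v, h0, congrArg F.el (F.g_zero_of_el hm h8 hyp).symm⟩)
    hy ⟨1, by
      have := conj_pow (i := 3) (a := d⁻¹) (b := z)
      rw [inv_inv] at this
      rw [pow_one, this, hz]; group⟩
  refine ⟨c * d⁻¹, v, hv, ?_, ?_⟩
  · rw [← hd]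
    calc c * d⁻¹ * (d * F.el (rot 6) * d⁻¹) * (c * d⁻¹)⁻¹ = c * F.el (rot 6) * c⁻¹ := by group
      _ = F.el (rot 6) := by rw [Subgroup.mem_centralizer_singleton_iff.mp hcC, mul_inv_cancel_right]
  · rw [hcz]; group

/-- An involution of the normalizer commuting with a translation with small centralizer is conjugate to the sign change
of one block only in the normalizer. -/
theorem eps_not_conj_of_good (hk : F.k = 3) {m : Mon} (hsep : ∀ n : Mon, n * m ≠ rot 6 * n) {w : V3}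
    (hw : F.Good w) (hc : tr w * m = m * tr w) : ¬ IsConj (F.el (rot 6)) (F.el m) := by
  intro h
  obtain ⟨g, v, -, hgu, hgz⟩ := F.eps_conj_data hk h (F.j_cube w)
    ((F.el_comm_iff (F.mem_all hk _) (F.mem_all hk _)).mpr hc)
  obtain ⟨n, hn, rfl⟩ := (F.mem_N g).mp (F.ctrl_source hw hgz)
  refine hsep n (F.el_inj _ (F.mem_all hk _) _ (F.mem_all hk _) ?_)
  rw [F.el_mul _ hn _ (F.mem_all hk _), F.el_mul _ (F.mem_all hk _) _ hn, ← hgu]
  group

/-- The sign change of one block is conjugate neither to the exchange of two blocks, nor to its product with the sign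
change of the third, nor to the change of all signs. -/
theorem eps_not_conj (hk : F.k = 3) : ¬ IsConj (F.el (rot 6)) (F.el (rot 1)) ∧
    ¬ IsConj (F.el (rot 6)) (F.el (rot 25)) ∧ ¬ IsConj (F.el (rot 6)) (F.el (rot 42)) := by
  have hw : F.Good (1, 1, 0) := F.good (by decide +kernel) fun _ => by decide +kernel
  refine ⟨F.eps_not_conj_of_good hk (fun n => (eps_sep n).1) hw (by decide +kernel),
    F.eps_not_conj_of_good hk (fun n => (eps_sep n).2.1) hw (by decide +kernel), fun h => ?_⟩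
  have h4 := F.mem_all hk (rot 4)
  obtain ⟨g, v, hv, -, hgz⟩ := F.eps_conj_data hk h (z := F.el (rot 4))
    (by rw [← F.el_pow h4, show rot 4 ^ 3 = (1 : Mon) by decide +kernel, F.el_one])
    ((F.el_comm_iff h4 (F.mem_all hk _)).mpr (by decide +kernel))
  exact F.cycle_not_line hk hv (isConj_iff.mpr ⟨g, hgz⟩)

end Frame

end CfsgLib.Sym9Three
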